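import Cfsg.Agent.Char.Gallagher
import Cfsg.Agent.Char.ExtUnique

/-!
# Irreducible restriction to a normal subgroup with abelian quotient (owner: helper78)
-/

set_option autoImplicit false
set_option linter.style.haveILetI false
set_option linter.unusedSectionVars false

namespace Cfsg.Agent.Char

open scoped ComplexConjugate
open Cfsg Cfsg.Agent.CharBase

universe u

/-- second orthogonality for linear characters of an abelian group -/
theorem sum_dual_eq {K : Type u} [Group K] [Finite K] (hab : ∀ a b : K, a * b = b * a)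
    [Fintype (K →* ℂˣ)] (v : K) [Decidable (v = 1)] :
    ∑ ν : K →* ℂˣ, ((ν v : ℂˣ) : ℂ) = if v = 1 then (Nat.card K : ℂ) else 0 := by
  letI : CommGroup K := { (inferInstance : Group K) with mul_comm := hab }
  split_ifs with hv
  · subst hv
    simp only [map_one, Units.val_one, Finset.sum_const, nsmul_eq_mul, mul_one]
    have := CommGroup.card_monoidHom_of_hasEnoughRootsOfUnity K ℂ
    rw [← this, Nat.card_eq_fintype_card]
    rfl
  · obtain ⟨φ, hφ⟩ := CommGroup.exists_apply_ne_one_of_hasEnoughRootsOfUnity K ℂ hv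
    have h3 : ((φ v : ℂˣ) : ℂ) * ∑ ν : K →* ℂˣ, ((ν v : ℂˣ) : ℂ) =
        ∑ ν : K →* ℂˣ, ((ν v : ℂˣ) : ℂ) := by
      rw [Finset.mul_sum]
      refine Fintype.sum_equiv (Equiv.mulLeft φ) _ _ fun ν => ?_
      simp
    have h4 : (((φ v : ℂˣ) : ℂ) - 1) * ∑ ν : K →* ℂˣ, ((ν v : ℂˣ) : ℂ) = 0 := by
      rw [sub_mul, h3, one_mul, sub_self]
    rcases mul_eq_zero.1 h4 with h5 | h5
    · exfalso; apply hφ; ext; rw [Units.val_one]; exact sub_eq_zero.1 h5
    · exact h5

variable {G : Type u} [Group G] [Fintype G]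

/-- the inflation of a linear character of the quotient -/
noncomputable def inflHom (N : Subgroup G) [N.Normal] (ν : (G ⧸ N) →* ℂˣ) : G →* ℂ :=
  ((Units.coeHom ℂ).comp ν).comp (QuotientGroup.mk' N)

theorem inflHom_apply (N : Subgroup G) [N.Normal] (ν : (G ⧸ N) →* ℂˣ) (g : G) :
    inflHom N ν g = ((ν (g : G ⧸ N) : ℂˣ) : ℂ) := rfl

/-- If `G / N` is abelian and `λ χ = χ` only for `λ = 1` then the restriction of `χ` to `N` is
irreducible. -/
theorem restrict_irr_of_forall (N : Subgroup G) [N.Normal] (hab : ∀ a b : G ⧸ N, a * b = b * a)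
    {χ : G → ℂ} (hχ : IsIrrCharacter G χ)
    (h : ∀ ν : (G ⧸ N) →* ℂˣ, (inflHom N ν : G → ℂ) * χ = χ → ν = 1) :
    IsIrrCharacter N (fun n : N => χ n) := by
  classical
  haveI : Fintype N := Fintype.ofFinite N
  haveI : Finite ((G ⧸ N) →* ℂˣ) := by
    letI : CommGroup (G ⧸ N) := { (inferInstance : Group (G ⧸ N)) with mul_comm := hab }
    exact (Nat.finite_of_card_ne_zero (by
      have := CommGroup.card_monoidHom_of_hasEnoughRootsOfUnity (G ⧸ N) ℂ
      rw [this]
      exact Nat.card_pos.ne'))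
  haveI : Fintype ((G ⧸ N) →* ℂˣ) := Fintype.ofFinite _
  have hG : (Nat.card G : ℂ) ≠ 0 := by exact_mod_cast Nat.card_pos.ne'
  have hN : (Nat.card N : ℂ) ≠ 0 := by exact_mod_cast Nat.card_pos.ne'
  rw [isIrrCharacter_iff (isCharacter_restrict (isCharacter_of_isIrr hχ) N)]
  have h1 : ∑ ν : (G ⧸ N) →* ℂˣ, classInner ((inflHom N ν : G → ℂ) * χ) χ = 1 := by
    rw [Finset.sum_eq_single 1]
    · have h2 : (inflHom N 1 : G → ℂ) * χ = χ := by
        funext g
        simp [inflHom_apply]
      rw [h2, classInner_self_of_irr hχ]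
    · intro ν _ hν
      exact classInner_eq_zero_of_irr_ne (isIrrCharacter_hom_mul hχ _) hχ fun h2 => hν (h ν h2)
    · intro h2; exact absurd (Finset.mem_univ _) h2
  have h2 : ∀ g : G, ∑ ν : (G ⧸ N) →* ℂˣ, (inflHom N ν g) =
      if g ∈ N then (N.index : ℂ) else 0 := by
    intro g
    have := sum_dual_eq hab (g : G ⧸ N)
    rw [show (N.index : ℂ) = (Nat.card (G ⧸ N) : ℂ) from rfl]
    by_cases hg : g ∈ N
    · rw [if_pos hg]
      rwa [if_pos ((QuotientGroup.eq_one_iff g).2 hg)] at this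
    · rw [if_neg hg]
      rwa [if_neg (fun h3 => hg ((QuotientGroup.eq_one_iff g).1 h3))] at this
  have h3 : ∑ ν : (G ⧸ N) →* ℂˣ, classInner ((inflHom N ν : G → ℂ) * χ) χ =
      classInner (fun n : N => χ n) (fun n : N => χ n) := by
    unfold classInner
    rw [← Finset.mul_sum, Finset.sum_comm]
    have h4 : ∀ g : G, ∑ ν : (G ⧸ N) →* ℂˣ, ((inflHom N ν : G → ℂ) * χ) g * conj (χ g) =
        if g ∈ N then (N.index : ℂ) * (χ g * conj (χ g)) else 0 := by
      intro g
      have h5 : ∀ ν : (G ⧸ N) →* ℂˣ, ((inflHom N ν : G → ℂ) * χ) g * conj (χ g) =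
          inflHom N ν g * (χ g * conj (χ g)) := by
        intro ν; rw [Pi.mul_apply]; ring
      rw [Finset.sum_congr rfl fun ν _ => h5 ν, ← Finset.sum_mul, h2]
      split_ifs <;> ring
    rw [Finset.sum_congr rfl fun g _ => h4 g]
    have h6 : ∑ g : G, (if g ∈ N then (N.index : ℂ) * (χ g * conj (χ g)) else 0) =
        ∑ n : N, (N.index : ℂ) * (χ n * conj (χ n)) := by
      rw [← Finset.sum_filter]
      exact Finset.sum_subtype _ (fun g => by simp) _
    rw [h6, ← Finset.mul_sum, ← mul_assoc]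
    congr 1
    rw [← Subgroup.card_mul_index N]
    push_cast
    have h7 : (N.index : ℂ) ≠ 0 := by exact_mod_cast Subgroup.index_ne_zero_of_finite
    field_simp
  rw [← h3, h1]

/-- If `G / N` is abelian and `χ` does not vanish on any coset of `N` then the restriction of `χ`
to `N` is irreducible. -/
theorem restrict_irr_of_ne_zero (N : Subgroup G) [N.Normal] (hab : ∀ a b : G ⧸ N, a * b = b * a)
    {χ : G → ℂ} (hχ : IsIrrCharacter G χ)
    (h : ∀ q : G ⧸ N, ∃ g : G, (g : G ⧸ N) = q ∧ χ g ≠ 0) :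
    IsIrrCharacter N (fun n : N => χ n) := by
  refine restrict_irr_of_forall N hab hχ fun ν hν => ?_
  refine MonoidHom.ext fun q => Units.ext ?_
  obtain ⟨g, rfl, hg⟩ := h q
  have h1 := congrFun hν g
  rw [Pi.mul_apply, inflHom_apply] at h1
  have h2 := mul_right_cancel₀ hg (h1.trans (one_mul _).symm)
  rw [h2]; rfl

end Cfsg.Agent.Char
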