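import Cfsg.Agent.Char.BrauerR
import Cfsg.Agent.BlkInd.ElemProd
import Cfsg.Agent.CharBase.Column
import Cfsg.Agent.Coh.Basic

/-!
# Extension of characters of Hall subgroups and normal complements (Brauer–Suzuki)
(owner: helper15)
-/

set_option autoImplicit false

namespace Cfsg.Agent.Char.HE

open Cfsg Cfsg.Agent.Char Cfsg.Agent.CharBase
open scoped ComplexConjugate

universe u

/-- In a nilpotent group raising to an idempotent power is a homomorphism. -/
theorem pow_mul_of_nilpotent {E : Type u} [Group E] [Finite E] (hE : Group.IsNilpotent E) {h m N : ℕ}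
    (hcop : h.Coprime m) (hcard : Nat.card E ∣ h * m) (hN1 : N ≡ 1 [MOD h]) (hN0 : m ∣ N) (e f : E) :
    (e * f) ^ N = e ^ N * f ^ N := by
  obtain ⟨a, b, ha, hb, hab⟩ := exists_dvd_and_dvd_of_dvd_mul hcard
  have hcop' : a.Coprime b := Nat.Coprime.coprime_dvd_left ha (Nat.Coprime.coprime_dvd_right hb hcop)
  obtain ⟨A, B, hA, hB, hcA, hcB, hcomm⟩ := Cfsg.Agent.Char.BR.nil_split hE a b hcop' hab
  have hdis : Disjoint A B := Subgroup.disjoint_of_coprime_natCard (by rw [hcA, hcB]; exact hcop')
  have htop : A ⊔ B = ⊤ := by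
    apply Subgroup.eq_top_of_card_eq
    apply Nat.dvd_antisymm (Subgroup.card_subgroup_dvd_card _)
    rw [hab]
    apply hcop'.mul_dvd_of_dvd_of_dvd
    · rw [← hcA]; exact Subgroup.card_dvd_of_le le_sup_left
    · rw [← hcB]; exact Subgroup.card_dvd_of_le le_sup_right
  have hAN : ∀ x ∈ A, x ^ N = x := by
    intro x hx
    have h1 : orderOf x ∣ h := (Subgroup.orderOf_dvd_natCard A hx).trans (hcA ▸ ha)
    have h2 := pow_eq_pow_iff_modEq.mpr (hN1.of_dvd h1)
    rwa [pow_one] at h2
  have hBN : ∀ x ∈ B, x ^ N = 1 := by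
    intro x hx
    have h1 : orderOf x ∣ m := (Subgroup.orderOf_dvd_natCard B hx).trans (hcB ▸ hb)
    exact orderOf_dvd_iff_pow_eq_one.mp (h1.trans hN0)
  have hdec : ∀ g : E, ∃ x ∈ A, ∃ y ∈ B, x * y = g := fun g =>
    Subgroup.mem_sup_of_normal_right.mp (htop ▸ Subgroup.mem_top g)
  have hpow : ∀ x ∈ A, ∀ y ∈ B, (x * y) ^ N = x := by
    intro x hx y hy
    rw [(show Commute x y from hcomm x hx y hy).mul_pow, hAN x hx, hBN y hy, mul_one]
  obtain ⟨x, hx, y, hy, rfl⟩ := hdec e
  obtain ⟨x', hx', y', hy', rfl⟩ := hdec f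
  have h1 : x * y * (x' * y') = x * x' * (y * y') := by
    rw [mul_assoc, ← mul_assoc y, ← hcomm x' hx' y hy]
    group
  rw [h1, hpow _ (A.mul_mem hx hx') _ (B.mul_mem hy hy'), hpow x hx y hy, hpow x' hx' y' hy']

theorem isElementary_of_surjective {E F : Type u} [Group E] [Finite E] [Group F] {p : ℕ} (hp : p.Prime)
    (f : E →* F) (hf : Function.Surjective f) (hE : IsElementary p E) : IsElementary p F := by
  obtain ⟨x, hx, hcop, k, hk⟩ := hE
  refine ⟨f x, ?_, ?_, ?_⟩
  · rw [Subgroup.mem_center_iff]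
    intro g
    obtain ⟨e, rfl⟩ := hf g
    rw [← map_mul, ← map_mul, Subgroup.mem_center_iff.mp hx e]
  · exact Nat.Coprime.coprime_dvd_left (orderOf_map_dvd f x) hcop
  · have h1 : (Subgroup.zpowers (f x)).index ∣ p ^ k := by
      rw [← hk, ← MonoidHom.map_zpowers]
      exact Subgroup.index_map_dvd _ hf
    obtain ⟨j, -, hj⟩ := (Nat.dvd_prime_pow hp).mp h1
    exact ⟨j, hj⟩

theorem isElementary_zpowers {G : Type u} [Group G] [Finite G] (c : G) {p : ℕ}
    (hp : (orderOf c).Coprime p) : IsElementary p (Subgroup.zpowers c) := by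
  refine ⟨⟨c, Subgroup.mem_zpowers c⟩, ?_, ?_, 0, ?_⟩
  · rw [Subgroup.mem_center_iff]
    rintro ⟨g, hg⟩
    obtain ⟨i, rfl⟩ := Subgroup.mem_zpowers_iff.mp hg
    apply Subtype.ext
    simp only [Subgroup.coe_mul]
    rw [← zpow_one_add, ← zpow_add_one, add_comm]
  · rw [Subgroup.orderOf_mk]; exact hp
  · rw [pow_zero, Subgroup.index_eq_one, Subgroup.eq_top_iff']
    rintro ⟨g, hg⟩
    obtain ⟨i, rfl⟩ := Subgroup.mem_zpowers_iff.mp hg
    exact Subgroup.mem_zpowers_iff.mpr ⟨i, rfl⟩

/-- A subgroup whose elements have order dividing `h` has order dividing `h` (`h` a Hall divisor). -/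
theorem card_dvd_of_orderOf {G : Type u} [Group G] [Finite G] {h m : ℕ} (hcop : h.Coprime m)
    (E : Subgroup G) (hcard : Nat.card E ∣ h * m) (hE : ∀ x ∈ E, orderOf x ∣ h) : Nat.card E ∣ h := by
  apply Nat.Coprime.dvd_of_dvd_mul_right _ hcard
  rw [Nat.coprime_iff_gcd_eq_one]
  by_contra hne
  obtain ⟨q, hq, hqd⟩ := Nat.exists_prime_and_dvd hne
  have : Fact q.Prime := ⟨hq⟩
  obtain ⟨x, hx⟩ := exists_prime_orderOf_dvd_card' q (hqd.trans (Nat.gcd_dvd_left _ _))
  have h1 : q ∣ h := by
    rw [← hx]
    have := hE x x.2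
    rwa [Subgroup.orderOf_coe] at this
  have h2 := hcop.coprime_dvd_left h1
  exact hq.one_lt.ne' (Nat.eq_one_of_dvd_coprimes hcop h1 (hqd.trans (Nat.gcd_dvd_right _ _)))

/-- A rational algebraic integer which is a natural quotient. -/
theorem nat_dvd_of_isIntegral {a b : ℕ} (hb : b ≠ 0) (h : IsIntegral ℤ ((a : ℂ) / b)) : b ∣ a := by
  have h1 : IsIntegral ℤ ((a : ℚ) / b) := by
    have h2 : ((a : ℂ) / b) = algebraMap ℚ ℂ ((a : ℚ) / b) := by simp
    rw [h2] at h
    exact (isIntegral_algebraMap_iff (algebraMap ℚ ℂ).injective).mp h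
  obtain ⟨z, hz⟩ := IsIntegrallyClosed.isIntegral_iff.mp h1
  have h3 : ((z * b : ℤ) : ℚ) = (a : ℤ) := by
    have hb' : (b : ℚ) ≠ 0 := by exact_mod_cast hb
    have h4 : (z : ℚ) = (a : ℚ) / b := hz
    push_cast
    rw [h4, div_mul_cancel₀ _ hb']
  have h4 : z * b = (a : ℤ) := by exact_mod_cast h3
  have h5 : (b : ℤ) ∣ a := ⟨z, by rw [← h4, mul_comm]⟩
  exact_mod_cast h5

/-- **Brauer–Suzuki**: a Hall subgroup with good fusion has a normal complement. -/
theorem exists_complement {G : Type u} [Group G] [Fintype G] (H : Subgroup G)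
    (hHall : Nat.Coprime (Nat.card H) H.index)
    (hfus : ∀ x ∈ H, ∀ y ∈ H, IsConj x y → ∃ h ∈ H, h * x * h⁻¹ = y)
    (helem : ∀ (E : Subgroup G) (p : ℕ), p.Prime → IsElementary p E → Nat.card E ∣ Nat.card H →
      ∃ g : G, E.map (MulAut.conj g).toMonoidHom ≤ H) :
    ∃ K : Subgroup G, K.Normal ∧ K ⊔ H = ⊤ ∧ K ⊓ H = ⊥ := by
  classical
  have := Fintype.ofFinite H
  have hcardG : Nat.card G = Nat.card H * H.index := H.card_mul_index.symm
  obtain ⟨N, hN1, hN0⟩ := Nat.chineseRemainder hHall 1 0
  have hN0' : H.index ∣ N := Nat.modEq_zero_iff_dvd.mp hN0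
  have hordN : ∀ g : G, orderOf (g ^ N) ∣ Nat.card H := by
    intro g
    apply orderOf_dvd_of_pow_eq_one
    rw [← pow_mul]
    apply orderOf_dvd_iff_pow_eq_one.mp
    refine (orderOf_dvd_natCard g).trans ?_
    rw [hcardG, mul_comm]
    exact Nat.mul_dvd_mul_right hN0' _
  have hHN : ∀ x ∈ H, x ^ N = x := by
    intro x hx
    have h1 : orderOf x ∣ Nat.card H := Subgroup.orderOf_dvd_natCard H hx
    have h2 := pow_eq_pow_iff_modEq.mpr (hN1.of_dvd h1)
    rwa [pow_one] at h2
  -- representatives
  have hrep : ∀ g : G, ∃ h : H, IsConj (g ^ N) (h : G) := by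
    intro g
    obtain ⟨p, hpG, hp⟩ := Nat.exists_infinite_primes (Nat.card G + 1)
    have hcop : (orderOf (g ^ N)).Coprime p := by
      rw [Nat.coprime_comm, Nat.Prime.coprime_iff_not_dvd hp]
      intro h
      have h1 : p ∣ Nat.card G := h.trans (orderOf_dvd_natCard _)
      have := Nat.le_of_dvd Nat.card_pos h1
      omega
    obtain ⟨t, ht⟩ := helem _ p hp (isElementary_zpowers (g ^ N) hcop) (by
      rw [Nat.card_zpowers]; exact hordN g)
    have h1 : t * g ^ N * t⁻¹ ∈ H := ht ⟨g ^ N, Subgroup.mem_zpowers _, rfl⟩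
    exact ⟨⟨_, h1⟩, isConj_iff.mpr ⟨t, rfl⟩⟩
  choose r hr using hrep
  -- conjugacy in `H` is conjugacy in `G`
  have hconj : ∀ a b : H, IsConj (a : G) (b : G) ↔ IsConj a b := by
    intro a b
    constructor
    · intro h
      obtain ⟨c, hc, hcab⟩ := hfus a a.2 b b.2 h
      exact isConj_iff.mpr ⟨⟨c, hc⟩, Subtype.ext hcab⟩
    · intro h
      obtain ⟨c, hc⟩ := isConj_iff.mp h
      exact isConj_iff.mpr ⟨c, by simpa using congrArg Subtype.val hc⟩
  have hcl : ∀ {f : H → ℂ}, IsClassFunction H f → ∀ a b : H, IsConj a b → f a = f b := by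
    intro f hf a b hab
    obtain ⟨c, hc⟩ := isConj_iff.mp hab
    rw [← hc, hf]
  have hwd : ∀ {f : H → ℂ}, IsClassFunction H f → ∀ (g : G) (h : H), IsConj (g ^ N) (h : G) → f (r g) = f h := by
    intro f hf g h hgh
    exact hcl hf _ _ ((hconj _ _).mp ((hr g).symm.trans hgh))
  have hrH : ∀ h : H, IsConj (r (h : G)) h := by
    intro h
    have h1 := hr (h : G)
    rw [hHN _ h.2] at h1
    exact ((hconj _ _).mp h1).symm
  -- the extensions are class functions
  have hext_cf : ∀ {f : H → ℂ}, IsClassFunction H f → IsClassFunction G (fun g => f (r g)) := by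
    intro f hf g x
    apply hwd hf
    refine IsConj.trans ?_ (hr g)
    rw [conj_pow]
    exact (isConj_iff.mpr ⟨x, rfl⟩ : IsConj (g ^ N) _).symm
  -- the extensions are generalized characters
  have hext : ∀ {f : H → ℂ}, IsCharacter H f → IsGeneralizedCharacter G (fun g => f (r g)) := by
    intro f hf
    have hfc := isClassFunction_of_isCharacter hf
    apply Cfsg.Agent.Char.BI.brauer_characterization _ (hext_cf hfc)
    intro E p hp hE
    have hEn := Cfsg.Agent.BlkInd.isNilpotent_of_isElementary hp hE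
    have hcardE : Nat.card E ∣ Nat.card H * H.index := hcardG ▸ Subgroup.card_subgroup_dvd_card E
    let ν : E →* E :=
      { toFun := fun e => e ^ N
        map_one' := one_pow N
        map_mul' := fun e f => pow_mul_of_nilpotent hEn hHall hcardE hN1 hN0' e f }
    have hE' : IsElementary p (ν.range.map E.subtype) :=
      isElementary_of_surjective hp
        ((ν.range.equivMapOfInjective E.subtype E.subtype_injective).toMonoidHom.comp ν.rangeRestrict)
        (by
          rw [MonoidHom.coe_comp]
          exact (ν.range.equivMapOfInjective E.subtype E.subtype_injective).surjective.comp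
            ν.rangeRestrict_surjective) hE
    have hc : Nat.card (ν.range.map E.subtype) ∣ Nat.card H := by
      apply card_dvd_of_orderOf hHall _ (hcardG ▸ Subgroup.card_subgroup_dvd_card _)
      rintro _ ⟨_, ⟨e, rfl⟩, rfl⟩
      exact hordN e
    obtain ⟨t, ht⟩ := helem _ p hp hE' hc
    let κ : E →* H :=
      { toFun := fun e => ⟨t * ((ν e : E) : G) * t⁻¹, ht ⟨_, ⟨_, ⟨e, rfl⟩, rfl⟩, rfl⟩⟩
        map_one' := Subtype.ext (by simp)
        map_mul' := fun e f => Subtype.ext (by
          change t * ((ν (e * f) : E) : G) * t⁻¹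
            = (t * ((ν e : E) : G) * t⁻¹) * (t * ((ν f : E) : G) * t⁻¹)
          rw [map_mul]
          simp only [Subgroup.coe_mul]
          group) }
    have h1 : (fun e : E => f (r (e : G))) = f ∘ κ := by
      funext e
      apply hwd hfc
      refine isConj_iff.mpr ⟨t, ?_⟩
      rfl
    rw [h1]
    exact Cfsg.Agent.Char.BI.isGeneralizedCharacter_of_isCharacter (isCharacter_comp hf κ)
  have : Fintype (IrrCharacter H) := Fintype.ofFinite _
  have hGr : (Nat.card G : ℂ) ≠ 0 := by exact_mod_cast Nat.card_pos.ne'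
  -- counting
  obtain ⟨n, hn⟩ : ∃ n : H → ℕ, ∀ h, n h = (Finset.univ.filter (fun g : G => IsConj (r g) h)).card :=
    ⟨_, fun _ => rfl⟩
  obtain ⟨c, hc⟩ : ∃ c : H → ℕ, ∀ h, c h = Nat.card (Subgroup.centralizer ({h} : Set H)) :=
    ⟨_, fun _ => rfl⟩
  have hTheta : ∀ (h : H) (g : G), ∑ φ : IrrCharacter H, (φ : H → ℂ) (r g) * conj ((φ : H → ℂ) h)
      = if IsConj (r g) h then (c h : ℂ) else 0 := by
    intro h g
    rw [column_orthogonality]
    split_ifs with h1
    · rw [hc]
      have h2 := card_isConj_mul_card_centralizer (r g)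
      have h3 := card_isConj_mul_card_centralizer h
      have h4 : Nat.card {x : H // IsConj (r g) x} = Nat.card {x : H // IsConj h x} := by
        apply Nat.card_congr
        exact Equiv.subtypeEquivRight fun x => ⟨fun h5 => h1.symm.trans h5, fun h5 => h1.trans h5⟩
      rw [h4] at h2
      have h5 : 0 < Nat.card {x : H // IsConj h x} := by
        have : Nonempty {x : H // IsConj h x} := ⟨⟨h, IsConj.refl h⟩⟩
        exact Nat.card_pos
      have h6 := Nat.eq_of_mul_eq_mul_left h5 (h2.trans h3.symm)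
      exact_mod_cast h6
    · rfl
  have hsumT : ∀ h : H, ∑ g : G, ∑ φ : IrrCharacter H, (φ : H → ℂ) (r g) * conj ((φ : H → ℂ) h)
      = ((c h * n h : ℕ) : ℂ) := by
    intro h
    rw [Finset.sum_congr rfl fun g _ => hTheta h g, ← Finset.sum_filter, Finset.sum_const, ← hn,
      nsmul_eq_mul, Nat.cast_mul, mul_comm]
  have hS : ∀ φ : IrrCharacter H, ∃ z : ℤ, ∑ g : G, (φ : H → ℂ) (r g) = (Nat.card G : ℂ) * z := by
    intro φ
    obtain ⟨z, hz⟩ := classInner_intCast (hext (irr_isCharacter φ))
      (Cfsg.Agent.Char.BI.isGeneralizedCharacter_of_isCharacter (isCharacter_one (G := G)))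
    refine ⟨z, ?_⟩
    rw [← hz, classInner, mul_inv_cancel_left₀ hGr]
    exact Finset.sum_congr rfl fun g _ => by rw [map_one, mul_one]
  choose z hz using hS
  have hcnz : ∀ h : H, ((c h * n h : ℕ) : ℂ) = (Nat.card G : ℂ) * ∑ φ : IrrCharacter H, (z φ : ℂ) * conj ((φ : H → ℂ) h) := by
    intro h
    rw [← hsumT, Finset.sum_comm, Finset.mul_sum]
    refine Finset.sum_congr rfl fun φ _ => ?_
    rw [← Finset.sum_mul, hz, mul_assoc]
  have hge : ∀ h : H, Nat.card G ≤ c h * n h := by
    intro h
    have h1 : Nat.card G ∣ c h * n h := by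
      apply nat_dvd_of_isIntegral Nat.card_pos.ne'
      rw [hcnz, mul_div_cancel_left₀ _ hGr]
      apply IsIntegral.sum
      intro φ _
      apply IsIntegral.mul
      · exact isIntegral_algebraMap (R := ℤ) (A := ℂ) (x := z φ)
      · exact irr_isIntegral (⟨_, isIrrCharacter_conj φ.2⟩ : IrrCharacter H) h
    apply Nat.le_of_dvd _ h1
    apply Nat.mul_pos
    · rw [hc]; exact Nat.card_pos
    · rw [hn, Finset.card_pos]
      exact ⟨(h : G), Finset.mem_filter.mpr ⟨Finset.mem_univ _, hrH h⟩⟩
  have htot : ∑ h : H, c h * n h = ∑ _h : H, Nat.card G := by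
    have h1 : ((∑ h : H, c h * n h : ℕ) : ℂ) = ((∑ _h : H, Nat.card G : ℕ) : ℂ) := by
      push_cast
      have h2 : ∀ h : H, (c h : ℂ) * n h = ∑ g : G, ∑ φ : IrrCharacter H, (φ : H → ℂ) (r g) * conj ((φ : H → ℂ) h) := by
        intro h
        rw [hsumT]; push_cast; rfl
      rw [Finset.sum_congr rfl fun h _ => h2 h, Finset.sum_comm]
      have h3 : ∀ g : G, ∑ h : H, ∑ φ : IrrCharacter H, (φ : H → ℂ) (r g) * conj ((φ : H → ℂ) h) = Nat.card H := by
        intro g
        rw [Finset.sum_comm]
        have h4 : ∀ φ : IrrCharacter H, ∑ h : H, (φ : H → ℂ) (r g) * conj ((φ : H → ℂ) h)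
            = (Nat.card H : ℂ) * ((φ : H → ℂ) (r g) * classInner (fun _ => 1) (φ : H → ℂ)) := by
          intro φ
          have h5 : (Nat.card H : ℂ) ≠ 0 := by exact_mod_cast Nat.card_pos.ne'
          rw [← Finset.mul_sum, classInner]
          simp only [one_mul]
          field_simp
        rw [Finset.sum_congr rfl fun φ _ => h4 φ, ← Finset.mul_sum]
        let one : IrrCharacter H := ⟨fun _ => 1, isIrrCharacter_one⟩
        rw [Finset.sum_eq_single one]
        · change (Nat.card H : ℂ) * (1 * classInner (fun _ : H => (1 : ℂ)) (fun _ : H => (1 : ℂ))) = _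
          rw [classInner_self_of_irr isIrrCharacter_one, mul_one, mul_one]
        · intro φ _ hφ
          have h6 : classInner (one : H → ℂ) (φ : H → ℂ) = 0 :=
            classInner_irr_of_ne (Ne.symm hφ)
          have h7 : classInner (fun _ : H => (1 : ℂ)) (φ : H → ℂ) = 0 := h6
          rw [h7, mul_zero]
        · intro h; exact absurd (Finset.mem_univ _) h
      rw [Finset.sum_congr rfl fun g _ => h3 g, Finset.sum_const, Finset.sum_const, Finset.card_univ,
        Finset.card_univ, ← Nat.card_eq_fintype_card, ← Nat.card_eq_fintype_card, nsmul_eq_mul,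
        nsmul_eq_mul, mul_comm]
    exact_mod_cast h1
  have heq : ∀ h : H, c h * n h = Nat.card G := by
    have h1 := (Finset.sum_eq_sum_iff_of_le (fun h (_ : h ∈ (Finset.univ : Finset H)) => hge h)).mp htot.symm
    exact fun h => (h1 h (Finset.mem_univ _)).symm
  -- sums of class functions
  let one : IrrCharacter H := ⟨fun _ => 1, isIrrCharacter_one⟩
  have hz1 : ∀ φ : IrrCharacter H, (z φ : ℂ) = if φ = one then 1 else 0 := by
    have h1 : ∀ h : H, ∑ φ : IrrCharacter H, (z φ : ℂ) * conj ((φ : H → ℂ) h) = 1 := by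
      intro h
      have h2 := hcnz h
      rw [heq] at h2
      have h3 := mul_left_cancel₀ hGr (h2.symm.trans (mul_one _).symm)
      exact h3
    intro φ
    have h2 : classInner (fun _ => 1) (fun h => conj ((φ : H → ℂ) h)) = (z φ : ℂ) := by
      have h3 : (fun _ : H => (1 : ℂ)) = ∑ ψ : IrrCharacter H, (z ψ : ℂ) • (fun h => conj ((ψ : H → ℂ) h)) := by
        funext h
        rw [Finset.sum_apply, ← h1 h]
        rfl
      rw [h3, classInner_sum_left, Finset.sum_eq_single φ]
      · rw [classInner_smul_left, classInner_self_of_irr (isIrrCharacter_conj φ.2), mul_one]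
      · intro ψ _ hψ
        rw [classInner_smul_left]
        have h4 := classInner_irr_of_ne
          (χ := (⟨_, isIrrCharacter_conj ψ.2⟩ : IrrCharacter H)) (ψ := ⟨_, isIrrCharacter_conj φ.2⟩) (by
            intro h5
            apply hψ
            apply Subtype.ext
            funext h
            have h6 := congrFun (congrArg Subtype.val h5) h
            exact (starRingEnd ℂ).injective h6)
        have h5 : classInner (fun h => conj ((ψ : H → ℂ) h)) (fun h => conj ((φ : H → ℂ) h)) = 0 := h4
        rw [h5, mul_zero]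
      · intro h; exact absurd (Finset.mem_univ _) h
    rw [← h2]
    split_ifs with h
    · rw [h]
      change classInner (fun _ : H => (1 : ℂ)) (fun _ : H => conj (1 : ℂ)) = 1
      rw [map_one]
      exact classInner_self_of_irr isIrrCharacter_one
    · have h4 := classInner_irr_of_ne
          (χ := one) (ψ := (⟨_, isIrrCharacter_conj φ.2⟩ : IrrCharacter H)) (by
            intro h5
            apply h
            apply Subtype.ext
            funext k
            have h6 := congrFun (congrArg Subtype.val h5) k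
            have h7 : (1 : ℂ) = conj ((φ : H → ℂ) k) := h6
            have h8 := congrArg conj h7
            rw [Complex.conj_conj, map_one] at h8
            exact h8.symm)
      exact h4
  have hsum : ∀ {f : H → ℂ}, IsClassFunction H f →
      ∑ g : G, f (r g) = (Nat.card G : ℂ) * ((Nat.card H : ℂ)⁻¹ * ∑ h : H, f h) := by
    intro f hf
    have h1 : ∀ g : G, f (r g) = ∑ φ : IrrCharacter H, classInner f (φ : H → ℂ) * (φ : H → ℂ) (r g) :=
      fun g => classFun_apply_eq_sum hf (r g)
    rw [Finset.sum_congr rfl fun g _ => h1 g, Finset.sum_comm, Finset.sum_eq_single one]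
    · rw [← Finset.mul_sum, hz, hz1, if_pos rfl, mul_one, mul_comm, classInner]
      congr 2
      exact Finset.sum_congr rfl fun h _ => by
        change f h * conj (1 : ℂ) = f h
        rw [map_one, mul_one]
    · intro φ _ hφ
      rw [← Finset.mul_sum, hz, hz1, if_neg hφ, mul_zero, mul_zero]
    · intro h; exact absurd (Finset.mem_univ _) h
  -- the extensions are irreducible characters
  have hrone : r 1 = 1 := by
    have h1 := hrH 1
    rw [Subgroup.coe_one] at h1
    exact isConj_one_left.mp h1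
  have hirr : ∀ φ : IrrCharacter H, IsIrrCharacter G (fun g => (φ : H → ℂ) (r g)) := by
    intro φ
    have hφ := irr_isCharacter φ
    have hcf : IsClassFunction H (fun h => (φ : H → ℂ) h * conj ((φ : H → ℂ) h)) := by
      intro g x
      simp only
      rw [isClassFunction_of_isCharacter hφ]
    have h1 : classInner (fun g => (φ : H → ℂ) (r g)) (fun g => (φ : H → ℂ) (r g)) = 1 := by
      have h2 := hsum hcf
      have h3 := classInner_self_of_irr φ.2
      rw [classInner] at h3
      rw [classInner, h2, h3, mul_one, inv_mul_cancel₀ hGr]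
    rcases Cfsg.Agent.Coh.irr_or_neg_of_norm_one (hext hφ) h1 with h2 | h2
    · exact h2
    · exfalso
      obtain ⟨d, hd⟩ := exists_nat_degree hφ
      obtain ⟨d', hd'⟩ := exists_nat_degree (isCharacter_of_isIrr h2)
      rw [Pi.neg_apply, hrone, hd] at hd'
      have h3 : ((d + d' : ℕ) : ℂ) = 0 := by
        push_cast
        rw [← hd']; ring
      have h4 : d + d' = 0 := by exact_mod_cast h3
      apply irr_one_ne_zero φ.2
      rw [hd, show d = 0 by omega, Nat.cast_zero]
  -- the extension of the regular character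
  have hΦ : IsCharacter G (fun g => ∑ φ : IrrCharacter H, (φ : H → ℂ) 1 * (φ : H → ℂ) (r g)) := by
    choose d hd using fun φ : IrrCharacter H => exists_nat_degree (irr_isCharacter φ)
    have h1 : (fun g => ∑ φ : IrrCharacter H, (φ : H → ℂ) 1 * (φ : H → ℂ) (r g))
        = ∑ φ : IrrCharacter H, d φ • (fun g => (φ : H → ℂ) (r g)) := by
      funext g
      rw [Finset.sum_apply]
      refine Finset.sum_congr rfl fun φ _ => ?_
      rw [Pi.smul_apply, nsmul_eq_mul, hd]
    rw [h1]
    apply isCharacter_sum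
    intro φ _
    exact isCharacter_nsmul (isCharacter_of_isIrr (hirr φ)) _
  obtain ⟨k, ρ, hρ⟩ := hΦ
  have hval : ∀ g, ρ.character g = if r g = 1 then (Nat.card H : ℂ) else 0 := by
    intro g
    rw [hρ]
    exact sum_degree_mul (r g)
  have hk : (k : ℂ) = Nat.card H := by
    have h1 := hval 1
    rw [if_pos hrone, Representation.char_one, Module.finrank_fin_fun] at h1
    exact h1
  have hker : ∀ g : G, g ∈ MonoidHom.ker ρ ↔ r g = 1 := by
    intro g
    rw [MonoidHom.mem_ker]
    constructor
    · intro h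
      by_contra h1
      have h2 := hval g
      rw [if_neg h1] at h2
      have h3 := hval 1
      rw [if_pos hrone] at h3
      have h4 : ρ.character g = ρ.character 1 := by
        simp only [Representation.character, h, map_one]
      rw [h2, h3] at h4
      exact Nat.card_pos.ne' (by exact_mod_cast h4.symm)
    · intro h
      apply (Cfsg.Agent.Char.rep_character_eq_finrank_iff ρ g).mp
      rw [hval, if_pos h, Module.finrank_fin_fun, hk]
  refine ⟨MonoidHom.ker ρ, inferInstance, ?_, ?_⟩
  · apply Subgroup.eq_top_of_card_eq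
    apply le_antisymm (Subgroup.card_le_card_group _)
    have h1 : Nat.card (MonoidHom.ker ρ) * Nat.card H = Nat.card G := by
      have h2 := heq 1
      have h3 : c 1 = Nat.card H := by
        rw [hc]
        have : Subgroup.centralizer ({1} : Set H) = ⊤ := by
          rw [Subgroup.eq_top_iff']
          intro x
          rw [Subgroup.mem_centralizer_singleton_iff]
          rw [mul_one, one_mul]
        rw [this, Subgroup.card_top]
      have h4 : n 1 = Nat.card (MonoidHom.ker ρ) := by
        rw [hn, Nat.card_eq_fintype_card, ← Fintype.card_subtype]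
        apply Fintype.card_congr
        exact Equiv.subtypeEquivRight fun g =>
          ⟨fun h => (hker g).mpr (isConj_one_left.mp h), fun h => by rw [(hker g).mp h]⟩
      rw [h3, h4, mul_comm] at h2
      exact h2
    have h2 : Nat.card (MonoidHom.ker ρ) = H.index := by
      rw [hcardG, mul_comm (Nat.card H)] at h1
      exact Nat.eq_of_mul_eq_mul_right Nat.card_pos h1
    rw [← h1]
    apply Nat.le_of_dvd Nat.card_pos
    apply Nat.Coprime.mul_dvd_of_dvd_of_dvd
    · rw [h2]; exact hHall.symm
    · exact Subgroup.card_dvd_of_le le_sup_left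
    · exact Subgroup.card_dvd_of_le le_sup_right
  · rw [Subgroup.eq_bot_iff_forall]
    rintro g ⟨hg, hgH⟩
    have h1 := (hker g).mp hg
    have h2 := hrH ⟨g, hgH⟩
    rw [Subgroup.coe_mk, h1] at h2
    have h3 := isConj_one_right.mp h2
    exact congrArg Subtype.val h3

end Cfsg.Agent.Char.HE
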