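import Cfsg.Agent.Coh.FrobKer
import Cfsg.Agent.Char.HallExt
import Cfsg.Agent.S0850

/-!
# TI subgroups with Frobenius normalizer: coherence consequences (owner: helper15)
-/

set_option autoImplicit false

namespace Cfsg.Agent.Char.FT

open Cfsg Cfsg.Agent.Char Cfsg.Agent.CharBase
open scoped ComplexConjugate

universe u

section

variable {G : Type u} [Group G] [Fintype G] (N : Subgroup G) [hN : N.Normal]

theorem rel_vanish (hC : ∀ n ∈ N, n ≠ 1 → Subgroup.centralizer ({n} : Set G) ≤ N)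
    {χ : G → ℂ} (hχ : IsIrrCharacter G χ) (hker : ∃ n ∈ N, χ n ≠ χ 1) {x : G} (hx : x ∉ N) : χ x = 0 := by
  obtain ⟨φ, hφ, hφ1, rfl⟩ := Cfsg.Agent.Coh.frobKer_eq_ind N hC hχ hker
  exact indFun_normal_of_notMem N φ hx

omit hN in
/-- A class function whose inner products with the relevant characters are proportional to the
degrees is constant on `N#`. -/
theorem const_of_inner [Fintype (IrrCharacter G)] {f : G → ℂ} (hf : IsClassFunction G f) {c : ℂ}
    (hc : ∀ ξ : IrrCharacter G, (∃ n ∈ N, (ξ : G → ℂ) n ≠ (ξ : G → ℂ) 1) →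
      classInner f (ξ : G → ℂ) = c * (ξ : G → ℂ) 1)
    [DecidablePred (fun ξ : IrrCharacter G => ∃ n ∈ N, (ξ : G → ℂ) n ≠ (ξ : G → ℂ) 1)]
    {k : G} (hk : k ∈ N) (hk1 : k ≠ 1) :
    f k = ∑ ξ : IrrCharacter G, if (∃ n ∈ N, (ξ : G → ℂ) n ≠ (ξ : G → ℂ) 1) then 0 else
      (classInner f (ξ : G → ℂ) - c * (ξ : G → ℂ) 1) * (ξ : G → ℂ) 1 := by
  classical
  have h1 := sum_degree_mul (G := G) k
  rw [if_neg hk1] at h1
  have h2 : ∑ ξ : IrrCharacter G, c * ((ξ : G → ℂ) 1 * (ξ : G → ℂ) k) = 0 := by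
    rw [← Finset.mul_sum, h1, mul_zero]
  have h4 : f k = ∑ ξ : IrrCharacter G, classInner f (ξ : G → ℂ) * (ξ : G → ℂ) k
      - ∑ ξ : IrrCharacter G, c * ((ξ : G → ℂ) 1 * (ξ : G → ℂ) k) := by
    rw [h2, sub_zero]
    exact classFun_apply_eq_sum hf k
  rw [h4, ← Finset.sum_sub_distrib]
  refine Finset.sum_congr rfl fun ξ _ => ?_
  split_ifs with h
  · rw [hc ξ h]; ring
  · have h3 : (ξ : G → ℂ) k = (ξ : G → ℂ) 1 := by
      push Not at h
      exact h k hk
    rw [h3]; ring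

end

theorem int_of_rat_isIntegral {z : ℂ} (q : ℚ) (hq : z = q) (h : IsIntegral ℤ z) : ∃ n : ℤ, z = n := by
  have h1 : IsIntegral ℤ q := by
    have h2 : z = algebraMap ℚ ℂ q := by simp [hq]
    rw [h2] at h
    exact (isIntegral_algebraMap_iff (algebraMap ℚ ℂ).injective).mp h
  obtain ⟨n, hn⟩ := IsIntegrallyClosed.isIntegral_iff.mp h1
  refine ⟨n, ?_⟩
  have hn' : (n : ℚ) = q := hn
  rw [hq, ← hn']
  simp

section TI

variable {G : Type u} [Group G] [Fintype G] (K : Subgroup G)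
  [Fintype ↥(Subgroup.normalizer (K : Set G))]

/-- The kernel as a subgroup of its normalizer. -/
abbrev KN (K : Subgroup G) : Subgroup ↥(Subgroup.normalizer (K : Set G)) :=
  K.subgroupOf (Subgroup.normalizer (K : Set G))

omit [Fintype G] [Fintype ↥(Subgroup.normalizer (K : Set G))] in
theorem KN_centralizer (hC : ∀ k ∈ K, k ≠ 1 → Subgroup.centralizer ({k} : Set G) ≤ K) :
    ∀ n ∈ KN K, n ≠ 1 → Subgroup.centralizer ({n} : Set ↥(Subgroup.normalizer (K : Set G))) ≤ KN K := by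
  intro n hn hn1 x hx
  rw [Subgroup.mem_subgroupOf] at hn ⊢
  apply hC n hn (fun h => hn1 (Subtype.ext h))
  rw [Subgroup.mem_centralizer_singleton_iff] at hx ⊢
  exact congrArg Subtype.val hx

/-- The relevant characters. -/
def Rel (K : Subgroup G) (χ : ↥(Subgroup.normalizer (K : Set G)) → ℂ) : Prop :=
  IsIrrCharacter ↥(Subgroup.normalizer (K : Set G)) χ ∧
    ∃ k : ↥(Subgroup.normalizer (K : Set G)), (k : G) ∈ K ∧ χ k ≠ χ 1

theorem Rel.vanish {G : Type u} [Group G] [Finite G] {K : Subgroup G} (hC : ∀ k ∈ K, k ≠ 1 → Subgroup.centralizer ({k} : Set G) ≤ K)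
    {χ : ↥(Subgroup.normalizer (K : Set G)) → ℂ} (h : Rel K χ)
    {x : ↥(Subgroup.normalizer (K : Set G))} (hx : (x : G) ∉ K) : χ x = 0 := by
  have hKn : (KN K).Normal := Subgroup.normal_in_normalizer
  have := Fintype.ofFinite ↥(Subgroup.normalizer (K : Set G))
  exact rel_vanish (KN K) (KN_centralizer K hC) h.1 (by
    obtain ⟨k, hk, hk1⟩ := h.2
    exact ⟨k, hk, hk1⟩) hx

omit [Fintype G] [Fintype ↥(Subgroup.normalizer (K : Set G))] in
/-- The combination `d ξ - d' χ`. -/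
theorem comb_mem {S : Set (↥(Subgroup.normalizer (K : Set G)) → ℂ)}
    {χ ξ : ↥(Subgroup.normalizer (K : Set G)) → ℂ} (hχ : χ ∈ S) (hξ : ξ ∈ S) {d d' : ℕ}
    (hd : χ 1 = d) (hd' : ξ 1 = d') :
    (d : ℤ) • ξ + (-(d' : ℤ)) • χ ∈ zspanOn S ({1}ᶜ : Set ↥(Subgroup.normalizer (K : Set G))) := by
  refine ⟨?_, ?_⟩
  · exact Submodule.add_mem _ (Submodule.smul_mem _ _ (Submodule.subset_span hξ))
      (Submodule.smul_mem _ _ (Submodule.subset_span hχ))
  · intro x hx
    rw [Set.mem_compl_iff, not_not, Set.mem_singleton_iff] at hx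
    rw [hx, Pi.add_apply, Pi.smul_apply, Pi.smul_apply, hd, hd', zsmul_eq_mul, zsmul_eq_mul]
    push_cast
    ring

theorem star_comb {S : Set (↥(Subgroup.normalizer (K : Set G)) → ℂ)}
    {star : (↥(Subgroup.normalizer (K : Set G)) → ℂ) → (G → ℂ)}
    (hstar : IsLinearIsometryOn (zspan S) star)
    {χ ξ : ↥(Subgroup.normalizer (K : Set G)) → ℂ} (hχ : χ ∈ S) (hξ : ξ ∈ S) (a b : ℤ) :
    star (a • ξ + b • χ) = a • star ξ + b • star χ := by
  obtain ⟨h1, h2, -, -⟩ := hstar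
  have hξ' : ξ ∈ zspan S := Submodule.subset_span hξ
  have hχ' : χ ∈ zspan S := Submodule.subset_span hχ
  rw [h1 _ (Submodule.smul_mem _ _ hξ') _ (Submodule.smul_mem _ _ hχ'), h2 _ hξ', h2 _ hχ']

theorem star_irr {S : Set (↥(Subgroup.normalizer (K : Set G)) → ℂ)}
    {star : (↥(Subgroup.normalizer (K : Set G)) → ℂ) → (G → ℂ)}
    (hstar : IsLinearIsometryOn (zspan S) star)
    {χ : ↥(Subgroup.normalizer (K : Set G)) → ℂ} (hχ : χ ∈ S)
    (hχi : IsIrrCharacter ↥(Subgroup.normalizer (K : Set G)) χ) :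
    IsIrrCharacter G (star χ) ∨ IsIrrCharacter G (-star χ) := by
  obtain ⟨-, -, h3, h4⟩ := hstar
  have hχ' : χ ∈ zspan S := Submodule.subset_span hχ
  apply Cfsg.Agent.Coh.irr_or_neg_of_norm_one (h4 _ hχ')
  rw [h3 _ hχ' _ hχ', classInner_self_of_irr hχi]

/-- S0852. -/
theorem tifn_star_iff (hC : ∀ k ∈ K, k ≠ 1 → Subgroup.centralizer ({k} : Set G) ≤ K)
    (S : Set (↥(Subgroup.normalizer (K : Set G)) → ℂ)) (hS : ∀ χ, χ ∈ S ↔ Rel K χ)
    (htwo : ∃ χ ∈ S, ∃ ξ ∈ S, χ ≠ ξ)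
    (star : (↥(Subgroup.normalizer (K : Set G)) → ℂ) → (G → ℂ))
    (hstar : IsLinearIsometryOn (zspan S) star)
    (hext : ∀ α ∈ zspanOn S ({1}ᶜ : Set ↥(Subgroup.normalizer (K : Set G))),
      star α = indFun (Subgroup.normalizer (K : Set G)) α)
    (ψ : G → ℂ) (hψ : IsIrrCharacter G ψ) :
    (∃ χ ∈ S, ψ = star χ ∨ ψ = -star χ) ↔ ∃ a ∈ K, ∃ b ∈ K, a ≠ 1 ∧ b ≠ 1 ∧ ψ a ≠ ψ b := by
  classical
  have hKn : (KN K).Normal := Subgroup.normal_in_normalizer
  have : Fintype (IrrCharacter ↥(Subgroup.normalizer (K : Set G))) := Fintype.ofFinite _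
  have hψcf := isClassFunction_of_isCharacter (isCharacter_of_isIrr hψ)
  have hrec : ∀ (α : ↥(Subgroup.normalizer (K : Set G)) → ℂ),
      classInner (fun x : ↥(Subgroup.normalizer (K : Set G)) => ψ x) α
        = classInner ψ (indFun (Subgroup.normalizer (K : Set G)) α) := by
    intro α
    rw [frobenius_reciprocity' _ α ψ hψcf]
  constructor
  · rintro ⟨χ, hχ, hψχ⟩
    by_contra hcon
    push Not at hcon
    -- another member
    obtain ⟨ξ, hξ, hne⟩ : ∃ ξ ∈ S, ξ ≠ χ := by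
      obtain ⟨a, ha, b, hb, hab⟩ := htwo
      by_cases h : a = χ
      · exact ⟨b, hb, fun h' => hab (h.trans h'.symm)⟩
      · exact ⟨a, ha, h⟩
    have hχi := ((hS χ).mp hχ).1
    have hξi := ((hS ξ).mp hξ).1
    obtain ⟨d, hd⟩ := exists_nat_degree (isCharacter_of_isIrr hχi)
    obtain ⟨d', hd'⟩ := exists_nat_degree (isCharacter_of_isIrr hξi)
    have hmem := comb_mem K hχ hξ hd hd'
    obtain ⟨α, hα⟩ : ∃ α, α = (d : ℤ) • ξ + (-(d' : ℤ)) • χ := ⟨_, rfl⟩
    rw [← hα] at hmem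
    -- `⟨ψ_N, α⟩ = 0`
    have h1 : classInner (fun x : ↥(Subgroup.normalizer (K : Set G)) => ψ x) α = 0 := by
      -- value of `ψ` on `K#`
      obtain ⟨k0, hk0, hk01⟩ := ((hS χ).mp hχ).2
      have hk0' : (k0 : G) ≠ 1 := by
        intro h
        apply hk01
        have : k0 = 1 := Subtype.ext h
        rw [this]
      have hval : ∀ x : ↥(Subgroup.normalizer (K : Set G)), ψ x * conj (α x) = ψ k0 * conj (α x) := by
        intro x
        by_cases hx : (x : G) ∈ K
        · by_cases hx1 : (x : G) = 1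
          · have : x = 1 := Subtype.ext hx1
            rw [this, hmem.2 1 (by simp), map_zero, mul_zero, mul_zero]
          · rw [hcon x hx k0 hk0 hx1 hk0']
        · have h2 : α x = 0 := by
            have h3 := ((hS ξ).mp hξ).vanish hC hx
            have h4 := ((hS χ).mp hχ).vanish hC hx
            simp [hα, h3, h4]
          rw [h2, map_zero, mul_zero, mul_zero]
      have h2 : classInner (fun x : ↥(Subgroup.normalizer (K : Set G)) => ψ x) α
          = ψ k0 * classInner (fun _ => 1) α := by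
        have h3 : ∑ x : ↥(Subgroup.normalizer (K : Set G)), ψ x * conj (α x)
            = ψ k0 * ∑ x : ↥(Subgroup.normalizer (K : Set G)), (1 : ℂ) * conj (α x) := by
          rw [Finset.mul_sum]
          exact Finset.sum_congr rfl fun x _ => by rw [one_mul]; exact hval x
        unfold classInner
        rw [h3]
        ring
      have h3 : ∀ η ∈ S, classInner (fun _ : ↥(Subgroup.normalizer (K : Set G)) => (1 : ℂ)) η = 0 := by
        intro η hη
        have h4 := classInner_irr_of_ne (χ := (⟨fun _ => 1, isIrrCharacter_one⟩ :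
          IrrCharacter ↥(Subgroup.normalizer (K : Set G)))) (ψ := ⟨η, ((hS η).mp hη).1⟩) (by
            intro h
            have h5 := congrArg Subtype.val h
            obtain ⟨k, -, hk1⟩ := ((hS η).mp hη).2
            apply hk1
            have h6 : (fun _ => (1 : ℂ)) = η := h5
            rw [← h6])
        exact h4
      rw [h2, hα, classInner_add_right, ← Int.cast_smul_eq_zsmul ℂ, ← Int.cast_smul_eq_zsmul ℂ,
        classInner_smul_right, classInner_smul_right, h3 ξ hξ, h3 χ hχ]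
      ring
    rw [hrec, ← hext α hmem, hα, star_comb K hstar hχ hξ] at h1
    -- `⟨star χ, star α⟩ ≠ 0`
    have h2 : classInner (star χ) ((d : ℤ) • star ξ + (-(d' : ℤ)) • star χ) = 0 := by
      rcases hψχ with h | h
      · rwa [h] at h1
      · rw [h, classInner_neg_left, neg_eq_zero] at h1
        exact h1
    obtain ⟨-, -, h3, -⟩ := hstar
    have hξ' : ξ ∈ zspan S := Submodule.subset_span hξ
    have hχ' : χ ∈ zspan S := Submodule.subset_span hχ
    rw [classInner_add_right, ← Int.cast_smul_eq_zsmul ℂ, ← Int.cast_smul_eq_zsmul ℂ,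
      classInner_smul_right, classInner_smul_right, h3 _ hχ' _ hξ', h3 _ hχ' _ hχ',
      classInner_self_of_irr hχi] at h2
    have h4 : classInner χ ξ = 0 := by
      have := classInner_irr_of_ne (χ := (⟨χ, hχi⟩ :
          IrrCharacter ↥(Subgroup.normalizer (K : Set G)))) (ψ := ⟨ξ, hξi⟩)
          (fun h => hne (congrArg Subtype.val h).symm)
      exact this
    rw [h4, mul_zero, zero_add, mul_one] at h2
    have h5 : (d' : ℂ) = 0 := by
      simpa using h2
    exact irr_one_ne_zero hξi (by rw [hd', h5])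
  · rintro ⟨a, ha, b, hb, ha1, hb1, hab⟩
    by_contra hcon
    push Not at hcon
    apply hab
    obtain ⟨χ0, hχ0, -⟩ := htwo
    have hχ0i := ((hS χ0).mp hχ0).1
    obtain ⟨d, hd⟩ := exists_nat_degree (isCharacter_of_isIrr hχ0i)
    have hd0 : (d : ℂ) ≠ 0 := by rw [← hd]; exact irr_one_ne_zero hχ0i
    have hperp : ∀ χ ∈ S, classInner ψ (star χ) = 0 := by
      intro χ hχ
      obtain ⟨h1, h2⟩ := hcon χ hχ
      rcases star_irr K hstar hχ ((hS χ).mp hχ).1 with h | h
      · have := classInner_irr_of_ne (χ := (⟨ψ, hψ⟩ : IrrCharacter G)) (ψ := ⟨star χ, h⟩)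
          (fun h' => h1 (congrArg Subtype.val h'))
        exact this
      · have := classInner_irr_of_ne (χ := (⟨ψ, hψ⟩ : IrrCharacter G)) (ψ := ⟨-star χ, h⟩)
          (fun h' => h2 (congrArg Subtype.val h'))
        have h3 : classInner ψ (-star χ) = 0 := this
        rwa [classInner_neg_right, neg_eq_zero] at h3
    have hinner : ∀ ξ : IrrCharacter ↥(Subgroup.normalizer (K : Set G)),
        (∃ n ∈ KN K, (ξ : ↥(Subgroup.normalizer (K : Set G)) → ℂ) n ≠ (ξ : ↥(Subgroup.normalizer (K : Set G)) → ℂ) 1) →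
        classInner (fun x : ↥(Subgroup.normalizer (K : Set G)) => ψ x) (ξ : ↥(Subgroup.normalizer (K : Set G)) → ℂ)
          = (classInner (fun x : ↥(Subgroup.normalizer (K : Set G)) => ψ x) χ0 / d) *
            (ξ : ↥(Subgroup.normalizer (K : Set G)) → ℂ) 1 := by
      rintro ⟨ξ, hξi⟩ ⟨n, hn, hn1⟩
      have hξ : ξ ∈ S := (hS ξ).mpr ⟨hξi, n, hn, hn1⟩
      obtain ⟨d', hd'⟩ := exists_nat_degree (isCharacter_of_isIrr hξi)
      have hmem := comb_mem K hχ0 hξ hd hd'
      have h1 := hrec ((d : ℤ) • ξ + (-(d' : ℤ)) • χ0)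
      rw [← hext _ hmem, star_comb K hstar hχ0 hξ] at h1
      rw [classInner_add_right, classInner_add_right, ← Int.cast_smul_eq_zsmul ℂ, ← Int.cast_smul_eq_zsmul ℂ,
        ← Int.cast_smul_eq_zsmul ℂ, ← Int.cast_smul_eq_zsmul ℂ,
        classInner_smul_right, classInner_smul_right, classInner_smul_right, classInner_smul_right,
        hperp ξ hξ, hperp χ0 hχ0, mul_zero, mul_zero, add_zero] at h1
      simp only [Int.cast_natCast, Int.cast_neg, map_neg, Complex.conj_natCast] at h1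
      change classInner (fun x : ↥(Subgroup.normalizer (K : Set G)) => ψ x) ξ = _ * ξ 1
      rw [hd']
      field_simp
      linear_combination h1
    have hcf : IsClassFunction ↥(Subgroup.normalizer (K : Set G)) (fun x => ψ x) := by
      intro g x
      simp only [Subgroup.coe_mul, InvMemClass.coe_inv]
      rw [hψcf]
    have e1 := const_of_inner (KN K) hcf hinner (k := ⟨a, Subgroup.le_normalizer ha⟩) ha
      (fun h => ha1 (congrArg Subtype.val h))
    have e2 := const_of_inner (KN K) hcf hinner (k := ⟨b, Subgroup.le_normalizer hb⟩) hb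
      (fun h => hb1 (congrArg Subtype.val h))
    exact e1.trans e2.symm

theorem isIntegral_of_gen {H : Type u} [Group H] [Finite H] {f : H → ℂ} (hf : IsGeneralizedCharacter H f)
    (g : H) : IsIntegral ℤ (f g) := by
  obtain ⟨a, b, ha, hb, rfl⟩ := hf
  exact (isIntegral_of_isCharacter ha g).sub (isIntegral_of_isCharacter hb g)

theorem isGen_restrict {H : Type u} [Group H] {f : H → ℂ} (hf : IsGeneralizedCharacter H f)
    (L : Subgroup H) : IsGeneralizedCharacter L (fun x : L => f x) := by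
  obtain ⟨a, b, ha, hb, rfl⟩ := hf
  exact ⟨_, _, isCharacter_restrict ha L, isCharacter_restrict hb L, rfl⟩

/-- S0853. -/
theorem tifn_star_sub
    (hTI : ∀ g : G, g ∉ Subgroup.normalizer (K : Set G) → ∀ k ∈ K, g * k * g⁻¹ ∈ K → k = 1)
    (hlt : K < Subgroup.normalizer (K : Set G))
    (hC : ∀ k ∈ K, k ≠ 1 → Subgroup.centralizer ({k} : Set G) ≤ K)
    (S : Set (↥(Subgroup.normalizer (K : Set G)) → ℂ)) (hS : ∀ χ, χ ∈ S ↔ Rel K χ)
    (htwo : ∃ χ ∈ S, ∃ ξ ∈ S, χ ≠ ξ)
    (star : (↥(Subgroup.normalizer (K : Set G)) → ℂ) → (G → ℂ))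
    (hstar : IsLinearIsometryOn (zspan S) star)
    (hext : ∀ α ∈ zspanOn S ({1}ᶜ : Set ↥(Subgroup.normalizer (K : Set G))),
      star α = indFun (Subgroup.normalizer (K : Set G)) α) :
    ∃ m : ℤ, ∀ χ ∈ S, ∀ k : ↥(Subgroup.normalizer (K : Set G)), (k : G) ∈ K → k ≠ 1 →
      star χ k - χ k = (m : ℂ) * χ 1 / ((KN K).index : ℂ) := by
  classical
  have hKn : (KN K).Normal := Subgroup.normal_in_normalizer
  obtain ⟨L, hL⟩ : ∃ L : Subgroup G, L = Subgroup.normalizer (K : Set G) := ⟨_, rfl⟩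
  have : Fintype (IrrCharacter ↥(Subgroup.normalizer (K : Set G))) := Fintype.ofFinite _
  obtain ⟨χ0, hχ0, -⟩ := htwo
  have hχ0i := ((hS χ0).mp hχ0).1
  obtain ⟨d0, hd0⟩ := exists_nat_degree (isCharacter_of_isIrr hχ0i)
  have hd00 : (d0 : ℂ) ≠ 0 := by rw [← hd0]; exact irr_one_ne_zero hχ0i
  have hgen : ∀ χ ∈ S, IsGeneralizedCharacter ↥(Subgroup.normalizer (K : Set G)) (fun x => star χ x - χ x) := by
    intro χ hχ
    have h1 := isGen_restrict (hstar.2.2.2 χ (Submodule.subset_span hχ)) (Subgroup.normalizer (K : Set G))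
    exact Cfsg.Agent.Coh.isGen_sub h1 (Cfsg.Agent.Coh.isGen_of_isIrr ((hS χ).mp hχ).1)
  -- the differences are constant integers on `K#`
  have hconst : ∀ χ ∈ S, ∃ δ : ℤ, ∀ k : ↥(Subgroup.normalizer (K : Set G)), (k : G) ∈ K → k ≠ 1 →
      star χ k - χ k = δ := by
    intro χ hχ
    have hg := hgen χ hχ
    have hcf := Cfsg.Agent.Coh.isGen_isClassFunction hg
    choose n hn using fun ξ : IrrCharacter ↥(Subgroup.normalizer (K : Set G)) =>
      classInner_intCast hg (Cfsg.Agent.Coh.isGen_of_isIrr ξ.2)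
    choose deg hdeg using fun ξ : IrrCharacter ↥(Subgroup.normalizer (K : Set G)) =>
      exists_nat_degree (irr_isCharacter ξ)
    -- orthogonality to differences
    have horth : ∀ ξ ∈ S, ∀ d' : ℕ, ξ 1 = d' →
        (d0 : ℂ) * classInner (fun x : ↥(Subgroup.normalizer (K : Set G)) => star χ x - χ x) ξ
        = d' * classInner (fun x : ↥(Subgroup.normalizer (K : Set G)) => star χ x - χ x) χ0 := by
      intro ξ hξ d' hd'
      have hmem := comb_mem K hχ0 hξ hd0 hd'
      have hcl := Cfsg.Agent.Coh.isGen_isClassFunction (hstar.2.2.2 χ (Submodule.subset_span hχ))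
      have h1 : classInner (fun x : ↥(Subgroup.normalizer (K : Set G)) => star χ x)
          ((d0 : ℤ) • ξ + (-(d' : ℤ)) • χ0) = classInner χ ((d0 : ℤ) • ξ + (-(d' : ℤ)) • χ0) := by
        rw [← frobenius_reciprocity' _ _ _ hcl, ← hext _ hmem]
        exact hstar.2.2.1 _ (Submodule.subset_span hχ) _ hmem.1
      have h2 : classInner (fun x : ↥(Subgroup.normalizer (K : Set G)) => star χ x - χ x)
          ((d0 : ℤ) • ξ + (-(d' : ℤ)) • χ0) = 0 := by
        have h3 : (fun x : ↥(Subgroup.normalizer (K : Set G)) => star χ x - χ x)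
          = (fun x : ↥(Subgroup.normalizer (K : Set G)) => star χ x) - χ := rfl
        rw [h3, classInner_sub_left, h1, sub_self]
      rw [classInner_add_right, ← Int.cast_smul_eq_zsmul ℂ, ← Int.cast_smul_eq_zsmul ℂ,
        classInner_smul_right, classInner_smul_right] at h2
      simp only [Int.cast_natCast, Int.cast_neg, map_neg, Complex.conj_natCast] at h2
      linear_combination h2
    have hinner : ∀ ξ : IrrCharacter ↥(Subgroup.normalizer (K : Set G)),
        (∃ n ∈ KN K, (ξ : ↥(Subgroup.normalizer (K : Set G)) → ℂ) n ≠ (ξ : ↥(Subgroup.normalizer (K : Set G)) → ℂ) 1) →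
        classInner (fun x : ↥(Subgroup.normalizer (K : Set G)) => star χ x - χ x) (ξ : ↥(Subgroup.normalizer (K : Set G)) → ℂ)
          = ((n ⟨χ0, hχ0i⟩ : ℂ) / d0) * (ξ : ↥(Subgroup.normalizer (K : Set G)) → ℂ) 1 := by
      intro ξ ⟨m, hm, hm1⟩
      have hξ : (ξ : ↥(Subgroup.normalizer (K : Set G)) → ℂ) ∈ S := (hS _).mpr ⟨ξ.2, m, hm, hm1⟩
      have h1 := horth _ hξ (deg ξ) (hdeg ξ)
      have h2 := hn ⟨χ0, hχ0i⟩
      have h3 : classInner (fun x : ↥(Subgroup.normalizer (K : Set G)) => star χ x - χ x) χ0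
        = (n ⟨χ0, hχ0i⟩ : ℂ) := h2
      rw [h3] at h1
      rw [hdeg]
      field_simp
      linear_combination h1
    -- a base point
    obtain ⟨k0, hk0, hk01⟩ := ((hS χ).mp hχ).2
    have hk0' : k0 ≠ 1 := by rintro rfl; exact hk01 rfl
    obtain ⟨δ, hδ⟩ : ∃ δ : ℤ, star χ k0 - χ k0 = δ := by
      have h1 := const_of_inner (KN K) hcf hinner (k := k0) hk0 hk0'
      refine int_of_rat_isIntegral (∑ ξ : IrrCharacter ↥(Subgroup.normalizer (K : Set G)),
        if (∃ n ∈ KN K, (ξ : ↥(Subgroup.normalizer (K : Set G)) → ℂ) n ≠ (ξ : ↥(Subgroup.normalizer (K : Set G)) → ℂ) 1)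
        then 0 else (((n ξ : ℚ) - ((n ⟨χ0, hχ0i⟩ : ℚ) / d0) * deg ξ) * deg ξ)) ?_ ?_
      · refine h1.trans ?_
        push_cast
        refine Finset.sum_congr rfl fun ξ _ => ?_
        split_ifs with h
        · simp
        · rw [hn, hdeg]
          push_cast
          rfl
      · exact isIntegral_of_gen hg k0
    refine ⟨δ, fun k hk hk1 => ?_⟩
    have e1 := const_of_inner (KN K) hcf hinner (k := k0) hk0 hk0'
    have e2 := const_of_inner (KN K) hcf hinner (k := k) hk hk1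
    rw [← hδ]
    exact e2.trans e1.symm
  choose! δ hδ using hconst
  -- proportionality
  obtain ⟨k0, hk0, hk01⟩ := ((hS χ0).mp hχ0).2
  have hk0' : k0 ≠ 1 := by rintro rfl; exact hk01 rfl
  have hprop : ∀ ξ ∈ S, (d0 : ℂ) * δ ξ = ξ 1 * δ χ0 := by
    intro ξ hξ
    obtain ⟨d', hd'⟩ := exists_nat_degree (isCharacter_of_isIrr ((hS ξ).mp hξ).1)
    have hmem := comb_mem K hχ0 hξ hd0 hd'
    have hcl : IsClassFunction ↥(Subgroup.normalizer (K : Set G)) ((d0 : ℤ) • ξ + (-(d' : ℤ)) • χ0) := by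
      intro g x
      have h1 := isClassFunction_of_isCharacter (isCharacter_of_isIrr ((hS ξ).mp hξ).1) g x
      have h2 := isClassFunction_of_isCharacter (isCharacter_of_isIrr hχ0i) g x
      simp only [Pi.add_apply, Pi.smul_apply, h1, h2]
    have h1 := (Cfsg.Agent.S0850.result K hTI hlt hC).2 _ hcl (by
      intro x hx
      have h3 := ((hS ξ).mp hξ).vanish hC hx
      have h4 := ((hS χ0).mp hχ0).vanish hC hx
      simp [h3, h4]) (hmem.2 1 (by simp)) k0
    rw [← hext _ hmem, star_comb K hstar hχ0 hξ] at h1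
    have h2 := hδ ξ hξ k0 hk0 hk0'
    have h3 := hδ χ0 hχ0 k0 hk0 hk0'
    rw [Pi.add_apply, Pi.add_apply, Pi.smul_apply, Pi.smul_apply, Pi.smul_apply, Pi.smul_apply,
      zsmul_eq_mul, zsmul_eq_mul, zsmul_eq_mul, zsmul_eq_mul] at h1
    push_cast at h1
    rw [hd']
    linear_combination h1 - (d0 : ℂ) * h2 + (d' : ℂ) * h3
  -- relevant characters are induced
  have hind : ∀ φ : KN K → ℂ, IsIrrCharacter (KN K) φ → φ ≠ (fun _ => 1) →
      indFun (KN K) φ ∈ S := by
    intro φ hφ hφ1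
    rw [hS]
    have h1 : indFun (KN K) φ ∈ inducedIrrAbove (KN K) ⊥ := ⟨φ, hφ, hφ1, by
      intro a ha
      rw [Subgroup.mem_bot] at ha
      rw [Subtype.ext (a2 := (1 : KN K)) ha], rfl⟩
    rw [Cfsg.Agent.Coh.frobKer_above_eq (KN K) (KN_centralizer K hC)] at h1
    exact h1
  have hE : ((KN K).index : ℂ) ≠ 0 := by exact_mod_cast Subgroup.index_ne_zero_of_finite
  obtain ⟨μ, hμ⟩ : ∃ μ : ℂ, μ = (KN K).index * δ χ0 / d0 := ⟨_, rfl⟩
  have hδμ : ∀ ξ ∈ S, (δ ξ : ℂ) = μ * ξ 1 / (KN K).index := by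
    intro ξ hξ
    have h1 := hprop ξ hξ
    rw [hμ]
    field_simp
    linear_combination h1
  have hφμ : ∀ φ : KN K → ℂ, IsIrrCharacter (KN K) φ → φ ≠ (fun _ => 1) →
      (δ (indFun (KN K) φ) : ℂ) = μ * φ 1 := by
    intro φ hφ hφ1
    rw [hδμ _ (hind φ hφ hφ1), indFun_one_apply]
    field_simp
  have hμint : ∃ m : ℤ, μ = m := by
    have : Fintype (IrrCharacter (KN K)) := Fintype.ofFinite _
    choose deg hdeg using fun φ : IrrCharacter (KN K) => exists_nat_degree (irr_isCharacter φ)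
    have hsum := sum_sq_degree (G := KN K)
    let one : IrrCharacter (KN K) := ⟨fun _ => 1, isIrrCharacter_one⟩
    rw [← Finset.add_sum_erase _ _ (Finset.mem_univ one)] at hsum
    have h1 : (one : KN K → ℂ) 1 ^ 2 = 1 := one_pow 2
    rw [h1] at hsum
    -- `μ (|K| - 1)` is an integer
    have h2 : μ * ((Nat.card (KN K) : ℂ) - 1) = ((∑ φ ∈ Finset.univ.erase one, δ (indFun (KN K) φ) * deg φ : ℤ) : ℂ) := by
      rw [← hsum, add_sub_cancel_left, Finset.mul_sum]
      push_cast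
      refine Finset.sum_congr rfl fun φ hφ => ?_
      rw [hφμ φ φ.2 (fun h => (Finset.mem_erase.mp hφ).1 (Subtype.ext h)), hdeg]
      ring
    -- `μ |K|` is an integer
    obtain ⟨φ0, hφ0, hφ01, hφ0e⟩ := Cfsg.Agent.Coh.frobKer_eq_ind (KN K) (KN_centralizer K hC) hχ0i
      (by obtain ⟨k, hk, hk1⟩ := ((hS χ0).mp hχ0).2; exact ⟨k, hk, hk1⟩)
    obtain ⟨e0, he0⟩ := exists_nat_degree (isCharacter_of_isIrr hφ0)
    obtain ⟨t, ht⟩ := degree_dvd_card hφ0 he0
    have h3 : μ * (Nat.card (KN K) : ℂ) = ((δ (indFun (KN K) φ0) * t : ℤ) : ℂ) := by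
      rw [ht]
      push_cast
      rw [hφμ φ0 hφ0 hφ01, he0]
      ring
    refine ⟨δ (indFun (KN K) φ0) * t - ∑ φ ∈ Finset.univ.erase one, δ (indFun (KN K) φ) * deg φ, ?_⟩
    rw [Int.cast_sub, ← h2, ← h3]
    ring
  obtain ⟨m, hm⟩ := hμint
  refine ⟨m, fun χ hχ k hk hk1 => ?_⟩
  rw [hδ χ hχ k hk hk1, hδμ χ hχ, hm]

end TI

end Cfsg.Agent.Char.FT
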