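import Cfsg.Agent.Char.SmallDeg

/-!
# Feit–Thompson: groups with a faithful representation of small degree have a normal Sylow
subgroup (owner: helper15)
-/

set_option autoImplicit false

namespace Cfsg.Agent.Char.SD

open Cfsg Cfsg.Agent.Char Cfsg.Agent.CharBase Cfsg.Agent.Char.FTI
open scoped ComplexConjugate

universe u

section PNorm

variable {G : Type u} [Group G]

/-- The `p`-elements of `K` form a subgroup. -/
def PNorm (p : ℕ) (K : Subgroup G) : Prop :=
  ∀ a ∈ K, ∀ b ∈ K, (∃ i : ℕ, a ^ p ^ i = 1) → (∃ i : ℕ, b ^ p ^ i = 1) → ∃ i : ℕ, (a * b) ^ p ^ i = 1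

/-- The subgroup of `p`-elements. -/
theorem PNorm.exists_sub {p : ℕ} {K : Subgroup G} (h : PNorm p K) :
    ∃ S : Subgroup G, ∀ x : G, x ∈ S ↔ x ∈ K ∧ ∃ i : ℕ, x ^ p ^ i = 1 :=
  ⟨{ carrier := {x | x ∈ K ∧ ∃ i : ℕ, x ^ p ^ i = 1}
     one_mem' := ⟨K.one_mem, 0, one_pow _⟩
     mul_mem' := fun {a b} ha hb => ⟨K.mul_mem ha.1 hb.1, h a ha.1 b hb.1 ha.2 hb.2⟩
     inv_mem' := fun {a} ha => ⟨K.inv_mem ha.1, by
       obtain ⟨i, hi⟩ := ha.2
       exact ⟨i, by rw [inv_pow, hi, inv_one]⟩⟩ }, fun x => Iff.rfl⟩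

theorem isPGroup_of_mem {p : ℕ} {S : Subgroup G} (h : ∀ x ∈ S, ∃ i : ℕ, x ^ p ^ i = 1) :
    IsPGroup p S := by
  rintro ⟨x, hx⟩
  obtain ⟨i, hi⟩ := h x hx
  exact ⟨i, Subtype.ext (by simpa using hi)⟩

variable [Finite G]

theorem pnorm_of_sylow {p : ℕ} [Fact p.Prime] {K : Subgroup G}
    (h : ∀ Q : Sylow p K, (Q : Subgroup K).Normal) : PNorm p K := by
  intro a ha b hb hap hbp
  obtain ⟨Q⟩ : Nonempty (Sylow p K) := inferInstance
  have hQn := h Q
  have key : ∀ x (hx : x ∈ K), (∃ i : ℕ, x ^ p ^ i = 1) → (⟨x, hx⟩ : K) ∈ (Q : Subgroup K) := by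
    intro x hx hxp
    have h1 : IsPGroup p (Subgroup.zpowers (⟨x, hx⟩ : K)) := by
      apply isPGroup_of_mem
      intro y hy
      obtain ⟨j, rfl⟩ := Subgroup.mem_zpowers_iff.mp hy
      obtain ⟨i, hi⟩ := hxp
      refine ⟨i, ?_⟩
      rw [← zpow_natCast, ← zpow_mul, mul_comm, zpow_mul, zpow_natCast]
      have : (⟨x, hx⟩ : K) ^ p ^ i = 1 := Subtype.ext (by simpa using hi)
      rw [this, one_zpow]
    obtain ⟨R, hR⟩ := h1.exists_le_sylow
    obtain ⟨g, hg⟩ := MulAction.exists_smul_eq K R Q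
    have h2 : g * (⟨x, hx⟩ : K) * g⁻¹ ∈ (Q : Subgroup K) := by
      rw [← hg, Sylow.coe_subgroup_smul]
      have : g * (⟨x, hx⟩ : K) * g⁻¹ = MulAut.conj g • (⟨x, hx⟩ : K) := rfl
      rw [this]
      exact Subgroup.smul_mem_pointwise_smul _ _ _ (hR (Subgroup.mem_zpowers _))
    have h3 := hQn.conj_mem _ h2 g⁻¹
    have h4 : g⁻¹ * (g * (⟨x, hx⟩ : K) * g⁻¹) * g⁻¹⁻¹ = ⟨x, hx⟩ := by group
    rwa [h4] at h3
  obtain ⟨i, hi⟩ := Q.2 ⟨_, (Q : Subgroup K).mul_mem (key a ha hap) (key b hb hbp)⟩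
  refine ⟨i, ?_⟩
  have h1 := congrArg Subtype.val hi
  have h2 := congrArg Subtype.val h1
  simpa using h2

theorem sylow_normal_of_pnorm {p : ℕ} [Fact p.Prime] (M : Subgroup G) [hM : M.Normal] (h : PNorm p M)
    (P : Sylow p G) (hPM : (P : Subgroup G) ≤ M) : (P : Subgroup G).Normal := by
  obtain ⟨S, hS⟩ := h.exists_sub
  have h1 : S = P := P.is_maximal' (isPGroup_of_mem fun x hx => ((hS x).mp hx).2) (fun x hx => by
    rw [hS]
    refine ⟨hPM hx, ?_⟩
    obtain ⟨i, hi⟩ := P.2 ⟨x, hx⟩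
    exact ⟨i, by simpa using congrArg Subtype.val hi⟩)
  rw [← h1]
  refine ⟨fun x hx g => ?_⟩
  rw [hS] at hx ⊢
  refine ⟨hM.conj_mem _ hx.1 g, ?_⟩
  obtain ⟨i, hi⟩ := hx.2
  exact ⟨i, by rw [conj_pow, hi]; group⟩

/-- A `p`-subgroup containing a subgroup of Sylow order is equal to it. -/
theorem eq_of_pgroup_ge {p : ℕ} [Fact p.Prime] (P : Sylow p G) {A S : Subgroup G}
    (hA : Nat.card A = Nat.card P) (hS : IsPGroup p S) (h : A ≤ S) : A = S := by
  apply Subgroup.eq_of_le_of_card_ge h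
  rw [hA, Sylow.card_eq_multiplicity]
  obtain ⟨k, hk⟩ := IsPGroup.iff_card.mp hS
  rw [hk]
  have h1 : p ^ k ∣ Nat.card G := hk ▸ Subgroup.card_subgroup_dvd_card S
  exact Nat.pow_le_pow_right (Fact.out (p := p.Prime)).pos
    (((Fact.out (p := p.Prime)).pow_dvd_iff_le_factorization Nat.card_pos.ne').mp h1)

end PNorm

section

variable {G : Type u} [Group G] [Fintype G]

/-- A character whose constituents are all trivial at `g` is trivial at `g`. -/
theorem eq_one_of_constituents {χ : G → ℂ} (hχ : IsCharacter G χ) {g : G}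
    (h : ∀ ψ : IrrCharacter G, classInner χ (ψ : G → ℂ) ≠ 0 → (ψ : G → ℂ) g = (ψ : G → ℂ) 1) :
    χ g = χ 1 := by
  classical
  have : Fintype (IrrCharacter G) := Fintype.ofFinite _
  obtain ⟨m, hm, hsum⟩ := exists_mult_of_isCharacter hχ
  have h1 := congrFun hsum g
  have h2 := congrFun hsum 1
  rw [Finset.sum_apply] at h1 h2
  rw [h1, h2]
  refine Finset.sum_congr rfl fun ψ _ => ?_
  rw [Pi.smul_apply, Pi.smul_apply]
  by_cases h3 : m ψ = 0
  · rw [h3, zero_nsmul, zero_nsmul]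
  · rw [h ψ (by rw [hm]; exact_mod_cast h3)]

theorem degree_le_of_constituent {χ : G → ℂ} (hχ : IsCharacter G χ) {n : ℕ} (hn : χ 1 = n)
    (ψ : IrrCharacter G) (h : classInner χ (ψ : G → ℂ) ≠ 0) :
    ∃ d : ℕ, (ψ : G → ℂ) 1 = d ∧ d ≤ n := by
  classical
  have : Fintype (IrrCharacter G) := Fintype.ofFinite _
  obtain ⟨m, hm, hsum⟩ := exists_mult_of_isCharacter hχ
  choose deg hdeg using fun ψ : IrrCharacter G => exists_nat_degree (irr_isCharacter ψ)
  refine ⟨deg ψ, hdeg ψ, ?_⟩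
  have h1 := congrFun hsum 1
  rw [Finset.sum_apply, hn] at h1
  have h2 : n = ∑ ψ, m ψ * deg ψ := by
    have : (n : ℂ) = ((∑ ψ, m ψ * deg ψ : ℕ) : ℂ) := by
      rw [h1]
      push_cast
      refine Finset.sum_congr rfl fun ψ _ => ?_
      rw [Pi.smul_apply, nsmul_eq_mul, hdeg]
    exact_mod_cast this
  have h3 : m ψ ≠ 0 := by
    intro h4
    apply h
    rw [hm, h4, Nat.cast_zero]
  rw [h2]
  refine le_trans ?_ (Finset.single_le_sum (f := fun ψ => m ψ * deg ψ) (fun _ _ => Nat.zero_le _)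
    (Finset.mem_univ ψ))
  exact Nat.le_mul_of_pos_left _ (Nat.pos_of_ne_zero h3)

/-- A group with a faithful character all of whose constituents are linear is abelian. -/
theorem comm_of_linear {χ : G → ℂ} (hχ : IsCharacter G χ) (hf : ∀ g : G, χ g = χ 1 → g = 1)
    (h : ∀ ψ : IrrCharacter G, classInner χ (ψ : G → ℂ) ≠ 0 → (ψ : G → ℂ) 1 = 1) (a b : G) :
    a * b = b * a := by
  have h1 : a * b * (b * a)⁻¹ = 1 := by
    apply hf
    apply eq_one_of_constituents hχ
    intro ψ hψ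
    have h2 := h ψ hψ
    have hc := irr_isCharacter ψ
    rw [linChar_mul hc h2, linChar_mul hc h2, mul_inv_rev, linChar_mul hc h2, h2]
    have h3 : (ψ : G → ℂ) a * (ψ : G → ℂ) a⁻¹ = 1 := by rw [← linChar_mul hc h2, mul_inv_cancel, h2]
    have h4 : (ψ : G → ℂ) b * (ψ : G → ℂ) b⁻¹ = 1 := by rw [← linChar_mul hc h2, mul_inv_cancel, h2]
    linear_combination (ψ : G → ℂ) b * (ψ : G → ℂ) b⁻¹ * h3 + h4
  exact mul_inv_eq_one.mp h1

/-- An element where all constituents have maximal absolute value is central. -/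
theorem central_of_norm {χ : G → ℂ} (hχ : IsCharacter G χ) (hf : ∀ g : G, χ g = χ 1 → g = 1) {x : G}
    (h : ∀ (ψ : IrrCharacter G) (d : ℕ), classInner χ (ψ : G → ℂ) ≠ 0 → (ψ : G → ℂ) 1 = d →
      ‖(ψ : G → ℂ) x‖ = d) (g : G) : x * g = g * x := by
  have h1 : x * g * (g * x)⁻¹ = 1 := by
    apply hf
    apply eq_one_of_constituents hχ
    intro ψ hψ
    obtain ⟨n, ρ, hρ, hρψ⟩ := ψ.2
    have h2 : ρ.character 1 = (n : ℂ) := by rw [Representation.char_one, Module.finrank_fin_fun]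
    have h3 := h ψ n hψ (by rw [← hρψ]; exact h2)
    rw [← hρψ] at h3
    have h4 : ‖ρ.character x‖ = (Module.finrank ℂ (Fin n → ℂ) : ℝ) := by
      rw [Module.finrank_fin_fun]; exact h3
    obtain ⟨ω, hω⟩ := (rep_norm_character_eq_iff ρ x).mp h4
    rw [← hρψ]
    have h5 : ρ (x * g) = ρ (g * x) := by
      rw [map_mul, map_mul, hω, smul_mul_assoc, mul_smul_comm]
      rfl
    have h6 : ρ (x * g * (g * x)⁻¹) = ρ 1 := by
      rw [map_mul, h5, ← map_mul, mul_inv_cancel]
    simp only [Representation.character, h6]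
  exact mul_inv_eq_one.mp h1

end

/-- Transfer: an abelian Sylow subgroup meets the centre and the derived subgroup trivially. -/
theorem inf_center_commutator {G : Type u} [Group G] [Finite G] {p : ℕ} [Fact p.Prime] (P : Sylow p G)
    (hab : ∀ a ∈ (P : Subgroup G), ∀ b ∈ (P : Subgroup G), a * b = b * a) {z : G}
    (hz : z ∈ (P : Subgroup G)) (hzc : z ∈ Subgroup.center G) (hzG : z ∈ commutator G) : z = 1 := by
  let _ : CommGroup (P : Subgroup G) :=
    { (inferInstance : Group (P : Subgroup G)) with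
      mul_comm := fun a b => Subtype.ext (hab a a.2 b b.2) }
  have key : ∀ (k : ℕ) (g₀ : G), g₀⁻¹ * z ^ k * g₀ ∈ (P : Subgroup G) → g₀⁻¹ * z ^ k * g₀ = z ^ k := by
    intro k g₀ _
    have h1 := Subgroup.mem_center_iff.mp (Subgroup.pow_mem _ hzc k) g₀
    rw [mul_assoc, ← h1, inv_mul_cancel_left]
  have h1 := MonoidHom.transfer_eq_pow (MonoidHom.id (P : Subgroup G)) z key
  have h2 : MonoidHom.transfer (MonoidHom.id (P : Subgroup G)) z = 1 := by
    have h3 : commutator G ≤ (MonoidHom.transfer (MonoidHom.id (P : Subgroup G))).ker :=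
      Abelianization.commutator_subset_ker _
    exact MonoidHom.mem_ker.mp (h3 hzG)
  rw [h2] at h1
  have h4 : z ^ (P : Subgroup G).index = 1 := by
    have := congrArg Subtype.val h1
    simpa using this.symm
  obtain ⟨k, hk⟩ := P.2 ⟨z, hz⟩
  have h5 : z ^ p ^ k = 1 := by simpa using congrArg Subtype.val hk
  have h6 : Nat.Coprime (P : Subgroup G).index (p ^ k) :=
    (((Nat.Prime.coprime_iff_not_dvd Fact.out).mpr P.not_dvd_index).symm).pow_right k
  have h7 : orderOf z ∣ Nat.gcd (P : Subgroup G).index (p ^ k) :=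
    Nat.dvd_gcd (orderOf_dvd_of_pow_eq_one h4) (orderOf_dvd_of_pow_eq_one h5)
  rw [h6.gcd_eq_one, Nat.dvd_one, orderOf_eq_one_iff] at h7
  exact h7

theorem pnorm_of_top_sylow {G : Type u} [Group G] [Finite G] {p : ℕ} [Fact p.Prime]
    (h : ∀ P : Sylow p G, (P : Subgroup G).Normal) : PNorm p (⊤ : Subgroup G) := by
  intro a _ b _ hap hbp
  obtain ⟨Q⟩ : Nonempty (Sylow p G) := inferInstance
  have hQn := h Q
  have key : ∀ x : G, (∃ i : ℕ, x ^ p ^ i = 1) → x ∈ (Q : Subgroup G) := by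
    intro x hxp
    have h1 : IsPGroup p (Subgroup.zpowers x) := by
      apply isPGroup_of_mem
      intro y hy
      obtain ⟨j, rfl⟩ := Subgroup.mem_zpowers_iff.mp hy
      obtain ⟨i, hi⟩ := hxp
      refine ⟨i, ?_⟩
      rw [← zpow_natCast, ← zpow_mul, mul_comm, zpow_mul, zpow_natCast, hi, one_zpow]
    obtain ⟨R, hR⟩ := h1.exists_le_sylow
    obtain ⟨g, hg⟩ := MulAction.exists_smul_eq G R Q
    have h2 : g * x * g⁻¹ ∈ (Q : Subgroup G) := by
      rw [← hg, Sylow.coe_subgroup_smul]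
      have : g * x * g⁻¹ = MulAut.conj g • x := rfl
      rw [this]
      exact Subgroup.smul_mem_pointwise_smul _ _ _ (hR (Subgroup.mem_zpowers _))
    have h3 := hQn.conj_mem _ h2 g⁻¹
    have h4 : g⁻¹ * (g * x * g⁻¹) * g⁻¹⁻¹ = x := by group
    rwa [h4] at h3
  obtain ⟨i, hi⟩ := Q.2 ⟨_, (Q : Subgroup G).mul_mem (key a hap) (key b hbp)⟩
  exact ⟨i, by simpa using congrArg Subtype.val hi⟩

section Cases

variable {G : Type u} [Group G] [Fintype G] {p : ℕ} [Fact p.Prime]

theorem caseA (P : Sylow p G) [Fintype (P : Subgroup G)]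
    (hab : ∀ a ∈ (P : Subgroup G), ∀ b ∈ (P : Subgroup G), a * b = b * a)
    (hnorm : ∀ M : Subgroup G, M.Normal → (P : Subgroup G) ≤ M → M = ⊤)
    (hPn : ¬ (P : Subgroup G).Normal) (hprop : ∀ K : Subgroup G, K ≠ ⊤ → PNorm p K)
    (hZ : (P : Subgroup G) ⊓ Subgroup.center G = ⊥) {n : ℕ} {χ : G → ℂ} (hχ : IsCharacter G χ)
    (hn : χ 1 = n) (hf : ∀ g : G, χ g = χ 1 → g = 1)
    (hyp : (n + 1) ^ 2 ≤ p ∨ (n + 1 < p ∧ ∀ K : Subgroup G, ¬ p ^ 2 ∣ Nat.card K → PNorm p K)) :
    False := by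
  classical
  have hp := Fact.out (p := p.Prime)
  have hmem : ∀ a x : G, x ∈ (P : Subgroup G).map (MulAut.conj a).toMonoidHom ↔ a⁻¹ * x * a ∈ (P : Subgroup G) := by
    intro a x
    constructor
    · rintro ⟨y, hy, rfl⟩
      have : a⁻¹ * ((MulAut.conj a).toMonoidHom y) * a = y := by
        simp only [MulEquiv.coe_toMonoidHom, MulAut.conj_apply]; group
      rw [this]; exact hy
    · intro h
      refine ⟨_, h, ?_⟩
      simp only [MulEquiv.coe_toMonoidHom, MulAut.conj_apply]; group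
  have hcard : ∀ a : G, Nat.card ((P : Subgroup G).map (MulAut.conj a).toMonoidHom) = Nat.card P := by
    intro a
    exact (Nat.card_congr ((P : Subgroup G).equivMapOfInjective _ (MulAut.conj a).injective).toEquiv).symm
  have hpel : ∀ a x : G, x ∈ (P : Subgroup G).map (MulAut.conj a).toMonoidHom → ∃ i : ℕ, x ^ p ^ i = 1 := by
    intro a x hx
    obtain ⟨i, hi⟩ := P.2 ⟨_, (hmem a x).mp hx⟩
    refine ⟨i, ?_⟩
    have h1 : (a⁻¹ * x * a) ^ p ^ i = 1 := by simpa using congrArg Subtype.val hi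
    have h2 : a⁻¹ * x ^ p ^ i * a = 1 := by
      have h3 := conj_pow (i := p ^ i) (a := a⁻¹) (b := x)
      rw [inv_inv] at h3
      rw [← h3, h1]
    have h4 : x ^ p ^ i = a * (a⁻¹ * x ^ p ^ i * a) * a⁻¹ := by group
    rw [h4, h2]; group
  have hTI : ∀ a c x : G, x ≠ 1 → x ∈ (P : Subgroup G).map (MulAut.conj a).toMonoidHom →
      x ∈ (P : Subgroup G).map (MulAut.conj c).toMonoidHom →
      (P : Subgroup G).map (MulAut.conj a).toMonoidHom = (P : Subgroup G).map (MulAut.conj c).toMonoidHom := by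
    intro a c x hx1 hxa hxc
    have hK : Subgroup.centralizer ({x} : Set G) ≠ ⊤ := by
      intro h
      have h1 : x ∈ Subgroup.center G := by
        rw [Subgroup.mem_center_iff]
        intro g
        have : g ∈ Subgroup.centralizer ({x} : Set G) := by rw [h]; exact Subgroup.mem_top g
        exact Subgroup.mem_centralizer_singleton_iff.mp this
      have h2 : a⁻¹ * x * a = x := by
        rw [mul_assoc, ← Subgroup.mem_center_iff.mp h1 a, inv_mul_cancel_left]
      have h3 : x ∈ (P : Subgroup G) ⊓ Subgroup.center G := ⟨h2 ▸ (hmem a x).mp hxa, h1⟩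
      rw [hZ, Subgroup.mem_bot] at h3
      exact hx1 h3
    obtain ⟨S, hS⟩ := (hprop _ hK).exists_sub
    have hSp : IsPGroup p S := isPGroup_of_mem fun y hy => ((hS y).mp hy).2
    have hle : ∀ b : G, x ∈ (P : Subgroup G).map (MulAut.conj b).toMonoidHom →
        (P : Subgroup G).map (MulAut.conj b).toMonoidHom = S := by
      intro b hb
      apply eq_of_pgroup_ge P (hcard b) hSp
      intro y hy
      rw [hS]
      refine ⟨?_, hpel b y hy⟩
      rw [Subgroup.mem_centralizer_singleton_iff]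
      have h1 := hab _ ((hmem b y).mp hy) _ ((hmem b x).mp hb)
      have h2 : y * x = b * ((b⁻¹ * y * b) * (b⁻¹ * x * b)) * b⁻¹ := by group
      have h3 : x * y = b * ((b⁻¹ * x * b) * (b⁻¹ * y * b)) * b⁻¹ := by group
      rw [h2, h3, h1]
    rw [hle a hxa, hle c hxc]
  have hone : ∀ g : G, g ∉ Subgroup.center G → ∀ a b : G,
      Subgroup.centralizer ({g} : Set G) ⊓ (P : Subgroup G).map (MulAut.conj a).toMonoidHom ≠ ⊥ →
      Subgroup.centralizer ({g} : Set G) ⊓ (P : Subgroup G).map (MulAut.conj b).toMonoidHom ≠ ⊥ →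
      (P : Subgroup G).map (MulAut.conj a).toMonoidHom = (P : Subgroup G).map (MulAut.conj b).toMonoidHom := by
    intro g hg a b ha hb
    have hK : Subgroup.centralizer ({g} : Set G) ≠ ⊤ := by
      intro h
      apply hg
      rw [Subgroup.mem_center_iff]
      intro k
      have : k ∈ Subgroup.centralizer ({g} : Set G) := by rw [h]; exact Subgroup.mem_top k
      exact Subgroup.mem_centralizer_singleton_iff.mp this
    obtain ⟨S, hS⟩ := (hprop _ hK).exists_sub
    have hSp : IsPGroup p S := isPGroup_of_mem fun y hy => ((hS y).mp hy).2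
    obtain ⟨Q, hQ⟩ := hSp.exists_le_sylow
    obtain ⟨c, hc⟩ := MulAction.exists_smul_eq G P Q
    have hQc : ∀ x : G, x ∈ (Q : Subgroup G) → x ∈ (P : Subgroup G).map (MulAut.conj c).toMonoidHom := by
      intro x hx
      rw [← hc, Sylow.coe_subgroup_smul] at hx
      exact hx
    have key : ∀ d : G, Subgroup.centralizer ({g} : Set G) ⊓ (P : Subgroup G).map (MulAut.conj d).toMonoidHom ≠ ⊥ →
        (P : Subgroup G).map (MulAut.conj d).toMonoidHom = (P : Subgroup G).map (MulAut.conj c).toMonoidHom := by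
      intro d hd
      obtain ⟨x, hx, hx1⟩ := (Subgroup.bot_or_exists_ne_one _).resolve_left hd
      refine hTI d c x hx1 hx.2 (hQc x (hQ ?_))
      rw [hS]
      exact ⟨hx.1, hpel d x hx.2⟩
    rw [key a ha, key b hb]
  -- a nonlinear constituent
  have hex : ∃ ψ : IrrCharacter G, classInner χ (ψ : G → ℂ) ≠ 0 ∧ (ψ : G → ℂ) 1 ≠ 1 := by
    by_contra hcon
    push Not at hcon
    have hcomm := comm_of_linear hχ hf hcon
    apply hPn
    refine ⟨fun x hx g => ?_⟩
    rw [hcomm g x, mul_inv_cancel_right]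
    exact hx
  obtain ⟨ψ, hψ, hψ1⟩ := hex
  obtain ⟨d, hd, hdn⟩ := degree_le_of_constituent hχ hn ψ hψ
  have h1 := part2 (P : Subgroup G) hab hZ hone ψ.2 hψ1 hnorm
  rw [hd, Complex.natCast_re] at h1
  have h2 : Nat.card P < (n + 1) ^ 2 := by
    have h3 : ((Nat.card P : ℕ) : ℝ) < ((1 + d : ℕ) : ℝ) ^ 2 := by push_cast; exact h1
    have h4 : Nat.card P < (1 + d) ^ 2 := by exact_mod_cast h3
    exact h4.trans_le (Nat.pow_le_pow_left (by omega) 2)
  have hPk : ∃ k, Nat.card P = p ^ k ∧ ∀ j, p ^ j ∣ Nat.card G → j ≤ k := by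
    refine ⟨_, Sylow.card_eq_multiplicity P, fun j hj => ?_⟩
    exact (hp.pow_dvd_iff_le_factorization Nat.card_pos.ne').mp hj
  obtain ⟨k, hk, hk'⟩ := hPk
  rcases hyp with h | ⟨h, h'⟩
  · have h3 : k = 0 := by
      by_contra h4
      have : p ≤ p ^ k := Nat.le_self_pow h4 p
      omega
    rw [h3, pow_zero] at hk
    apply hPn
    have h4 : (P : Subgroup G) = ⊥ := Subgroup.card_eq_one.mp hk
    rw [h4]
    infer_instance
  · have h3 : k < 2 := by
      by_contra h4
      have h5 : p ^ 2 ≤ p ^ k := Nat.pow_le_pow_right hp.pos (by omega)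
      have h6 : (n + 1) ^ 2 < p ^ 2 := Nat.pow_lt_pow_left h (by norm_num)
      omega
    have h4 := h' ⊤ (by
      rw [Subgroup.card_top]
      intro h5
      have := hk' 2 h5
      omega)
    exact hPn (sylow_normal_of_pnorm ⊤ h4 P le_top)

theorem caseB (P : Sylow p G)
    (hab : ∀ a ∈ (P : Subgroup G), ∀ b ∈ (P : Subgroup G), a * b = b * a)
    (hnorm : ∀ M : Subgroup G, M.Normal → (P : Subgroup G) ≤ M → M = ⊤)
    (hPn : ¬ (P : Subgroup G).Normal) (hprop : ∀ K : Subgroup G, K ≠ ⊤ → PNorm p K)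
    (hZ : ¬ (P : Subgroup G) ⊓ Subgroup.center G = ⊥) {n : ℕ} {χ : G → ℂ} (hχ : IsCharacter G χ)
    (hn : χ 1 = n) (hf : ∀ g : G, χ g = χ 1 → g = 1) (hnp : n + 1 < p ∨ n = 0) :
    False := by
  classical
  have hp := Fact.out (p := p.Prime)
  obtain ⟨D, hD⟩ : ∃ D : Subgroup G, D = commutator G := ⟨_, rfl⟩
  have hDn : D.Normal := by rw [hD]; infer_instance
  have hPel : ∀ x ∈ (P : Subgroup G), ∃ i : ℕ, x ^ p ^ i = 1 := by
    intro x hx
    obtain ⟨i, hi⟩ := P.2 ⟨x, hx⟩
    exact ⟨i, by simpa using congrArg Subtype.val hi⟩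
  have htrans : ∀ z ∈ (P : Subgroup G), z ∈ Subgroup.center G → z ∈ D → z = 1 := by
    intro z hz hzc hzD
    exact inf_center_commutator P hab hz hzc (hD ▸ hzD)
  have hDtop : D ≠ ⊤ := by
    intro h
    apply hZ
    rw [Subgroup.eq_bot_iff_forall]
    intro x hx
    exact htrans x hx.1 hx.2 (h ▸ Subgroup.mem_top x)
  -- `P ∩ D = 1`
  obtain ⟨S, hS⟩ := (hprop D hDtop).exists_sub
  have hSp : IsPGroup p S := isPGroup_of_mem fun y hy => ((hS y).mp hy).2
  have hSn : S.Normal := by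
    refine ⟨fun x hx g => ?_⟩
    rw [hS] at hx ⊢
    refine ⟨hDn.conj_mem _ hx.1 g, ?_⟩
    obtain ⟨i, hi⟩ := hx.2
    exact ⟨i, by rw [conj_pow, hi]; group⟩
  have hSP : S ≤ P := by
    obtain ⟨Q, hQ⟩ := hSp.exists_le_sylow
    obtain ⟨g, hg⟩ := MulAction.exists_smul_eq G Q P
    intro x hx
    have h1 : g⁻¹ * x * g ∈ S := by
      have := hSn.conj_mem x hx g⁻¹
      rwa [inv_inv] at this
    have h2 : g * (g⁻¹ * x * g) * g⁻¹ ∈ (P : Subgroup G) := by
      rw [← hg, Sylow.coe_subgroup_smul]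
      have : g * (g⁻¹ * x * g) * g⁻¹ = MulAut.conj g • (g⁻¹ * x * g) := rfl
      rw [this]
      exact Subgroup.smul_mem_pointwise_smul _ _ _ (hQ h1)
    have h3 : g * (g⁻¹ * x * g) * g⁻¹ = x := by group
    rwa [h3] at h2
  have hScent : Subgroup.centralizer (S : Set G) = ⊤ := by
    apply hnorm _ inferInstance
    intro y hy
    rw [Subgroup.mem_centralizer_iff]
    intro x hx
    exact hab x (hSP hx) y hy
  have hSbot : ∀ x ∈ S, x = 1 := by
    intro x hx
    refine htrans x (hSP hx) ?_ ((hS x).mp hx).1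
    rw [Subgroup.mem_center_iff]
    intro g
    have : g ∈ Subgroup.centralizer (S : Set G) := by rw [hScent]; exact Subgroup.mem_top g
    exact (Subgroup.mem_centralizer_iff.mp this x hx).symm
  have hDp : ¬ p ∣ Nat.card D := by
    intro h
    obtain ⟨y, hy⟩ := exists_prime_orderOf_dvd_card' p h
    have h1 : (y : G) ∈ S := by
      rw [hS]
      refine ⟨y.2, 1, ?_⟩
      rw [pow_one, ← hy]
      exact congrArg Subtype.val (pow_orderOf_eq_one y)
    have h2 := hSbot _ h1
    have h3 : y = 1 := Subtype.ext h2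
    rw [h3, orderOf_one] at hy
    exact hp.one_lt.ne hy
  have hPD : ∀ x ∈ (P : Subgroup G), x ∈ D → x = 1 := fun x hx hxD =>
    hSbot x ((hS x).mpr ⟨hxD, hPel x hx⟩)
  have hsupn : ∀ H : Subgroup G, (D ⊔ H).Normal := by
    intro H
    have h1 : commutator G ≤ D ⊔ H := hD ▸ le_sup_left
    exact Subgroup.Normal.of_commutator_le G h1
  have htop : D ⊔ P = ⊤ := hnorm _ (hsupn _) le_sup_right
  -- a non-centralizing element
  have hex : ∃ x ∈ (P : Subgroup G), ∃ y ∈ D, x * y ≠ y * x := by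
    by_contra hcon
    push Not at hcon
    apply hPn
    have h1 : D ⊔ P ≤ Subgroup.centralizer ((P : Subgroup G) : Set G) := by
      rw [sup_le_iff]
      constructor
      · intro y hy
        rw [Subgroup.mem_centralizer_iff]
        intro x hx
        exact hcon x hx y hy
      · intro y hy
        rw [Subgroup.mem_centralizer_iff]
        intro x hx
        exact hab x hx y hy
    rw [htop] at h1
    refine ⟨fun x hx g => ?_⟩
    have h2 := Subgroup.mem_centralizer_iff.mp (h1 (Subgroup.mem_top g)) x hx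
    rw [← h2, mul_inv_cancel_right]
    exact hx
  obtain ⟨x, hxP, y, hyD, hxy⟩ := hex
  -- `G = D⟨z⟩` for every `z` in `P` not centralizing `D`
  have hgen : ∀ z ∈ (P : Subgroup G), (∃ y ∈ D, z * y ≠ y * z) → D ⊔ Subgroup.zpowers z = ⊤ := by
    rintro z hz ⟨w, hw, hzw⟩
    by_contra hne
    obtain ⟨T, hT⟩ := (hprop _ hne).exists_sub
    apply hzw
    have hzT : z ∈ T := by
      rw [hT]
      exact ⟨Subgroup.mem_sup_right (Subgroup.mem_zpowers z), hPel z hz⟩
    have h1 : w * z⁻¹ * w⁻¹ ∈ T := by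
      rw [hT]
      refine ⟨(hsupn _).conj_mem _ ((D ⊔ Subgroup.zpowers z).inv_mem (Subgroup.mem_sup_right (Subgroup.mem_zpowers z))) w, ?_⟩
      obtain ⟨i, hi⟩ := hPel z hz
      exact ⟨i, by rw [conj_pow, inv_pow, hi]; group⟩
    have h2 : z * (w * z⁻¹ * w⁻¹) ∈ T := T.mul_mem hzT h1
    have h3 : z * (w * z⁻¹ * w⁻¹) ∈ D := by
      have : z * (w * z⁻¹ * w⁻¹) = (z * w * z⁻¹) * w⁻¹ := by group
      rw [this]
      exact D.mul_mem (hDn.conj_mem _ hw z) (D.inv_mem hw)
    have h4 : z * (w * z⁻¹ * w⁻¹) = 1 := hSbot _ ((hS _).mpr ⟨h3, ((hT _).mp h2).2⟩)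
    have h5 : z * w = z * (w * z⁻¹ * w⁻¹) * (w * z) := by group
    rw [h5, h4, one_mul]
  have htopx := hgen x hxP ⟨y, hyD, hxy⟩
  obtain ⟨k, hk⟩ : ∃ k, orderOf x = p ^ k := by
    obtain ⟨i, hi⟩ := hPel x hxP
    obtain ⟨k, -, hk⟩ := (Nat.dvd_prime_pow hp).mp (orderOf_dvd_of_pow_eq_one hi)
    exact ⟨k, hk⟩
  have hcard : ∀ z ∈ (P : Subgroup G), D ⊔ Subgroup.zpowers z = ⊤ → Nat.card D * orderOf z = Nat.card G := by
    intro z hz h
    have h1 : D.IsComplement' (Subgroup.zpowers z) := by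
      apply Subgroup.isComplement'_of_disjoint_and_mul_eq_univ
      · rw [disjoint_iff, Subgroup.eq_bot_iff_forall]
        intro w hw
        exact hPD w ((Subgroup.zpowers_le.mpr hz) hw.2) hw.1
      · rw [← Subgroup.normal_mul, h]; rfl
    have h2 := h1.card_mul_card
    rwa [Nat.card_zpowers] at h2
  have hxp : x ^ p ∈ Subgroup.center G := by
    have hxpP : x ^ p ∈ (P : Subgroup G) := Subgroup.pow_mem _ hxP p
    have h1 : ∀ y ∈ D, x ^ p * y = y * x ^ p := by
      by_contra hcon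
      push Not at hcon
      have h2 := hgen _ hxpP hcon
      have h3 := hcard _ hxpP h2
      have h4 := hcard _ hxP htopx
      have h5 : orderOf (x ^ p) = orderOf x := by
        have : Nat.card D * orderOf (x ^ p) = Nat.card D * orderOf x := by rw [h3, h4]
        exact Nat.eq_of_mul_eq_mul_left Nat.card_pos this
      rcases Nat.eq_zero_or_pos k with h0 | h0
      · rw [h0, pow_zero, orderOf_eq_one_iff] at hk
        apply hxy
        rw [hk, one_mul, mul_one]
      · rw [orderOf_pow, hk, Nat.gcd_eq_right (dvd_pow_self p h0.ne')] at h5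
        have h6 : p ^ k / p < p ^ k := Nat.div_lt_self (pow_pos hp.pos k) hp.one_lt
        omega
    have h2 : D ⊔ Subgroup.zpowers x ≤ Subgroup.centralizer ({x ^ p} : Set G) := by
      rw [sup_le_iff]
      constructor
      · intro w hw
        rw [Subgroup.mem_centralizer_singleton_iff]
        exact (h1 w hw).symm
      · rw [Subgroup.zpowers_le, Subgroup.mem_centralizer_singleton_iff]
        rw [← pow_succ', ← pow_succ]
    rw [htopx] at h2
    rw [Subgroup.mem_center_iff]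
    intro g
    exact Subgroup.mem_centralizer_singleton_iff.mp (h2 (Subgroup.mem_top g))
  apply hxy
  refine central_of_norm hχ hf ?_ y
  intro ψ d hψ hd
  obtain ⟨d', hd', hdn⟩ := degree_le_of_constituent hχ hn ψ hψ
  have hdd : d = d' := by
    rw [hd] at hd'
    exact_mod_cast hd'
  rcases hnp with h | h
  · exact norm_eq_of_small hp D hDp hk htopx hxp ψ.2 hd (by omega)
  · exfalso
    apply irr_one_ne_zero ψ.2
    have : d = 0 := by omega
    rw [hd, this, Nat.cast_zero]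

end Cases

/-- **Main theorem** (Feit–Thompson). -/
theorem pnorm_main (p : ℕ) [hpf : Fact p.Prime] (m : ℕ) : ∀ (G : Type u) [Group G] [Fintype G],
    Nat.card G = m → ∀ (n : ℕ) (χ : G → ℂ), IsCharacter G χ → χ 1 = n → (∀ g : G, χ g = χ 1 → g = 1) →
    ((n + 1) ^ 2 ≤ p ∨ (n + 1 < p ∧ ∀ K : Subgroup G, ¬ p ^ 2 ∣ Nat.card K → PNorm p K)) →
    PNorm p (⊤ : Subgroup G) := by
  induction m using Nat.strong_induction_on with
  | _ m ih =>
  intro G _ _ hm n χ hχ hn hf hyp
  classical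
  have hp := hpf.out
  -- proper subgroups
  have hprop : ∀ K : Subgroup G, K ≠ ⊤ → PNorm p K := by
    intro K hK
    have := Fintype.ofFinite K
    have h1 : Nat.card K < m := by
      rw [← hm]
      exact lt_of_le_of_ne (Subgroup.card_le_card_group K) (fun h => hK (Subgroup.card_eq_iff_eq_top K |>.mp h))
    have h2 := ih _ h1 K rfl n (fun k : K => χ k) (isCharacter_restrict hχ K) (by simpa using hn)
      (fun g hg => Subtype.ext (hf _ (by simpa using hg))) (by
        rcases hyp with h | ⟨h, h'⟩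
        · exact Or.inl h
        · refine Or.inr ⟨h, fun L hL => ?_⟩
          have h3 := h' (L.map K.subtype) (by
            rwa [Nat.card_congr (L.equivMapOfInjective _ K.subtype_injective).toEquiv.symm])
          intro a ha b hb hap hbp
          obtain ⟨i, hi⟩ := h3 a (Subgroup.mem_map_of_mem _ ha) b (Subgroup.mem_map_of_mem _ hb)
            (by obtain ⟨i, hi⟩ := hap; exact ⟨i, by simpa using congrArg Subtype.val hi⟩)
            (by obtain ⟨i, hi⟩ := hbp; exact ⟨i, by simpa using congrArg Subtype.val hi⟩)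
          exact ⟨i, Subtype.ext (by simpa using hi)⟩)
    intro a ha b hb hap hbp
    obtain ⟨i, hi⟩ := h2 ⟨a, ha⟩ (Subgroup.mem_top _) ⟨b, hb⟩ (Subgroup.mem_top _)
      (by obtain ⟨i, hi⟩ := hap; exact ⟨i, Subtype.ext (by simpa using hi)⟩)
      (by obtain ⟨i, hi⟩ := hbp; exact ⟨i, Subtype.ext (by simpa using hi)⟩)
    exact ⟨i, by simpa using congrArg Subtype.val hi⟩
  apply pnorm_of_top_sylow
  intro P
  by_contra hPn
  have hnp : n + 1 < p ∨ n = 0 := by
    rcases hyp with h | ⟨h, -⟩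
    · rcases Nat.eq_zero_or_pos n with h0 | h0
      · exact Or.inr h0
      · left; nlinarith
    · exact Or.inl h
  -- `P` is abelian
  have := Fintype.ofFinite (P : Subgroup G)
  have hab : ∀ a ∈ (P : Subgroup G), ∀ b ∈ (P : Subgroup G), a * b = b * a := by
    have h1 := comm_of_linear (G := (P : Subgroup G)) (χ := fun k : (P : Subgroup G) => χ k)
      (isCharacter_restrict hχ _) (fun g hg => Subtype.ext (hf _ (by simpa using hg))) (by
        intro ψ hψ
        obtain ⟨d, hd, hdn⟩ := degree_le_of_constituent (n := n) (isCharacter_restrict hχ _)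
          (by simpa using hn) ψ hψ
        have h2 := Cfsg.Agent.CharBase.degree_dvd_card ψ.2 hd
        rw [Sylow.card_eq_multiplicity] at h2
        obtain ⟨i, -, hi⟩ := (Nat.dvd_prime_pow hp).mp h2
        rcases Nat.eq_zero_or_pos i with h0 | h0
        · rw [hd, hi, h0, pow_zero, Nat.cast_one]
        · exfalso
          have h3 : p ≤ p ^ i := Nat.le_self_pow h0.ne' p
          have := hp.one_lt
          omega)
    intro a ha b hb
    simpa using congrArg Subtype.val (h1 ⟨a, ha⟩ ⟨b, hb⟩)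
  -- no proper normal subgroup contains `P`
  have hnorm : ∀ M : Subgroup G, M.Normal → (P : Subgroup G) ≤ M → M = ⊤ := by
    intro M hM hPM
    by_contra hne
    exact hPn (sylow_normal_of_pnorm M (hprop M hne) P hPM)
  by_cases hZ : (P : Subgroup G) ⊓ Subgroup.center G = ⊥
  · exact caseA P hab hnorm hPn hprop hZ hχ hn hf hyp
  · exact caseB P hab hnorm hPn hprop hZ hχ hn hf hnp

end Cfsg.Agent.Char.SD
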