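import Mathlib
import Cfsg.Prelude.Def_Characters
import Cfsg.Prelude.Def_Blocks
import Cfsg.Agent.Char.BrauerInduction
import Cfsg.Agent.Char.BrauerLinear
import Cfsg.Agent.Char.AvgN
import Cfsg.Agent.Hall.Hall
import Cfsg.Agent.Transfer.Frobenius

/-!
# The characterization of characters with algebraic integer coefficients (owner: helper15)
-/

set_option autoImplicit false

namespace Cfsg.Agent.Char.BR

open Cfsg Cfsg.Agent.Char Cfsg.Agent.Char.BI Cfsg.Agent.CharBase
open scoped ComplexConjugate

universe u

section Nil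

/-- A Hall subgroup of a nilpotent group is normal. -/
theorem hall_normal_of_nilpotent {E : Type u} [Group E] [Finite E] (hE : Group.IsNilpotent E)
    (A : Subgroup E) (hA : (Nat.card A).Coprime A.index) : A.Normal := by
  have hnc : ∀ H : Subgroup E, H < ⊤ → H < Subgroup.normalizer (H : Set E) :=
    fun H hH => Group.normalizerCondition_of_isNilpotent H hH
  by_contra hAn
  have h1 : Subgroup.normalizer (A : Set E) < ⊤ := by
    rw [lt_top_iff_ne_top]
    intro h
    exact hAn (Subgroup.normalizer_eq_top_iff.mp h)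
  have h2 := hnc _ h1
  apply h2.not_ge
  intro g hg
  rw [Subgroup.mem_normalizer_iff] at hg ⊢
  have hcardle : ∀ B : Subgroup E, B ≤ Subgroup.normalizer (A : Set E) → Nat.card B = Nat.card A → B = A := by
    intro B hB hcard
    apply le_antisymm _ _
    · intro x hx
      -- the image of B in N/A has order dividing |A| and index
      have h3 : (A.subgroupOf (Subgroup.normalizer (A : Set E))).Normal := Subgroup.normal_in_normalizer
      let π := QuotientGroup.mk' (A.subgroupOf (Subgroup.normalizer (A : Set E)))
      let x' : Subgroup.normalizer (A : Set E) := ⟨x, hB hx⟩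
      have h4 : orderOf (π x') ∣ Nat.card A := by
        refine (orderOf_map_dvd π x').trans ?_
        rw [← hcard, Subgroup.orderOf_mk]
        exact Subgroup.orderOf_dvd_natCard B hx
      have h5 : orderOf (π x') ∣ A.index := by
        refine (orderOf_dvd_natCard (π x')).trans ?_
        exact Subgroup.relIndex_dvd_index_of_le Subgroup.le_normalizer
      have h6 : orderOf (π x') = 1 := Nat.eq_one_of_dvd_coprimes hA h4 h5
      rw [orderOf_eq_one_iff] at h6
      have h7 := (QuotientGroup.eq_one_iff _).mp h6
      exact h7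
    · intro x hx
      have hBA : B ≤ A := by
        intro x hx
        have h3 : (A.subgroupOf (Subgroup.normalizer (A : Set E))).Normal := Subgroup.normal_in_normalizer
        let π := QuotientGroup.mk' (A.subgroupOf (Subgroup.normalizer (A : Set E)))
        let x' : Subgroup.normalizer (A : Set E) := ⟨x, hB hx⟩
        have h4 : orderOf (π x') ∣ Nat.card A := by
          refine (orderOf_map_dvd π x').trans ?_
          rw [← hcard, Subgroup.orderOf_mk]
          exact Subgroup.orderOf_dvd_natCard B hx
        have h5 : orderOf (π x') ∣ A.index := by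
          refine (orderOf_dvd_natCard (π x')).trans ?_
          exact Subgroup.relIndex_dvd_index_of_le Subgroup.le_normalizer
        have h6 : orderOf (π x') = 1 := Nat.eq_one_of_dvd_coprimes hA h4 h5
        rw [orderOf_eq_one_iff] at h6
        have h7 := (QuotientGroup.eq_one_iff _).mp h6
        exact h7
      rw [Subgroup.eq_of_le_of_card_ge hBA hcard.ge]
      exact hx
  have hconj : A.map (MulAut.conj g).toMonoidHom = A := by
    apply hcardle
    · rintro _ ⟨a, ha, rfl⟩
      have h3 : a ∈ Subgroup.normalizer (A : Set E) := Subgroup.le_normalizer ha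
      exact (hg a).mp h3
    · exact Subgroup.card_map_of_injective (MulAut.conj g).injective
  intro h
  constructor
  · intro hh
    rw [← hconj]
    exact ⟨h, hh, rfl⟩
  · intro hh
    rw [← hconj] at hh
    obtain ⟨a, ha, hae⟩ := hh
    have h5 : g * a * g⁻¹ = g * h * g⁻¹ := hae
    have h6 : a = h := by simpa using h5
    rwa [← h6]

/-- Splitting of a finite nilpotent group along coprime factors of its order. -/
theorem nil_split {E : Type u} [Group E] [Finite E] (hE : Group.IsNilpotent E) (a b : ℕ)
    (hab : a.Coprime b) (hcard : Nat.card E = a * b) :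
    ∃ A B : Subgroup E, A.Normal ∧ B.Normal ∧ Nat.card A = a ∧ Nat.card B = b ∧
      (∀ x ∈ A, ∀ y ∈ B, x * y = y * x) := by
  have hsol : Group.IsSolvable E := inferInstance
  obtain ⟨A, hA⟩ := Cfsg.Agent.Hall.hall_exists (G := E) a b hcard hab
  obtain ⟨B, hB⟩ := Cfsg.Agent.Hall.hall_exists (G := E) b a (by rw [hcard, mul_comm]) hab.symm
  have hpos : 0 < Nat.card E := Nat.card_pos
  have ha0 : 0 < a := Nat.pos_of_ne_zero (by rintro rfl; simp at hcard; omega)
  have hb0 : 0 < b := Nat.pos_of_ne_zero (by rintro rfl; simp at hcard; omega)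
  have hAi : A.index = b := by
    have := A.card_mul_index
    rw [hA, hcard] at this
    exact Nat.eq_of_mul_eq_mul_left ha0 this
  have hBi : B.index = a := by
    have := B.card_mul_index
    rw [hB, hcard, mul_comm a b] at this
    exact Nat.eq_of_mul_eq_mul_left hb0 this
  have hAn := hall_normal_of_nilpotent hE A (by rw [hA, hAi]; exact hab)
  have hBn := hall_normal_of_nilpotent hE B (by rw [hB, hBi]; exact hab.symm)
  refine ⟨A, B, hAn, hBn, hA, hB, ?_⟩
  have hdis : Disjoint A B := Subgroup.disjoint_of_coprime_natCard (by rw [hA, hB]; exact hab)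
  intro x hx y hy
  exact Subgroup.commute_of_normal_of_disjoint A B hAn hBn hdis x y hx hy

end Nil

section Inner

variable {E : Type u} [Group E] [Fintype E]

/-- The complex conjugate of a character is a character. -/
theorem isCharacter_conj {χ : E → ℂ} (hχ : IsCharacter E χ) :
    IsCharacter E (fun g => conj (χ g)) := by
  classical
  have := Fintype.ofFinite (IrrCharacter E)
  obtain ⟨m, -, hsum⟩ := exists_mult_of_isCharacter hχ
  have h1 : (fun g => conj (χ g)) =
      ∑ ψ : IrrCharacter E, m ψ • (fun g => conj ((ψ : E → ℂ) g)) := by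
    funext g
    rw [hsum, Finset.sum_apply, Finset.sum_apply, map_sum]
    refine Finset.sum_congr rfl fun ψ _ => ?_
    simp [nsmul_eq_mul]
  rw [h1]
  exact isCharacter_sum _ _ fun ψ _ =>
    isCharacter_nsmul (isCharacter_of_isIrr (isIrrCharacter_conj ψ.2)) _

/-- Integrality of an inner product for a function constant on the cosets of a normal Hall subgroup
`B` and divisible by the order of a complement `A`. -/
theorem isIntegral_classInner_of_split (A B : Subgroup E) [hB : B.Normal]
    (hcard : Nat.card A * Nat.card B = Nat.card E) (hcop : (Nat.card A).Coprime (Nat.card B))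
    (f : E → ℂ) (hf : ∀ y ∈ B, ∀ e, f (y * e) = f e)
    (c : E → ℂ) (hc : ∀ e, IsIntegral ℤ (c e)) (hfc : ∀ e, f e = (Nat.card A : ℂ) * c e)
    (η : E → ℂ) (hη : IsCharacter E η) : IsIntegral ℤ (classInner f η) := by
  classical
  have := Fintype.ofFinite A
  have := Fintype.ofFinite B
  have hcompl : Subgroup.IsComplement' B A :=
    Subgroup.isComplement'_of_coprime (by rw [mul_comm]; exact hcard) hcop.symm
  have hbij : Function.Bijective (fun x : B × A => (x.1 : E) * (x.2 : E)) := hcompl
  have h1 : classInner f η = ∑ x : A, c x * conj (avgN B η x) := by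
    unfold classInner
    rw [← Equiv.sum_comp (Equiv.ofBijective _ hbij) (fun e => f e * conj (η e)),
      Fintype.sum_prod_type_right]
    have h2 : ∀ x : A, ∑ y : B, (fun e => f e * conj (η e))
        ((Equiv.ofBijective _ hbij) (y, x)) =
        (Nat.card A : ℂ) * c x * ((Nat.card B : ℂ) * conj (avgN B η x)) := by
      intro x
      have h3 : ∀ y : B, (fun e => f e * conj (η e)) ((Equiv.ofBijective _ hbij) (y, x)) =
          f x * conj (η ((y : E) * x)) := by
        intro y
        change f ((y : E) * x) * conj (η ((y : E) * x)) = _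
        rw [hf y y.2]
      rw [Finset.sum_congr rfl (fun y _ => h3 y), ← Finset.mul_sum, hfc x, avgN_apply, map_mul,
        map_inv₀, map_natCast, map_sum]
      have hB0 := card_ne_zero_complex B
      field_simp
    rw [Finset.sum_congr rfl (fun x _ => h2 x), Finset.mul_sum]
    refine Finset.sum_congr rfl fun x _ => ?_
    have hE : (Nat.card E : ℂ) = (Nat.card A : ℂ) * Nat.card B := by exact_mod_cast hcard.symm
    have hB0 := card_ne_zero_complex B
    have hA0 := card_ne_zero_complex A
    rw [hE]
    field_simp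
  rw [h1]
  refine IsIntegral.sum _ fun x _ => ?_
  refine (hc x).mul ?_
  exact (isIntegral_of_isCharacter (avgN_isCharacter B hη) x).map (starRingEnd ℂ).toIntAlgHom

end Inner

section PowMap

variable {G : Type u} [Group G] [Fintype G]

/-- The exponent `k` with `k ≡ 0 (mod m)`, `k ≡ 1 (mod n)`. -/
theorem exists_split_exponent (m n : ℕ) (h : m.Coprime n) : ∃ k : ℕ, k ≡ 0 [MOD m] ∧ k ≡ 1 [MOD n] :=
  ⟨_, (Nat.chineseRemainder h 0 1).2⟩

omit [Fintype G] in
theorem pow_split {m n k : ℕ} (h0 : k ≡ 0 [MOD m]) (h1 : k ≡ 1 [MOD n]) {u v : G}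
    (huv : Commute u v) (hu : orderOf u ∣ m) (hv : orderOf v ∣ n) : (u * v) ^ k = v := by
  rw [huv.mul_pow]
  have h2 : u ^ k = 1 := by
    rw [← orderOf_dvd_iff_pow_eq_one]
    exact hu.trans ((Nat.modEq_zero_iff_dvd).mp h0)
  have h3 : v ^ k = v := by
    have := (pow_eq_pow_iff_modEq (x := v)).mpr (h1.of_dvd hv)
    rw [this, pow_one]
  rw [h2, h3, one_mul]

omit [Fintype G] in
/-- the section function is `x ↦ n [x ^ k ~ g]`. -/
theorem exists_split_iff [Finite G] {m n k : ℕ} (hmn : Nat.card G = m * n) (hcop : m.Coprime n)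
    (h0 : k ≡ 0 [MOD m]) (h1 : k ≡ 1 [MOD n]) (g x : G) :
    (∃ v : G, IsConj v g ∧ ∃ u : G, x = u * v ∧ Commute u v ∧ Nat.Coprime (orderOf u) n ∧
      Nat.Coprime (orderOf v) m) ↔ IsConj (x ^ k) g := by
  have hdvd : ∀ y : G, orderOf y ∣ m * n := fun y => hmn ▸ orderOf_dvd_natCard y
  constructor
  · rintro ⟨v, hv, u, rfl, huv, hu, hv'⟩
    have hu' : orderOf u ∣ m := Nat.Coprime.dvd_of_dvd_mul_right hu (hdvd u)
    have hv'' : orderOf v ∣ n := Nat.Coprime.dvd_of_dvd_mul_left hv' (hdvd v)
    rw [pow_split h0 h1 huv hu' hv'']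
    exact hv
  · intro h
    have hmk : m ∣ k := (Nat.modEq_zero_iff_dvd).mp h0
    have hnk : (n : ℤ) ∣ 1 - k := by
      have := (Nat.modEq_iff_dvd).mp h1
      simpa using this
    refine ⟨x ^ k, h, x ^ (1 - (k : ℤ)), ?_, ?_, ?_, ?_⟩
    · rw [← zpow_natCast, ← zpow_add]
      simp
    · exact ((Commute.refl x).zpow_left _).pow_right _
    · have h2 : orderOf (x ^ (1 - (k : ℤ))) ∣ m := by
        apply orderOf_dvd_of_pow_eq_one
        obtain ⟨c, hc⟩ := hnk
        rw [← zpow_natCast, ← zpow_mul, hc]
        have h3 : (n : ℤ) * c * m = ((m * n : ℕ) : ℤ) * c := by push_cast; ring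
        rw [h3, zpow_mul, zpow_natCast, ← hmn, pow_card_eq_one', one_zpow]
      exact Nat.Coprime.coprime_dvd_left h2 hcop
    · have h2 : orderOf (x ^ k) ∣ n := by
        apply orderOf_dvd_of_pow_eq_one
        obtain ⟨c, hc⟩ := hmk
        rw [← pow_mul, hc]
        have h3 : m * c * n = m * n * c := by ring
        rw [h3, pow_mul, ← hmn, pow_card_eq_one', one_pow]
      exact Nat.Coprime.coprime_dvd_left h2 hcop.symm

/-- The `R`-version of the second half of Brauer's characterization: integrality of the coefficients can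
be tested on elementary subgroups. -/
theorem isIntegral_classInner_of_elementary (ϑ : G → ℂ) (hϑ : IsClassFunction G ϑ)
    (hE : ∀ (E : Subgroup G) [Fintype E] (p : ℕ) (η : E → ℂ), p.Prime → IsElementary p E → IsCharacter E η →
      IsIntegral ℤ (classInner (fun e : E => ϑ e) η)) (χ : G → ℂ) (hχ : IsCharacter G χ) :
    IsIntegral ℤ (classInner ϑ χ) := by
  classical
  have h1 : ∀ f ∈ elemSpan G, IsIntegral ℤ (classInner (f * ϑ) χ) := by
    intro f hf
    unfold elemSpan at hf
    induction hf using AddSubgroup.closure_induction with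
    | zero => rw [zero_mul, classInner_zero_left]; exact isIntegral_zero
    | add a b _ _ ha hb => rw [add_mul, classInner_add_left]; exact ha.add hb
    | neg a _ ha =>
      rw [neg_mul, show -(a * ϑ) = (-1 : ℂ) • (a * ϑ) by simp, classInner_smul_left]
      simpa using ha.neg
    | mem f hf =>
      obtain ⟨E, p, ψ, hp, hEl, hψ, rfl⟩ := hf
      have := Fintype.ofFinite E
      have h2 : indFun E ψ * ϑ = indFun E (fun h : E => ψ h * ϑ h) := by
        rw [indFun_mul_restrict E ψ ϑ hϑ]; rfl
      rw [h2, frobenius_reciprocity E _ _ (isClassFunction_of_isCharacter hχ)]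
      have h3 : classInner (fun h : E => ψ h * ϑ h) (fun h : E => χ h) =
          classInner (fun h : E => ϑ h) (fun h : E => conj (ψ h) * χ h) := by
        unfold classInner
        congr 1
        refine Finset.sum_congr rfl fun x _ => ?_
        simp only [map_mul, Complex.conj_conj]
        ring
      rw [h3]
      exact hE E p _ hp hEl (isCharacter_mul (isCharacter_conj hψ) (isCharacter_restrict hχ E))
  have h2 := h1 1 (one_mem_elemSpan G)
  rwa [one_mul] at h2

end PowMap

section Main

theorem isIntegral_natCast_complex (n : ℕ) : IsIntegral ℤ (n : ℂ) := by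
  simpa using isIntegral_algebraMap (R := ℤ) (A := ℂ) (x := (n : ℤ))

variable {G : Type u} [Group G] [Fintype G]

/-- The integrality statement of S0875. -/
theorem isIntegral_section {m n k : ℕ} (hmn : Nat.card G = m * n) (hcop : m.Coprime n)
    (h0 : k ≡ 0 [MOD m]) (h1 : k ≡ 1 [MOD n]) (g : G) (χ : G → ℂ) (hχ : IsCharacter G χ) :
    open Classical in
    IsIntegral ℤ (classInner (fun x : G => if IsConj (x ^ k) g then (n : ℂ) else 0) χ) := by
  classical
  refine isIntegral_classInner_of_elementary _ ?_ ?_ χ hχ
  · intro y x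
    have h2 : IsConj ((x * y * x⁻¹) ^ k) g ↔ IsConj (y ^ k) g := by
      rw [conj_pow]
      have h3 : IsConj (x * y ^ k * x⁻¹) (y ^ k) := (isConj_iff.mpr ⟨x, rfl⟩ : IsConj (y ^ k) _).symm
      exact ⟨fun h => h3.symm.trans h, fun h => h3.trans h⟩
    simp only [h2]
  · intro E _ p η hp hEl hη
    have hnil := Cfsg.Agent.Char.BL.isNilpotent_of_isElementary hp hEl
    have hEdvd : Nat.card E ∣ n * m := by
      rw [mul_comm, ← hmn]; exact E.card_subgroup_dvd_card
    have hsplit : Nat.card E = (Nat.card E).gcd n * (Nat.card E).gcd m := by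
      rw [← Nat.Coprime.gcd_mul _ hcop.symm]
      exact (Nat.gcd_eq_left hEdvd).symm
    have hcop' : ((Nat.card E).gcd n).Coprime ((Nat.card E).gcd m) :=
      Nat.Coprime.coprime_dvd_left (Nat.gcd_dvd_right _ _)
        (Nat.Coprime.coprime_dvd_right (Nat.gcd_dvd_right _ _) hcop.symm)
    obtain ⟨A, B, hA, hB, hAc, hBc, hcomm⟩ := nil_split hnil _ _ hcop' hsplit
    have hAn : Nat.card A ∣ n := hAc ▸ Nat.gcd_dvd_right _ _
    have hBm : Nat.card B ∣ m := hBc ▸ Nat.gcd_dvd_right _ _
    have hcardAB : Nat.card A * Nat.card B = Nat.card E := by rw [hAc, hBc]; exact hsplit.symm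
    have hcopAB : (Nat.card A).Coprime (Nat.card B) := by rw [hAc, hBc]; exact hcop'
    have hcompl : Subgroup.IsComplement' B A :=
      Subgroup.isComplement'_of_coprime (by rw [mul_comm]; exact hcardAB) hcopAB.symm
    obtain ⟨q, hq⟩ := hAn
    refine isIntegral_classInner_of_split A B hcardAB hcopAB _ ?_
      (fun x => if IsConj ((x : G) ^ k) g then (q : ℂ) else 0) ?_ ?_ η hη
    · -- constant on cosets of B
      intro y hy e
      obtain ⟨⟨y', x⟩, hyx⟩ := hcompl.2 e
      have hyx' : (y' : E) * (x : E) = e := hyx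
      subst hyx'
      have hpow : ∀ z : E, z ∈ B → (z * (x : E)) ^ k = x := by
        intro z hz
        refine pow_split h0 h1 (hcomm x x.2 z hz).symm ?_ ?_
        · exact (Subgroup.orderOf_dvd_natCard B hz).trans hBm
        · exact (Subgroup.orderOf_dvd_natCard A x.2).trans ⟨q, hq⟩
      have e1 : ((y * ((y' : E) * (x : E)) : E) : G) ^ k = ((x : E) : G) := by
        have h2 := hpow (y * y') (B.mul_mem hy y'.2)
        rw [mul_assoc] at h2
        exact congrArg Subtype.val h2
      have e2 : (((y' : E) * (x : E) : E) : G) ^ k = ((x : E) : G) :=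
        congrArg Subtype.val (hpow y' y'.2)
      simp only [e1, e2]
    · intro e
      split_ifs
      · exact isIntegral_natCast_complex q
      · exact isIntegral_zero
    · intro e
      split_ifs
      · rw [hq]; push_cast; ring
      · simp

end Main

end Cfsg.Agent.Char.BR
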