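import Mathlib
import Cfsg.Prelude.Def_Characters
import Cfsg.Prelude.Def_Blocks
import Cfsg.Agent.Blk.Local
import Cfsg.Agent.Char.Galois
import Cfsg.Agent.Char.BrauerR

/-!
# Values of characters modulo a prime (owner: helper15)
-/

set_option autoImplicit false

namespace Cfsg.Agent.Char.MP

open Cfsg Cfsg.Agent.Char Cfsg.Agent.CharBase Cfsg.Agent.Blk
open scoped ComplexConjugate

universe u

variable {p : ℕ} {M : Ideal Cfsg.AlgInt}

theorem rd_multiset_pow [hM : M.IsPrime] (h : IsPModular p M) (N : ℕ) (s : Multiset ℂ)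
    (hs : ∀ ω ∈ s, MemLocalRing M ω) :
    MemLocalRing M s.sum ∧ MemLocalRing M (s.map (· ^ p ^ N)).sum ∧
      rd M (s.map (· ^ p ^ N)).sum = rd M s.sum ^ p ^ N := by
  have := Fact.mk h.1
  have := charP_kM h
  induction s using Multiset.induction_on with
  | empty =>
    refine ⟨by simpa using mlr_zero, by simpa using mlr_zero, ?_⟩
    simp only [Multiset.map_zero, Multiset.sum_zero, rd_zero]
    rw [zero_pow (pow_pos h.1.pos N).ne']
  | cons a s ih =>
    obtain ⟨h1, h2, h3⟩ := ih (fun ω hω => hs ω (Multiset.mem_cons_of_mem hω))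
    have ha := hs a (Multiset.mem_cons_self a s)
    rw [Multiset.map_cons, Multiset.sum_cons, Multiset.sum_cons]
    refine ⟨mlr_add ha h1, mlr_add (mlr_pow ha _) h2, ?_⟩
    rw [rd_add (mlr_pow ha _) h2, rd_add ha h1, h3, rd_pow ha, add_pow_char_pow]

theorem rd_char_pow [hM : M.IsPrime] (h : IsPModular p M) {G : Type u} [Group G] [Finite G]
    {χ : G → ℂ} (hχ : IsCharacter G χ) (z : G) (N : ℕ) :
    rd M (χ (z ^ p ^ N)) = rd M (χ z) ^ p ^ N := by
  obtain ⟨s, -, hs, hk⟩ := Cfsg.Agent.Char.exists_roots_pow hχ z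
  have h1 := hk (p ^ N)
  have h2 := hk 1
  rw [pow_one] at h2
  have h3 : s.map (· ^ 1) = s := by simp
  rw [h3] at h2
  rw [h1, h2]
  refine (rd_multiset_pow h N s fun ω hω => ?_).2.2
  apply mlr_of_isIntegral
  refine ⟨Polynomial.X ^ orderOf z - 1, Polynomial.monic_X_pow_sub_C 1 (orderOf_pos z).ne', ?_⟩
  simp [hs ω hω]

theorem mlr_char [hM : M.IsPrime] {G : Type u} [Group G] [Finite G]
    {χ : G → ℂ} (hχ : IsCharacter G χ) (z : G) : MemLocalRing M (χ z) :=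
  mlr_of_isIntegral (isIntegral_of_isCharacter hχ z)

/-- Character values at an element and at its `p`-regular part agree modulo `M`. -/
theorem rd_char_ppart [hM : M.IsPrime] (h : IsPModular p M) {G : Type u} [Group G] [Finite G]
    {χ : G → ℂ} (hχ : IsCharacter G χ) {x a : G} (ha : IsPPart p x a) :
    rd M (χ x) = rd M (χ (a⁻¹ * x)) := by
  have := Fact.mk h.1
  have := charP_kM h
  obtain ⟨y, rfl, hcomm, ⟨k, hk⟩, hy⟩ := ha
  rw [inv_mul_cancel_left]
  have hcop : (p).Coprime (orderOf y) := (Nat.Prime.coprime_iff_not_dvd h.1).mpr hy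
  have hφ : 0 < (orderOf y).totient := Nat.totient_pos.mpr (orderOf_pos y)
  have hyq : y ^ p ^ (k * (orderOf y).totient) = y := by
    have h1 : p ^ (k * (orderOf y).totient) ≡ 1 [MOD orderOf y] := by
      rw [mul_comm, pow_mul]
      have := (Nat.ModEq.pow_totient hcop).pow k
      rwa [one_pow] at this
    have := (pow_eq_pow_iff_modEq (x := y)).mpr h1
    rw [this, pow_one]
  have haq : a ^ p ^ (k * (orderOf y).totient) = 1 := by
    rw [← orderOf_dvd_iff_pow_eq_one, hk]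
    exact pow_dvd_pow p (Nat.le_mul_of_pos_right k hφ)
  have h1 := rd_char_pow h hχ (a * y) (k * (orderOf y).totient)
  have h2 := rd_char_pow h hχ y (k * (orderOf y).totient)
  rw [hcomm.mul_pow, haq, one_mul, hyq] at h1
  rw [hyq] at h2
  have h3 : (rd M (χ (a * y)) - rd M (χ y)) ^ p ^ (k * (orderOf y).totient) = 0 := by
    rw [sub_pow_char_pow, ← h1, ← h2, sub_self]
  exact sub_eq_zero.mp (eq_zero_of_pow_eq_zero h3)

/-- Elements whose `p`-regular parts are not conjugate are separated by a character modulo `M`. -/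
theorem isConj_of_forall_rd_eq [hM : M.IsPrime] (h : IsPModular p M) {G : Type u} [Group G]
    [Fintype G] {x y a b : G} (ha : IsPPart p x a) (hb : IsPPart p y b)
    (hall : ∀ χ : IrrCharacter G, rd M ((χ : G → ℂ) x) = rd M ((χ : G → ℂ) y)) :
    IsConj (a⁻¹ * x) (b⁻¹ * y) := by
  classical
  have hfp := Fact.mk h.1
  have hcp := charP_kM h
  have hG0 : Nat.card G ≠ 0 := Nat.card_pos.ne'
  -- `|G| = p ^ e * n`
  obtain ⟨e, n, hn, hGn⟩ := Nat.exists_eq_pow_mul_and_not_dvd hG0 p h.1.ne_one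
  have hcop : (p ^ e).Coprime n := ((Nat.Prime.coprime_iff_not_dvd h.1).mpr hn).pow_left e
  obtain ⟨k, h0, h1⟩ := BR.exists_split_exponent (p ^ e) n hcop
  -- the `k`-th power is the `p`-regular part
  have hreg : ∀ z c : G, IsPPart p z c → z ^ k = c⁻¹ * z := by
    rintro z c ⟨d, rfl, hcd, ⟨j, hj⟩, hd⟩
    rw [inv_mul_cancel_left]
    refine BR.pow_split h0 h1 hcd ?_ ?_
    · rw [hj]
      have h2 : p ^ j ∣ p ^ e * n := by rw [← hj, ← hGn]; exact orderOf_dvd_natCard c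
      exact Nat.Coprime.dvd_of_dvd_mul_right
        (((Nat.Prime.coprime_iff_not_dvd h.1).mpr hn).pow_left j) h2
    · have h2 : orderOf d ∣ p ^ e * n := by rw [← hGn]; exact orderOf_dvd_natCard d
      exact Nat.Coprime.dvd_of_dvd_mul_left
        (((Nat.Prime.coprime_iff_not_dvd h.1).mpr hd).symm.pow_right e) h2
  obtain ⟨g, hg⟩ : ∃ g, g = a⁻¹ * x := ⟨_, rfl⟩
  obtain ⟨ϑ, hϑ⟩ : ∃ ϑ : G → ℂ, ϑ = fun z : G => if IsConj (z ^ k) g then (n : ℂ) else 0 := ⟨_, rfl⟩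
  have hcf : IsClassFunction G ϑ := by
    rw [hϑ]
    intro y x
    have h2 : IsConj ((x * y * x⁻¹) ^ k) g ↔ IsConj (y ^ k) g := by
      rw [conj_pow]
      have h3 : IsConj (x * y ^ k * x⁻¹) (y ^ k) := (isConj_iff.mpr ⟨x, rfl⟩ : IsConj (y ^ k) _).symm
      exact ⟨fun h => h3.symm.trans h, fun h => h3.trans h⟩
    simp only [h2]
  have := Fintype.ofFinite (IrrCharacter G)
  have hint : ∀ χ : IrrCharacter G, MemLocalRing M (classInner ϑ (χ : G → ℂ)) := by
    intro χ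
    apply mlr_of_isIntegral
    rw [hϑ]
    exact BR.isIntegral_section hGn hcop h0 h1 g _ (irr_isCharacter χ)
  have hval : ∀ z : G, rd M (ϑ z) = ∑ χ : IrrCharacter G,
      rd M (classInner ϑ (χ : G → ℂ)) * rd M ((χ : G → ℂ) z) := by
    intro z
    have h2 : ϑ z = ∑ χ : IrrCharacter G, classInner ϑ (χ : G → ℂ) * (χ : G → ℂ) z := by
      conv_lhs => rw [classFun_eq_sum hcf]
      rw [Finset.sum_apply]
      rfl
    rw [h2, rd_sum _ _ fun χ _ => mlr_mul (hint χ) (mlr_char (irr_isCharacter χ) z)]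
    exact Finset.sum_congr rfl fun χ _ => rd_mul (hint χ) (mlr_char (irr_isCharacter χ) z)
  have heq : rd M (ϑ x) = rd M (ϑ y) := by
    rw [hval, hval]
    exact Finset.sum_congr rfl fun χ _ => by rw [hall χ]
  by_contra hne
  have hx : ϑ x = n := by
    rw [hϑ]
    simp only
    rw [if_pos (by rw [hreg x a ha, hg])]
  have hy : ϑ y = 0 := by
    rw [hϑ]
    simp only
    rw [if_neg (by rw [hreg y b hb, hg]; exact fun h' => hne h'.symm)]
  rw [hx, hy, rd_zero, rd_natCast, CharP.cast_eq_zero_iff (kM M) p] at heq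
  exact hn heq

section Roots

theorem exists_pow_eq_one_of_finite {K S : Type*} [Field K] [SetLike S K] (A : S) (hA : Finite A) (x : K)
    (hx0 : x ≠ 0) (hmem : ∀ n : ℕ, x ^ n ∈ A) : ∃ d : ℕ, 0 < d ∧ x ^ d = 1 := by
  have hfin : (A : Set K).Finite := Set.toFinite _
  have hnot : ¬ Set.InjOn (fun n : ℕ => x ^ n) Set.univ := by
    intro hinj
    exact Set.infinite_of_injOn_mapsTo hinj (fun n _ => hmem n) Set.infinite_univ hfin
  rw [Set.InjOn] at hnot
  push Not at hnot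
  obtain ⟨i, -, j, -, hij, hne⟩ := hnot
  have hij' : x ^ i = x ^ j := hij
  rcases lt_or_gt_of_ne hne with h | h
  · refine ⟨j - i, by omega, ?_⟩
    have h1 : x ^ j = x ^ i * x ^ (j - i) := by rw [← pow_add]; congr 1; omega
    rw [h1] at hij'
    exact (mul_eq_left₀ (pow_ne_zero _ hx0)).mp hij'.symm
  · refine ⟨i - j, by omega, ?_⟩
    have h1 : x ^ i = x ^ j * x ^ (i - j) := by rw [← pow_add]; congr 1; omega
    rw [h1] at hij'
    exact (mul_eq_left₀ (pow_ne_zero _ hx0)).mp hij'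

theorem exists_pow_eq_one_of_algebra {F K : Type*} [Field F] [Finite F] [Field K] [Algebra F K] (x : K)
    (hx0 : x ≠ 0) (hint : IsIntegral F x) : ∃ d : ℕ, 0 < d ∧ x ^ d = 1 := by
  have hfg := hint.fg_adjoin_singleton
  have hfin : Module.Finite F (Algebra.adjoin F ({x} : Set K)) :=
    Module.Finite.iff_fg.mpr hfg
  have hfin2 : Finite (Algebra.adjoin F ({x} : Set K)) := Module.finite_of_finite F
  exact exists_pow_eq_one_of_finite (Algebra.adjoin F ({x} : Set K)) hfin2 x hx0 fun n =>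
    Subalgebra.pow_mem _ (Algebra.self_mem_adjoin_singleton F x) n

theorem exists_pow_eq_one_of_isIntegral {K : Type*} [Field K] (p : ℕ) [hp : Fact p.Prime] [CharP K p] (x : K)
    (hx0 : x ≠ 0) (hint : IsIntegral ℤ x) : ∃ d : ℕ, ¬ p ∣ d ∧ x ^ d = 1 := by
  letI : Algebra (ZMod p) K := ZMod.algebra K p
  have hint2 : IsIntegral (ZMod p) x := hint.tower_top
  obtain ⟨d, hd, hxd⟩ := exists_pow_eq_one_of_algebra x hx0 hint2
  obtain ⟨e, n, hn, hdn⟩ := Nat.exists_eq_pow_mul_and_not_dvd hd.ne' p hp.out.ne_one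
  refine ⟨n, hn, ?_⟩
  have h3 : (x ^ n - 1) ^ p ^ e = 0 := by
    have h4 : (x ^ n) ^ p ^ e = 1 := by rw [← pow_mul, mul_comm n, ← hdn, hxd]
    rw [sub_pow_char_pow, h4, one_pow, sub_self]
  exact sub_eq_zero.mp (eq_zero_of_pow_eq_zero h3)

theorem exists_pow_sub_one_mem {p : ℕ} {M : Ideal Cfsg.AlgInt} (hM : IsPModular p M) (a : Cfsg.AlgInt) (ha : a ∉ M) :
    ∃ d : ℕ, ¬ p ∣ d ∧ a ^ d - 1 ∈ M := by
  have hfp := Fact.mk hM.1
  have hmax : M.IsMaximal := hM.2.1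
  letI : Field (Cfsg.AlgInt ⧸ M) := Ideal.Quotient.field M
  have hpK : (p : Cfsg.AlgInt ⧸ M) = 0 := by
    have : Ideal.Quotient.mk M (p : Cfsg.AlgInt) = 0 := Ideal.Quotient.eq_zero_iff_mem.mpr hM.2.2
    rwa [map_natCast] at this
  have hchar : CharP (Cfsg.AlgInt ⧸ M) p := by
    obtain ⟨q, hq⟩ := CharP.exists (Cfsg.AlgInt ⧸ M)
    have h1 : q ∣ p := (CharP.cast_eq_zero_iff (Cfsg.AlgInt ⧸ M) q p).1 hpK
    rcases (Nat.dvd_prime hM.1).mp h1 with h2 | h2
    · subst h2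
      exact absurd rfl (CharP.char_ne_one (Cfsg.AlgInt ⧸ M) 1)
    · rwa [h2] at hq
  have hx0 : Ideal.Quotient.mk M a ≠ 0 := fun h => ha (Ideal.Quotient.eq_zero_iff_mem.mp h)
  have hint : IsIntegral ℤ (Ideal.Quotient.mk M a) := by
    have h1 : IsIntegral ℤ a := Algebra.IsIntegral.isIntegral a
    exact h1.map (Ideal.Quotient.mk M).toIntAlgHom
  obtain ⟨n, hn, h2⟩ := exists_pow_eq_one_of_isIntegral p _ hx0 hint
  refine ⟨n, hn, ?_⟩
  rw [← Ideal.Quotient.eq_zero_iff_mem, map_sub, map_pow, map_one]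
  exact sub_eq_zero.mpr h2

theorem mem_algInt_of_pow_eq_one {ζ : ℂ} {d : ℕ} (hd : d ≠ 0) (h : ζ ^ d = 1) : ζ ∈ Cfsg.AlgInt := by
  refine ⟨Polynomial.X ^ d - 1, Polynomial.monic_X_pow_sub_C 1 hd, ?_⟩
  simp [h]

/-- Every algebraic integer outside `M` is congruent to a root of unity of order prime to `p`. -/
theorem exists_root_congr {p : ℕ} {M : Ideal Cfsg.AlgInt} (hM : IsPModular p M) (a : Cfsg.AlgInt) (ha : a ∉ M) :
    ∃ ε : Cfsg.AlgInt, (∃ m : ℕ, ¬ p ∣ m ∧ (ε : ℂ) ^ m = 1) ∧ a - ε ∈ M := by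
  classical
  obtain ⟨d, hd, hmem⟩ := exists_pow_sub_one_mem hM a ha
  have hd0 : d ≠ 0 := by rintro rfl; simp at hd
  have hprime : M.IsPrime := hM.2.1.isPrime
  have hζ := Complex.isPrimitiveRoot_exp d hd0
  have h1 := Polynomial.X_pow_sub_one_eq_prod (Nat.pos_of_ne_zero hd0) hζ
  have h2 : ∀ ζ ∈ Polynomial.nthRootsFinset d (1 : ℂ), ζ ^ d = 1 := fun ζ hζ =>
    (Polynomial.mem_nthRootsFinset (Nat.pos_of_ne_zero hd0) _).mp hζ
  have h3 : (a : ℂ) ^ d - 1 = ∏ ζ ∈ Polynomial.nthRootsFinset d (1 : ℂ), ((a : ℂ) - ζ) := by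
    have := congrArg (Polynomial.eval (a : ℂ)) h1
    rw [Polynomial.eval_prod] at this
    simpa using this
  let F : {ζ // ζ ∈ Polynomial.nthRootsFinset d (1 : ℂ)} → Cfsg.AlgInt := fun ζ =>
    ⟨ζ, mem_algInt_of_pow_eq_one hd0 (h2 _ ζ.2)⟩
  have h4 : a ^ d - 1 = ∏ ζ ∈ (Polynomial.nthRootsFinset d (1 : ℂ)).attach, (a - F ζ) := by
    apply Subtype.ext
    have h5 : ((a ^ d - 1 : Cfsg.AlgInt) : ℂ) = (a : ℂ) ^ d - 1 := by push_cast; ring
    have h6 : ((∏ ζ ∈ (Polynomial.nthRootsFinset d (1 : ℂ)).attach, (a - F ζ) : Cfsg.AlgInt) : ℂ) =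
        ∏ ζ ∈ (Polynomial.nthRootsFinset d (1 : ℂ)).attach, ((a - F ζ : Cfsg.AlgInt) : ℂ) :=
      map_prod Cfsg.AlgInt.val _ _
    rw [h5, h3, ← Finset.prod_attach, h6]
    rfl
  rw [h4, Ideal.IsPrime.prod_mem_iff] at hmem
  obtain ⟨ζ, -, hζm⟩ := hmem
  exact ⟨F ζ, ⟨d, hd, h2 _ ζ.2⟩, hζm⟩

end Roots

section GaloisM

open NumberField Cardinal
open scoped Pointwise

/-- The maximal ideals over `p` are permuted transitively by the Galois action at level `n`. -/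
theorem exists_aut_of_isPModular {p : ℕ} {M M' : Ideal Cfsg.AlgInt} (hM : IsPModular p M) (hM' : IsPModular p M')
    {n : ℕ} (hn : n ≠ 0) :
    ∃ (k : ℕ) (σ : ℂ ≃+* ℂ), k.Coprime n ∧ (∀ ζ : ℂ, ζ ^ n = 1 → σ ζ = ζ ^ k) ∧
      ∀ a b : Cfsg.AlgInt, (a : ℂ) ∈ Subfield.closure {ζ : ℂ | ζ ^ n = 1} → (b : ℂ) = σ a →
        (a ∈ M' ↔ b ∈ M) := by
  have : NeZero n := ⟨hn⟩
  have hMp : M.IsPrime := hM.2.1.isPrime
  have hMp' : M'.IsPrime := hM'.2.1.isPrime
  let K := CyclotomicField n ℚ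
  have instK : IsCyclotomicExtension {n} ℚ K := CyclotomicField.isCyclotomicExtension n ℚ
  have instF : FiniteDimensional ℚ K := IsCyclotomicExtension.finiteDimensional {n} ℚ K
  have hζ := IsCyclotomicExtension.zeta_spec n ℚ K
  set ζ := IsCyclotomicExtension.zeta n ℚ K with hζdef
  obtain ⟨i⟩ : Nonempty (K →ₐ[ℚ] ℂ) := ⟨IsAlgClosed.lift⟩
  have hiζ : IsPrimitiveRoot (i ζ) n := hζ.map_of_injective i.injective
  have hcard : #K ≤ ℵ₀ := by
    have : Algebra.IsAlgebraic ℚ K := Algebra.IsAlgebraic.of_finite ℚ K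
    have h1 := Algebra.IsAlgebraic.cardinalMk_le_max ℚ K
    rwa [Cardinal.mk_eq_aleph0 ℚ, max_self] at h1
  have hgal : IsGalois ℚ K := IsCyclotomicExtension.isGalois {n} ℚ K
  have hnf : NumberField K := IsCyclotomicExtension.numberField {n} ℚ K
  have hinv : Algebra.IsInvariant ℤ (𝓞 K) (𝓞 K ≃ₐ[ℤ] 𝓞 K) := Algebra.isInvariant_of_isGalois' ℤ ℚ K (𝓞 K)
  have hfin : Finite (𝓞 K ≃ₐ[ℤ] 𝓞 K) := Finite.of_equiv _ (galRestrict ℤ ℚ K (𝓞 K)).toEquiv
  -- the map to the algebraic integers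
  have hjint : ∀ y : 𝓞 K, i (algebraMap (𝓞 K) K y) ∈ Cfsg.AlgInt := by
    intro y
    have h1 : IsIntegral ℤ (algebraMap (𝓞 K) K y) := y.2
    exact h1.map ((i : K →+* ℂ).toIntAlgHom)
  let j : 𝓞 K →+* Cfsg.AlgInt :=
    { toFun := fun y => ⟨i (algebraMap (𝓞 K) K y), hjint y⟩
      map_one' := Subtype.ext (by simp)
      map_mul' := fun a b => Subtype.ext (by simp)
      map_zero' := Subtype.ext (by simp)
      map_add' := fun a b => Subtype.ext (by simp) }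
  obtain ⟨P, hP⟩ : ∃ P : Ideal (𝓞 K), P = M.comap j := ⟨_, rfl⟩
  obtain ⟨P', hP'⟩ : ∃ P' : Ideal (𝓞 K), P' = M'.comap j := ⟨_, rfl⟩
  have hPp : P.IsPrime := by rw [hP]; exact Ideal.comap_isPrime j M
  have hPp' : P'.IsPrime := by rw [hP']; exact Ideal.comap_isPrime j M'
  have hunder : P'.under ℤ = P.under ℤ := by
    ext z
    rw [Ideal.under_def, Ideal.under_def, Ideal.mem_comap, Ideal.mem_comap, hP, hP',
      Ideal.mem_comap, Ideal.mem_comap]
    have h1 : j (algebraMap ℤ (𝓞 K) z) = (z : Cfsg.AlgInt) := by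
      rw [eq_intCast, map_intCast]
    rw [h1, ← mli_coe_iff (M := M) (z : Cfsg.AlgInt), ← mli_coe_iff (M := M') (z : Cfsg.AlgInt)]
    push_cast
    rw [mli_intCast_iff hM, mli_intCast_iff hM']
  obtain ⟨g, hg⟩ := Algebra.IsInvariant.exists_smul_of_under_eq ℤ (𝓞 K) (𝓞 K ≃ₐ[ℤ] 𝓞 K) P' P hunder
  obtain ⟨τ, hτ⟩ : ∃ τ : K ≃ₐ[ℚ] K, galRestrict ℤ ℚ K (𝓞 K) τ = g :=
    (galRestrict ℤ ℚ K (𝓞 K)).surjective g
  have hτ1 : (τ ζ) ^ n = 1 := by rw [← map_pow, hζ.pow_eq_one, map_one]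
  obtain ⟨k, -, hk⟩ := hζ.eq_pow_of_pow_eq_one hτ1
  have hcop : k.Coprime n := by
    have : IsPrimitiveRoot (ζ ^ k) n := by rw [hk]; exact hζ.map_of_injective τ.injective
    exact (hζ.pow_iff_coprime (Nat.pos_of_ne_zero hn) k).mp this
  obtain ⟨σ, hσ⟩ := Cfsg.Agent.Char.exists_aut_complex hcard (i : K →+* ℂ)
    ((i : K →+* ℂ).comp ((τ : K →ₐ[ℚ] K) : K →+* K))
  refine ⟨k, σ, hcop, ?_, ?_⟩
  · intro x hx
    obtain ⟨m, -, rfl⟩ := hiζ.eq_pow_of_pow_eq_one hx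
    have h2 : σ (i ζ) = i (τ ζ) := hσ ζ
    rw [map_pow, h2, ← hk, map_pow, ← pow_mul, ← pow_mul, mul_comm]
  · intro a b ha hb
    have hmem : (a : ℂ) ∈ (i : K →+* ℂ).fieldRange := by
      have : Subfield.closure {ζ : ℂ | ζ ^ n = 1} ≤ (i : K →+* ℂ).fieldRange := by
        rw [Subfield.closure_le]
        intro x hx
        obtain ⟨m, -, rfl⟩ := hiζ.eq_pow_of_pow_eq_one hx
        exact ⟨ζ ^ m, by simp⟩
      exact this ha
    obtain ⟨y, hy⟩ := hmem
    have hy' : i y = (a : ℂ) := hy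
    have hyint : IsIntegral ℤ y := by
      have h1 : IsIntegral ℤ (i y) := by rw [hy']; exact a.2
      exact (isIntegral_algHom_iff ((i : K →+* ℂ).toIntAlgHom) i.injective).mp h1
    obtain ⟨y', hy'2⟩ : ∃ y' : 𝓞 K, algebraMap (𝓞 K) K y' = y := ⟨⟨y, hyint⟩, rfl⟩
    have e1 : j y' = a := Subtype.ext (by
      change i (algebraMap (𝓞 K) K y') = (a : ℂ)
      rw [hy'2, hy'])
    have e2 : j (g y') = b := Subtype.ext (by
      change i (algebraMap (𝓞 K) K (g y')) = (b : ℂ)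
      rw [← hτ, algebraMap_galRestrict_apply, hy'2, hb, ← hy']
      exact (hσ y).symm)
    have e3 : a ∈ M' ↔ y' ∈ P' := by rw [hP', Ideal.mem_comap, e1]
    have e4 : b ∈ M ↔ g y' ∈ P := by rw [hP, Ideal.mem_comap, e2]
    rw [e3, e4, hg]
    exact (Ideal.smul_mem_pointwise_smul_iff (a := g) (S := P') (x := y')).symm

theorem centralizer_pow_eq {G : Type u} [Group G] {g : G} {k n : ℕ} (hk : k.Coprime n)
    (hn : orderOf g ∣ n) : Subgroup.centralizer ({g ^ k} : Set G) = Subgroup.centralizer ({g} : Set G) := by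
  obtain ⟨m, hm⟩ : ∃ m : ℕ, (g ^ k) ^ m = g := by
    have h1 : (orderOf g).Coprime k := (Nat.Coprime.coprime_dvd_right hn hk).symm
    exact exists_pow_eq_self_of_coprime h1.symm
  ext x
  rw [Subgroup.mem_centralizer_singleton_iff, Subgroup.mem_centralizer_singleton_iff]
  constructor
  · intro h
    have h2 : Commute x (g ^ k) := h
    have h3 := h2.pow_right m
    rw [hm] at h3
    exact h3
  · intro h
    have h2 : Commute x g := h
    exact h2.pow_right k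

theorem map_centralChar {G : Type u} [Group G] [Finite G] {χ : G → ℂ} (hχ : IsCharacter G χ) (g : G)
    {n k : ℕ} (hn : orderOf g ∣ n) (hk : k.Coprime n) (σ : ℂ ≃+* ℂ)
    (hσ : ∀ ζ : ℂ, ζ ^ n = 1 → σ ζ = ζ ^ k) :
    σ (centralChar χ g) = centralChar χ (g ^ k) := by
  have h1 := Cfsg.Agent.Char.map_char_eq hχ g hn σ hσ
  have h2 := Cfsg.Agent.Char.map_char_eq hχ (1 : G) (n := n) (k := k) (by simp) σ hσ
  rw [one_pow] at h2
  unfold centralChar
  rw [map_div₀, map_mul, h1, h2, map_natCast, centralizer_pow_eq hk hn]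

theorem char_mem_subfield {G : Type u} [Group G] [Finite G] {χ : G → ℂ} (hχ : IsCharacter G χ) (g : G)
    {n : ℕ} (hn : Nat.card G ∣ n) : χ g ∈ Subfield.closure {ζ : ℂ | ζ ^ n = 1} := by
  have h1 := Cfsg.Agent.Char.char_mem_closure hχ g hn
  have h2 : Subring.closure {ζ : ℂ | ζ ^ n = 1} ≤ (Subfield.closure {ζ : ℂ | ζ ^ n = 1}).toSubring := by
    rw [Subring.closure_le]
    intro x hx
    exact Subfield.subset_closure hx
  exact h2 h1

theorem centralChar_mem_subfield {G : Type u} [Group G] [Finite G] {χ : G → ℂ} (hχ : IsCharacter G χ) (g : G)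
    {n : ℕ} (hn : Nat.card G ∣ n) : centralChar χ g ∈ Subfield.closure {ζ : ℂ | ζ ^ n = 1} := by
  unfold centralChar
  exact div_mem (mul_mem (natCast_mem _ _) (char_mem_subfield hχ g hn)) (char_mem_subfield hχ 1 hn)

end GaloisM

end Cfsg.Agent.Char.MP
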