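import Cfsg.Agent.Char.Berger

/-!
# Inflation, descent and irreducibility lemmas (owner: helper15)
-/

set_option autoImplicit false

namespace Cfsg.Agent.Char.BG

open Cfsg Cfsg.Agent.Char Cfsg.Agent.CharBase Cfsg.Agent.Char.GD Cfsg.Agent.Char.MT
open scoped ComplexConjugate

universe u v

section Linear

variable {A : Type u} {B : Type v} [Group A] [Group B] [Fintype A] [Fintype B]

/-- If a linear map takes irreducible characters to nonzero characters and `T ψ` is irreducible, then the
character `ψ` is irreducible. -/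
theorem irr_of_linear (T : (A → ℂ) →ₗ[ℂ] (B → ℂ)) (hT : ∀ ξ, IsIrrCharacter A ξ → IsCharacter B (T ξ))
    (hT0 : ∀ ξ, IsIrrCharacter A ξ → T ξ ≠ 0) {ψ : A → ℂ} (hψ : IsCharacter A ψ)
    (h : IsIrrCharacter B (T ψ)) : IsIrrCharacter A ψ := by
  classical
  have : Fintype (IrrCharacter A) := Fintype.ofFinite _
  obtain ⟨k, hk, hsum⟩ := exists_mult_of_isCharacter hψ
  have h1 : T ψ = ∑ ξ : IrrCharacter A, (k ξ : ℂ) • T (ξ : A → ℂ) := by
    conv_lhs => rw [hsum]
    rw [map_sum]
    refine Finset.sum_congr rfl fun ξ _ => ?_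
    rw [← Nat.cast_smul_eq_nsmul ℂ, map_smul]
  -- all the constituents map to multiples of `T ψ`
  have hother : ∀ ξ : IrrCharacter A, k ξ ≠ 0 → ∀ η : B → ℂ, IsIrrCharacter B η → η ≠ T ψ →
      classInner (T (ξ : A → ℂ)) η = 0 := by
    intro ξ hξ η hη hne
    have h2 : classInner (T ψ) η = 0 := classInner_eq_zero_of_irr_ne h hη (Ne.symm hne)
    choose m hm using fun ξ : IrrCharacter A => classInner_natCast (hT ξ ξ.2) (isCharacter_of_isIrr hη)
    rw [h1, classInner_sum_left] at h2
    have h3 : (∑ ξ : IrrCharacter A, k ξ * m ξ : ℕ) = 0 := by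
      have h4 : ((∑ ξ : IrrCharacter A, k ξ * m ξ : ℕ) : ℂ) = 0 := by
        rw [← h2]
        push_cast
        refine Finset.sum_congr rfl fun ξ _ => ?_
        rw [classInner_smul_left, hm]
      exact_mod_cast h4
    have h4 := (Finset.sum_eq_zero_iff.mp h3) ξ (Finset.mem_univ _)
    rcases Nat.mul_eq_zero.mp h4 with h5 | h5
    · exact absurd h5 hξ
    · rw [hm, h5, Nat.cast_zero]
  choose m hm using fun ξ : IrrCharacter A => classInner_natCast (hT ξ ξ.2) (isCharacter_of_isIrr h)
  have hmne : ∀ ξ, k ξ ≠ 0 → m ξ ≠ 0 := by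
    intro ξ hξ h0
    obtain ⟨η, hη, hne⟩ := exists_constituent (hT ξ ξ.2) (hT0 ξ ξ.2)
    by_cases hc : η = T ψ
    · rw [hc, hm, h0] at hne
      exact hne Nat.cast_zero
    · exact hne (hother ξ hξ η hη hc)
  have hone : (∑ ξ : IrrCharacter A, k ξ * m ξ : ℕ) = 1 := by
    have h4 : ((∑ ξ : IrrCharacter A, k ξ * m ξ : ℕ) : ℂ) = 1 := by
      rw [← classInner_self_of_irr h]
      conv_rhs => rw [h1]
      rw [classInner_sum_left]
      push_cast
      refine Finset.sum_congr rfl fun ξ _ => ?_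
      rw [classInner_smul_left, ← h1, hm]
    exact_mod_cast h4
  obtain ⟨ξ₀, -, hξ₀⟩ := Finset.exists_ne_zero_of_sum_ne_zero (by rw [hone]; exact one_ne_zero :
    (∑ ξ : IrrCharacter A, k ξ * m ξ : ℕ) ≠ 0)
  rw [← Finset.add_sum_erase _ _ (Finset.mem_univ ξ₀)] at hone
  have h5 : k ξ₀ * m ξ₀ = 1 := by
    have : 0 < k ξ₀ * m ξ₀ := Nat.pos_of_ne_zero hξ₀
    omega
  have h6 : ∑ ξ ∈ Finset.univ.erase ξ₀, k ξ * m ξ = 0 := by omega
  have h7 : k ξ₀ = 1 := Nat.eq_one_of_mul_eq_one_right h5
  rw [hsum, Finset.sum_eq_single ξ₀]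
  · rw [h7, one_smul]; exact ξ₀.2
  · intro ξ _ hne
    have h8 := (Finset.sum_eq_zero_iff.mp h6) ξ (Finset.mem_erase.mpr ⟨hne, Finset.mem_univ _⟩)
    have h9 : k ξ = 0 := by
      by_contra hc
      exact hmne ξ hc (by
        rcases Nat.mul_eq_zero.mp h8 with h | h
        · exact absurd h hc
        · exact h)
    rw [h9, zero_smul]
  · intro hc; exact absurd (Finset.mem_univ _) hc

end Linear

section

variable {G : Type u} [Group G] [Fintype G]

/-- A character inducing irreducibly is irreducible. -/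
theorem isIrr_of_indFun (H : Subgroup G) {ψ : H → ℂ} (hψ : IsCharacter H ψ)
    (h : IsIrrCharacter G (indFun H ψ)) : IsIrrCharacter H ψ := by
  have := Fintype.ofFinite H
  refine irr_of_linear (A := H) (B := G) { toFun := indFun H, map_add' := indFun_add H, map_smul' := indFun_smul H }
    (fun ξ hξ => indFun_isCharacter H ξ (isCharacter_of_isIrr hξ)) (fun ξ hξ h0 => ?_) hψ h
  have h1 := congrFun h0 1
  change indFun H ξ 1 = 0 at h1
  rw [indFun_one_apply] at h1
  have h2 : (H.index : ℂ) ≠ 0 := by exact_mod_cast Subgroup.index_ne_zero_of_finite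
  exact (mul_ne_zero h2 (irr_one_ne_zero hξ)) h1

/-- A factor of an irreducible product of characters is irreducible. -/
theorem isIrr_of_mul {α ξ : G → ℂ} (hα : IsCharacter G α) (hξ : IsCharacter G ξ)
    (h : IsIrrCharacter G (α * ξ)) : IsIrrCharacter G α := by
  have hξ1 : ξ 1 ≠ 0 := by
    intro h0
    have h1 := irr_one_ne_zero h
    rw [Pi.mul_apply, h0, mul_zero] at h1
    exact h1 rfl
  refine irr_of_linear (A := G) (B := G) { toFun := fun a => a * ξ, map_add' := fun a b => add_mul a b ξ, map_smul' := fun c a => smul_mul_assoc c a ξ }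
    (fun η hη => isCharacter_mul (isCharacter_of_isIrr hη) hξ) (fun η hη h0 => ?_) hα h
  have h1 := congrFun h0 1
  change η 1 * ξ 1 = 0 at h1
  exact (mul_ne_zero (irr_one_ne_zero hη) hξ1) h1

variable {Γ : Type v} [Group Γ] [Fintype Γ]

theorem sum_comp_surjective (f : Γ →* G) (hf : Function.Surjective f) (F : G → ℂ) :
    ∑ x : Γ, F (f x) = (Nat.card f.ker : ℂ) * ∑ y : G, F y := by
  classical
  rw [← Finset.sum_fiberwise_of_maps_to (s := Finset.univ) (t := Finset.univ) (g := f)
    (fun _ _ => Finset.mem_univ _), Finset.mul_sum]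
  refine Finset.sum_congr rfl fun y _ => ?_
  have h1 : ∑ x ∈ Finset.univ.filter (fun x => f x = y), F (f x)
      = ∑ x ∈ Finset.univ.filter (fun x => f x = y), F y :=
    Finset.sum_congr rfl fun x hx => by rw [(Finset.mem_filter.mp hx).2]
  rw [h1, Finset.sum_const, nsmul_eq_mul]
  congr 2
  obtain ⟨x0, hx0⟩ := hf y
  rw [Nat.card_eq_fintype_card, ← Fintype.card_subtype (fun x => f x = y)]
  refine Fintype.card_congr
    { toFun := fun x => ⟨x0⁻¹ * x, by rw [MonoidHom.mem_ker, map_mul, map_inv, x.2, hx0, inv_mul_cancel]⟩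
      invFun := fun x => ⟨x0 * x, by rw [map_mul, MonoidHom.mem_ker.mp x.2, mul_one, hx0]⟩
      left_inv := fun x => by ext; simp
      right_inv := fun x => by ext; simp }

/-- Inflation commutes with induction. -/
theorem indFun_comap (f : Γ →* G) (hf : Function.Surjective f) (H : Subgroup G) (ψ : H → ℂ) :
    indFun (H.comap f) (fun x => ψ ⟨f x, x.2⟩) = fun γ => indFun H ψ (f γ) := by
  funext γ
  simp only [indFun]
  have h1 : ∀ x : Γ, extendByZero (H.comap f) (fun x => ψ ⟨f x, x.2⟩) (x⁻¹ * γ * x)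
      = extendByZero H ψ ((f x)⁻¹ * f γ * f x) := by
    intro x
    have h2 : (f x)⁻¹ * f γ * f x = f (x⁻¹ * γ * x) := by simp
    by_cases hc : x⁻¹ * γ * x ∈ H.comap f
    · have hc' : (f x)⁻¹ * f γ * f x ∈ H := by rw [h2]; exact hc
      rw [extendByZero_of_mem _ _ hc, extendByZero_of_mem _ _ hc']
      congr 1
      ext
      exact h2.symm
    · have hc' : (f x)⁻¹ * f γ * f x ∉ H := by rw [h2]; exact hc
      rw [extendByZero_of_notMem _ _ hc, extendByZero_of_notMem _ _ hc']
  rw [Finset.sum_congr rfl fun x _ => h1 x,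
    sum_comp_surjective f hf (fun y => extendByZero H ψ (y⁻¹ * f γ * y)), ← mul_assoc]
  congr 1
  have h3 : Nat.card (H.comap f) = Nat.card f.ker * Nat.card H := by
    have h4 : f.ker ≤ H.comap f := fun x hx => by
      rw [Subgroup.mem_comap, MonoidHom.mem_ker.mp hx]; exact H.one_mem
    have h5 := Subgroup.card_mul_index (H.comap f)
    have h6 := Subgroup.card_mul_index H
    have h7 : (H.comap f).index = H.index := Subgroup.index_comap_of_surjective H hf
    have h8 := Subgroup.card_mul_index f.ker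
    have h9 : f.ker.index = Nat.card G := by
      rw [Subgroup.index_ker, MonoidHom.range_eq_top.mpr hf, Subgroup.card_top]
    have h10 : 0 < H.index := Nat.pos_of_ne_zero Subgroup.index_ne_zero_of_finite
    rw [h7] at h5
    rw [h9, ← h6, ← h5, ← mul_assoc] at h8
    exact (Nat.eq_of_mul_eq_mul_right h10 h8).symm
  rw [h3]
  have h9 := card_ne_zero_complex H
  have h10 := card_ne_zero_complex f.ker
  push_cast
  field_simp

/-- Descent of induced characters along a surjection. -/
theorem descend (f : Γ →* G) (hf : Function.Surjective f) (T : Subgroup Γ) (hT : f.ker ≤ T)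
    {κ : T → ℂ} (hκ : IsIrrCharacter T κ) {χ : G → ℂ} (hχ : IsIrrCharacter G χ)
    (hind : indFun T κ = fun γ => χ (f γ)) :
    ∃ ξ : ↥(T.map f) → ℂ, IsIrrCharacter ↥(T.map f) ξ ∧
      indFun (T.map f) ξ = χ := by
  classical
  have := Fintype.ofFinite T
  have := Fintype.ofFinite (T.map f)
  have : Fintype (IrrCharacter (T.map f)) := Fintype.ofFinite _
  have hχc := isCharacter_of_isIrr hχ
  let fT : T →* ↥(T.map f) :=
    { toFun := fun x => ⟨f x, Subgroup.mem_map_of_mem f x.2⟩
      map_one' := by ext; simp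
      map_mul' := fun x y => by ext; simp }
  have hfT : Function.Surjective fT := by
    rintro ⟨y, x, hx, rfl⟩
    exact ⟨⟨x, hx⟩, rfl⟩
  obtain ⟨k, -, hsum⟩ := exists_mult_of_isCharacter (isCharacter_restrict hχc (T.map f))
  have hinfl : IsIrrCharacter Γ (fun γ => χ (f γ)) := isIrrCharacter_comp_surjective hχ f hf
  have h1 : classInner (fun x : T => (fun γ => χ (f γ)) x) κ ≠ 0 := by
    rw [← frobenius_reciprocity' T κ (fun γ => χ (f γ))
      (isClassFunction_of_isCharacter (isCharacter_of_isIrr hinfl)), hind, classInner_self_of_irr hinfl]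
    exact one_ne_zero
  have h2 : (fun x : T => (fun γ => χ (f γ)) x)
      = ∑ ξ : IrrCharacter (T.map f), (k ξ : ℂ) • (fun x : T => (ξ : ↥(T.map f) → ℂ) (fT x)) := by
    funext x
    have h3 := congrFun hsum (fT x)
    rw [Finset.sum_apply] at h3 ⊢
    have h4 : (fun x : T => (fun γ => χ (f γ)) x) x = χ ((fT x : ↥(T.map f)) : G) := rfl
    rw [h4, h3]
    refine Finset.sum_congr rfl fun ξ _ => ?_
    rw [Pi.smul_apply, Pi.smul_apply, nsmul_eq_mul, smul_eq_mul]
  rw [h2, classInner_sum_left] at h1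
  obtain ⟨ξ, -, hξ⟩ := Finset.exists_ne_zero_of_sum_ne_zero h1
  rw [classInner_smul_left] at hξ
  have hξirr : IsIrrCharacter T (fun x : T => (ξ : ↥(T.map f) → ℂ) (fT x)) :=
    isIrrCharacter_comp_surjective ξ.2 fT hfT
  have h3 := eq_of_classInner_ne_zero hξirr hκ (right_ne_zero_of_mul hξ)
  refine ⟨ξ, ξ.2, ?_⟩
  have h4 := indFun_comap f hf (T.map f) (ξ : ↥(T.map f) → ℂ)
  have h5 : (T.map f).comap f = T := by
    rw [Subgroup.comap_map_eq, sup_eq_left.mpr hT]
  have h6 : ∀ (S : Subgroup Γ) (hS : S = T) (hSm : ∀ x ∈ S, f x ∈ T.map f),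
      indFun S (fun x : S => (ξ : ↥(T.map f) → ℂ) ⟨f x, hSm x x.2⟩) = indFun T κ := by
    intro S hS hSm
    subst hS
    rw [← h3]
    rfl
  have h7 := h6 ((T.map f).comap f) h5 (fun x hx => hx)
  rw [h7, hind] at h4
  funext g
  obtain ⟨γ, rfl⟩ := hf g
  exact (congrFun h4 γ).symm

/-- If `χ = θ^G` is irreducible then `θ|_K` is not orthogonal to `χ|_K`. -/
theorem restrict_ne_zero_of_ind (H K : Subgroup G) [Fintype K] (hKH : K ≤ H) {θ : H → ℂ} (hθ : IsIrrCharacter H θ)
    (hθK : IsIrrCharacter K (fun x : K => θ ⟨(x : G), hKH x.2⟩)) (hind : IsIrrCharacter G (indFun H θ)) :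
    classInner (fun x : K => indFun H θ x) (fun x : K => θ ⟨(x : G), hKH x.2⟩) ≠ 0 := by
  have := Fintype.ofFinite H
  have := Fintype.ofFinite (K.subgroupOf H)
  have hχc := isCharacter_of_isIrr hind
  have hχcf := isClassFunction_of_isCharacter hχc
  have hθcf := isClassFunction_of_isCharacter (isCharacter_of_isIrr hθ)
  have hθL' : IsIrrCharacter (K.subgroupOf H) (fun x : K.subgroupOf H => θ x) :=
    isIrr_comp_equiv (Subgroup.subgroupOfEquivOfLe hKH) hθK
  have h2 := classInner_ne_zero_of_common (φ := fun t : H => indFun H θ t)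
    (ψ := indFun (K.subgroupOf H) (fun x : K.subgroupOf H => θ x)) (χ := θ)
    (isCharacter_restrict hχc H) (indFun_isCharacter _ _ (isCharacter_of_isIrr hθL')) hθ (by
      rw [← frobenius_reciprocity' H θ (indFun H θ) hχcf, classInner_self_of_irr hind]
      exact one_ne_zero) (by
      rw [frobenius_reciprocity _ _ θ hθcf, classInner_self_of_irr hθL']
      exact one_ne_zero)
  rw [frobenius_reciprocity' (K.subgroupOf H) _ _
    (isClassFunction_of_isCharacter (isCharacter_restrict hχc H))] at h2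
  have h3 : classInner (fun x : K => indFun H θ x) (fun x : K => θ ⟨(x : G), hKH x.2⟩)
      = classInner (fun x : K.subgroupOf H => indFun H θ ((x : H) : G)) (fun x : K.subgroupOf H => θ x) := by
    unfold classInner
    rw [Nat.card_congr (Subgroup.subgroupOfEquivOfLe hKH).symm.toEquiv]
    congr 1
    exact (Equiv.sum_comp (Subgroup.subgroupOfEquivOfLe hKH).toEquiv
      (fun x : K => indFun H θ x * conj (θ ⟨(x : G), hKH x.2⟩))).symm
  rw [h3]
  exact h2

end

end Cfsg.Agent.Char.BG
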