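import Mathlib
import Cfsg.Prelude.Def_Characters
import Cfsg.Agent.CharBase.Ortho

/-!
# Representations with the same character are equivalent (owner: helper3)
-/

set_option autoImplicit false

namespace Cfsg.Agent.Char.RE

open Cfsg Cfsg.Agent.CharBase

universe u v w

/-- An injective intertwining map gives an equivalence onto its range. -/
noncomputable def equivRange {G : Type u} [Group G] {V : Type v} {W : Type w} [AddCommGroup V] [Module ℂ V]
    [AddCommGroup W] [Module ℂ W] {ρ : Representation ℂ G V} {σ : Representation ℂ G W}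
    (f : Representation.IntertwiningMap ρ σ) (hf : Function.Injective f) :
    ρ.Equiv f.range.toRepresentation :=
  Representation.Equiv.mk (LinearEquiv.ofInjective f.toLinearMap hf) (by
    intro g
    ext v
    have := f.isIntertwining' g
    exact congrArg (fun h : V →ₗ[ℂ] W => h v) this)

/-- Representations with the same character are equivalent. -/
theorem equiv_of_character_eq_aux {G : Type u} [Group G] [Finite G] (n : ℕ) :
    ∀ (V : Type v) (W : Type w) [AddCommGroup V] [Module ℂ V] [FiniteDimensional ℂ V] [AddCommGroup W]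
      [Module ℂ W] [FiniteDimensional ℂ W] (ρ : Representation ℂ G V) (σ : Representation ℂ G W),
      Module.finrank ℂ V = n → ρ.character = σ.character → Nonempty (ρ.Equiv σ) := by
  induction n using Nat.strong_induction_on with
  | _ n ih =>
  intro V W _ _ _ _ _ _ ρ σ hn h
  classical
  have := Fintype.ofFinite G
  have hdim : Module.finrank ℂ V = Module.finrank ℂ W := by
    have h1 := congrFun h 1
    rw [Representation.char_one, Representation.char_one] at h1
    exact_mod_cast h1
  by_cases hn0 : n = 0
  · have hV : Subsingleton V := Module.finrank_zero_iff.mp (by rw [hn, hn0])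
    have hW : Subsingleton W := Module.finrank_zero_iff.mp (by rw [← hdim, hn, hn0])
    let e : V ≃ₗ[ℂ] W := LinearEquiv.ofFinrankEq V W hdim
    exact ⟨Representation.Equiv.mk e (fun g => by ext v; exact Subsingleton.elim _ _)⟩
  have hV : Nontrivial V := Module.finrank_pos_iff.mp (by rw [hn]; omega)
  have htop : (⊤ : Subrepresentation ρ) ≠ ⊥ := by
    intro h
    obtain ⟨v, hv⟩ := exists_ne (0 : V)
    have h1 : v ∈ (⊤ : Subrepresentation ρ).toSubmodule := Submodule.mem_top
    rw [h] at h1
    exact hv h1
  obtain ⟨U, hU, -⟩ := exists_isAtom_le ρ ⊤ htop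
  have hUirr := toRepresentation_isIrreducible_of_isAtom U hU
  -- a nonzero map `U → W`
  let _ : Invertible (Nat.card G : ℂ) := invertibleOfNonzero (by exact_mod_cast Nat.card_pos.ne')
  have h1 := Representation.card_inv_mul_sum_char_mul_char_eq_finrank U.toRepresentation ρ
  have h2 := Representation.card_inv_mul_sum_char_mul_char_eq_finrank U.toRepresentation σ
  rw [← h, h1] at h2
  have h3 : Module.finrank ℂ (Representation.IntertwiningMap U.toRepresentation ρ) =
      Module.finrank ℂ (Representation.IntertwiningMap U.toRepresentation σ) := by exact_mod_cast h2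
  have hincl : ∃ f : Representation.IntertwiningMap U.toRepresentation ρ, f ≠ 0 := by
    refine ⟨U.toSubmodule.subtype.intertwiningMap_of_isIntertwiningMap _ _ (fun g v => rfl), ?_⟩
    intro h0
    have hUne : U.toSubmodule ≠ ⊥ := fun hb => hU.1 (Subrepresentation.toSubmodule_injective hb)
    obtain ⟨v, hv, hv0⟩ := Submodule.exists_mem_ne_zero_of_ne_bot hUne
    apply hv0
    have h4 := congrArg (fun f : Representation.IntertwiningMap U.toRepresentation ρ => f.toLinearMap ⟨v, hv⟩) h0
    exact h4
  have hpos : 0 < Module.finrank ℂ (Representation.IntertwiningMap U.toRepresentation ρ) := by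
    have : Nontrivial (Representation.IntertwiningMap U.toRepresentation ρ) :=
      ⟨⟨hincl.choose, 0, hincl.choose_spec⟩⟩
    exact Module.finrank_pos
  rw [h3] at hpos
  have : Nontrivial (Representation.IntertwiningMap U.toRepresentation σ) := Module.finrank_pos_iff.mp hpos
  obtain ⟨f, hf0⟩ := exists_ne (0 : Representation.IntertwiningMap U.toRepresentation σ)
  have hf := (Representation.IsIrreducible.injective_or_eq_zero f).resolve_right hf0
  have e1 := equivRange f hf
  obtain ⟨U', hU'⟩ := exists_isCompl_rep ρ U
  obtain ⟨X', hX'⟩ := exists_isCompl_rep σ f.range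
  have hc1 := character_eq_add_of_isCompl ρ hU'
  have hc2 := character_eq_add_of_isCompl σ hX'
  have hc3 := Representation.char_iso e1
  have hc4 : U'.toRepresentation.character = X'.toRepresentation.character := by
    rw [hc1, hc2, hc3] at h
    exact add_left_cancel h
  have hdim2 : Module.finrank ℂ U'.toSubmodule < n := by
    have h5 := congrFun hc1 1
    rw [Pi.add_apply, Representation.char_one, Representation.char_one, Representation.char_one] at h5
    have h6 : Module.finrank ℂ V = Module.finrank ℂ U.toSubmodule + Module.finrank ℂ U'.toSubmodule := by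
      exact_mod_cast h5
    have h7 : 0 < Module.finrank ℂ U.toSubmodule := by
      have hUne : U.toSubmodule ≠ ⊥ := fun hb => hU.1 (Subrepresentation.toSubmodule_injective hb)
      have : Nontrivial U.toSubmodule := (Submodule.nontrivial_iff_ne_bot).mpr hUne
      exact Module.finrank_pos
    omega
  obtain ⟨e2⟩ := ih _ hdim2 U'.toSubmodule X'.toSubmodule U'.toRepresentation X'.toRepresentation rfl hc4
  have hUc : IsCompl U.toSubmodule U'.toSubmodule := by
    constructor
    · rw [disjoint_iff]
      exact congrArg Subrepresentation.toSubmodule hU'.inf_eq_bot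
    · rw [codisjoint_iff]
      exact congrArg Subrepresentation.toSubmodule hU'.sup_eq_top
  have hXc : IsCompl f.range.toSubmodule X'.toSubmodule := by
    constructor
    · rw [disjoint_iff]
      exact congrArg Subrepresentation.toSubmodule hX'.inf_eq_bot
    · rw [codisjoint_iff]
      exact congrArg Subrepresentation.toSubmodule hX'.sup_eq_top
  let E : V ≃ₗ[ℂ] W := (Submodule.prodEquivOfIsCompl _ _ hUc).symm ≪≫ₗ
    (LinearEquiv.prodCongr e1.toLinearEquiv e2.toLinearEquiv) ≪≫ₗ Submodule.prodEquivOfIsCompl _ _ hXc
  refine ⟨Representation.Equiv.mk E ?_⟩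
  intro g
  ext v
  obtain ⟨⟨a, b⟩, rfl⟩ := (Submodule.prodEquivOfIsCompl _ _ hUc).surjective v
  have hg : ρ g ((Submodule.prodEquivOfIsCompl _ _ hUc) (a, b)) =
      (Submodule.prodEquivOfIsCompl _ _ hUc) (U.toRepresentation g a, U'.toRepresentation g b) := by
    simp only [Submodule.coe_prodEquivOfIsCompl', map_add]
    rfl
  change E (ρ g ((Submodule.prodEquivOfIsCompl _ _ hUc) (a, b))) = σ g (E ((Submodule.prodEquivOfIsCompl _ _ hUc) (a, b)))
  rw [hg]
  have hE : ∀ (a : U.toSubmodule) (b : U'.toSubmodule), E ((Submodule.prodEquivOfIsCompl _ _ hUc) (a, b)) =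
      (Submodule.prodEquivOfIsCompl _ _ hXc) (e1 a, e2 b) := by
    intro a b
    change (Submodule.prodEquivOfIsCompl _ _ hXc) ((LinearEquiv.prodCongr e1.toLinearEquiv e2.toLinearEquiv)
      ((Submodule.prodEquivOfIsCompl _ _ hUc).symm ((Submodule.prodEquivOfIsCompl _ _ hUc) (a, b)))) = _
    rw [LinearEquiv.symm_apply_apply]
    rfl
  rw [hE, hE]
  simp only [Submodule.coe_prodEquivOfIsCompl', map_add]
  have he1 : e1 (U.toRepresentation g a) = f.range.toRepresentation g (e1 a) :=
    congrArg (fun h : _ →ₗ[ℂ] _ => h a) (e1.isIntertwining' g)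
  have he2 : e2 (U'.toRepresentation g b) = X'.toRepresentation g (e2 b) :=
    congrArg (fun h : _ →ₗ[ℂ] _ => h b) (e2.isIntertwining' g)
  rw [he1, he2]
  rfl


theorem equiv_of_character_eq {G : Type u} [Group G] [Finite G] {V : Type v} {W : Type w}
    [AddCommGroup V] [Module ℂ V] [FiniteDimensional ℂ V] [AddCommGroup W] [Module ℂ W]
    [FiniteDimensional ℂ W] (ρ : Representation ℂ G V) (σ : Representation ℂ G W)
    (h : ρ.character = σ.character) : Nonempty (ρ.Equiv σ) :=
  equiv_of_character_eq_aux _ V W ρ σ rfl h

end Cfsg.Agent.Char.RE
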