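import Cfsg.Agent.Char.Clifford

/-!
# Mackey's formula for `H N = G` with `N` normal (owner: helper15)
-/

set_option autoImplicit false

namespace Cfsg.Agent.Char.MT

open Cfsg Cfsg.Agent.Char Cfsg.Agent.CharBase
open scoped ComplexConjugate

universe u

variable {G : Type u} [Group G] [Fintype G]

theorem exists_mul_of_sup_eq_top {H N : Subgroup G} [hN : N.Normal] (hsup : H ⊔ N = ⊤) (x : G) :
    ∃ y ∈ N, ∃ h ∈ H, x = y * h := by
  have hx : x ∈ (N ⊔ H : Subgroup G) := by rw [sup_comm, hsup]; exact Subgroup.mem_top x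
  rw [← SetLike.mem_coe, Subgroup.normal_mul] at hx
  obtain ⟨y, hy, h, hh, rfl⟩ := hx
  exact ⟨y, hy, h, hh, rfl⟩

theorem sum_eq_of_sup {H N : Subgroup G} [hN : N.Normal] [Fintype N] (hsup : H ⊔ N = ⊤) (F : G → ℂ)
    (hF : ∀ x : G, ∀ h ∈ H, F (x * h) = F x) :
    (Nat.card (H.subgroupOf N) : ℂ) * ∑ x : G, F x = (Nat.card H : ℂ) * ∑ y : N, F y := by
  classical
  have := Fintype.ofFinite H
  have h1 : ∀ x : G, ∑ y : N, (if (y : G)⁻¹ * x ∈ H then F x else 0)
      = (Nat.card (H.subgroupOf N) : ℂ) * F x := by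
    intro x
    obtain ⟨y0, hy0, h0, hh0, hx⟩ := exists_mul_of_sup_eq_top hsup x
    rw [← Equiv.sum_comp (Equiv.mulLeft (⟨y0, hy0⟩ : N))]
    have h2 : ∀ y : N, (if (((Equiv.mulLeft (⟨y0, hy0⟩ : N)) y : N) : G)⁻¹ * x ∈ H then F x else 0)
        = if y ∈ H.subgroupOf N then F x else 0 := by
      intro y
      have h3 : (((Equiv.mulLeft (⟨y0, hy0⟩ : N)) y : N) : G)⁻¹ * x ∈ H ↔ y ∈ H.subgroupOf N := by
        rw [Equiv.coe_mulLeft, Subgroup.coe_mul, hx, Subgroup.mem_subgroupOf]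
        have h4 : (y0 * (y : G))⁻¹ * (y0 * h0) = (y : G)⁻¹ * h0 := by group
        change (y0 * (y : G))⁻¹ * (y0 * h0) ∈ H ↔ _
        rw [h4, Subgroup.mul_mem_cancel_right H hh0, inv_mem_iff]
      by_cases hc : y ∈ H.subgroupOf N
      · rw [if_pos hc, if_pos (h3.mpr hc)]
      · rw [if_neg hc, if_neg (fun h => hc (h3.mp h))]
    rw [Finset.sum_congr rfl fun y _ => h2 y, ← Finset.sum_filter, Finset.sum_const, nsmul_eq_mul]
    congr 2
    rw [Nat.card_eq_fintype_card, Fintype.card_subtype]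
  have h5 : ∀ y : N, ∑ x : G, (if (y : G)⁻¹ * x ∈ H then F x else 0) = (Nat.card H : ℂ) * F y := by
    intro y
    rw [← Equiv.sum_comp (Equiv.mulLeft (y : G))]
    have h6 : ∀ x : G, (if (y : G)⁻¹ * ((Equiv.mulLeft (y : G)) x) ∈ H then F ((Equiv.mulLeft (y : G)) x)
        else 0) = if x ∈ H then F y else 0 := by
      intro x
      rw [Equiv.coe_mulLeft, inv_mul_cancel_left]
      by_cases hc : x ∈ H
      · rw [if_pos hc, if_pos hc, hF _ _ hc]
      · rw [if_neg hc, if_neg hc]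
    rw [Finset.sum_congr rfl fun y _ => h6 y, ← Finset.sum_filter, Finset.sum_const, nsmul_eq_mul]
    congr 2
    rw [Nat.card_eq_fintype_card, Fintype.card_subtype]
  rw [Finset.mul_sum, Finset.mul_sum, ← Finset.sum_congr rfl fun x _ => h1 x,
    ← Finset.sum_congr rfl fun y _ => h5 y, Finset.sum_comm]

/-- Mackey's formula for `H N = G`. -/
theorem indFun_restrict_of_sup {H N : Subgroup G} [hN : N.Normal] [Fintype N] (hsup : H ⊔ N = ⊤)
    {θ : H → ℂ} (hθ : IsClassFunction H θ) :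
    (fun n : N => indFun H θ n) = indFun (H.subgroupOf N) (fun s => θ ⟨((s : N) : G), s.2⟩) := by
  funext n
  simp only [indFun]
  have hF : ∀ x : G, ∀ h ∈ H, (fun x : G => extendByZero H θ (x⁻¹ * (n : G) * x)) (x * h)
      = (fun x : G => extendByZero H θ (x⁻¹ * (n : G) * x)) x := by
    intro x h hh
    have h1 : (x * h)⁻¹ * (n : G) * (x * h) = h⁻¹ * (x⁻¹ * (n : G) * x) * h := by group
    simp only [h1]
    by_cases hc : x⁻¹ * (n : G) * x ∈ H
    · have hc' : h⁻¹ * (x⁻¹ * (n : G) * x) * h ∈ H := H.mul_mem (H.mul_mem (H.inv_mem hh) hc) hh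
      rw [extendByZero_of_mem H θ hc, extendByZero_of_mem H θ hc']
      have h2 := hθ ⟨x⁻¹ * (n : G) * x, hc⟩ ⟨h⁻¹, H.inv_mem hh⟩
      rw [← h2]
      congr 1
      ext
      simp
    · have hc' : h⁻¹ * (x⁻¹ * (n : G) * x) * h ∉ H := by
        intro h3
        apply hc
        have h4 := H.mul_mem (H.mul_mem hh h3) (H.inv_mem hh)
        have h5 : h * (h⁻¹ * (x⁻¹ * (n : G) * x) * h) * h⁻¹ = x⁻¹ * (n : G) * x := by group
        rwa [h5] at h4
      rw [extendByZero_of_notMem H θ hc, extendByZero_of_notMem H θ hc']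
  have h1 := sum_eq_of_sup hsup (fun x : G => extendByZero H θ (x⁻¹ * (n : G) * x)) hF
  have hH := card_ne_zero_complex H
  have hS := card_ne_zero_complex (H.subgroupOf N)
  have h2 : ∀ y : N, extendByZero H θ ((y : G)⁻¹ * (n : G) * y)
      = extendByZero (H.subgroupOf N) (fun s => θ ⟨((s : N) : G), s.2⟩) (y⁻¹ * n * y) := by
    intro y
    by_cases hc : y⁻¹ * n * y ∈ H.subgroupOf N
    · have hc' : (y : G)⁻¹ * (n : G) * y ∈ H := hc
      rw [extendByZero_of_mem _ _ hc, extendByZero_of_mem _ _ hc']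
      rfl
    · have hc' : (y : G)⁻¹ * (n : G) * y ∉ H := hc
      rw [extendByZero_of_notMem _ _ hc, extendByZero_of_notMem _ _ hc']
  simp only [h2] at h1
  have h3 : (∑ x : G, extendByZero H θ (x⁻¹ * (n : G) * x)) = (Nat.card (H.subgroupOf N) : ℂ)⁻¹ *
      ((Nat.card H : ℂ) * ∑ y : N, extendByZero (H.subgroupOf N) (fun s => θ ⟨((s : N) : G), s.2⟩)
        (y⁻¹ * n * y)) := by
    rw [← h1, ← mul_assoc, inv_mul_cancel₀ hS, one_mul]
  rw [h3]
  field_simp

end Cfsg.Agent.Char.MT
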