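import Cfsg.Agent.Char.Homog
import Cfsg.Agent.Char.MackeyTop
import Cfsg.Agent.Char.ExtThm
import Cfsg.Agent.Solv.MinNormal

/-!
# Berger's lemma on homogeneous induced characters (owner: helper15)
-/

set_option autoImplicit false

namespace Cfsg.Agent.Char.BG

open Cfsg Cfsg.Agent.Char Cfsg.Agent.CharBase Cfsg.Agent.Char.GD Cfsg.Agent.Char.MT
open scoped ComplexConjugate

universe u v

section Chief

variable {G : Type u} [Group G] [Finite G]

/-- A chief factor inside a solvable quotient has prime power order. -/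
theorem chief_primepow (L K : Subgroup G) [hL : L.Normal] [hK : K.Normal] (hLK : L < K)
    (hchief : ∀ M : Subgroup G, M.Normal → L ≤ M → M ≤ K → M = L ∨ M = K)
    (hsolv : Group.IsSolvable (G ⧸ L)) :
    ∃ p k : ℕ, p.Prime ∧ k ≠ 0 ∧ L.relIndex K = p ^ k ∧ IsPGroup p (K.map (QuotientGroup.mk' L)) := by
  classical
  set π := QuotientGroup.mk' L with hπ
  have hker : π.ker = L := QuotientGroup.ker_mk' L
  have hsurj : Function.Surjective π := QuotientGroup.mk'_surjective L
  have hKn : (K.map π).Normal := hK.map π hsurj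
  have hne : K.map π ≠ ⊥ := by
    intro hb
    rw [Subgroup.map_eq_bot_iff, hker] at hb
    exact absurd hb hLK.not_ge
  have hmin : ∀ M : Subgroup (G ⧸ L), M.Normal → M ≤ K.map π → M = ⊥ ∨ M = K.map π := by
    intro M hM hMK
    have h1 := hchief (M.comap π) (hM.comap π) (by
      have h := Subgroup.comap_mono (f := π) (bot_le : ⊥ ≤ M)
      rw [MonoidHom.comap_bot, hker] at h
      exact h) (by
      have h2 := Subgroup.comap_mono (f := π) hMK
      rw [Subgroup.comap_map_eq, hker, sup_eq_left.mpr hLK.le] at h2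
      exact h2)
    have h3 : (M.comap π).map π = M := Subgroup.map_comap_eq_self_of_surjective hsurj M
    rcases h1 with h | h
    · left
      rw [← h3, h, Subgroup.map_eq_bot_iff, hker]
    · right
      rw [← h3, h]
  obtain ⟨p, hp, hP⟩ := Cfsg.Agent.Solv.minimal_normal_isPGroup (K.map π)
    (Group.isSolvable_of_isSolvable_injective (K.map π).subtype_injective) hne hmin
  have := Fact.mk hp
  obtain ⟨k, hk⟩ := IsPGroup.iff_card.mp hP
  have h4 : L.relIndex K = Nat.card (K.map π) := by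
    rw [← Subgroup.relIndex_ker, hker]
  refine ⟨p, k, hp, ?_, by rw [h4, hk], hP⟩
  rintro rfl
  apply hLK.not_ge
  rw [← Subgroup.relIndex_eq_one, h4, hk, pow_zero]

/-- A chief factor above a normal subgroup with solvable quotient. -/
theorem exists_chief_above (L K : Subgroup G) [hL : L.Normal] [hK : K.Normal] (hLK : L < K)
    (hsolv : Group.IsSolvable (G ⧸ L)) :
    ∃ M : Subgroup G, M.Normal ∧ L < M ∧ M ≤ K ∧
      (∀ M' : Subgroup G, M'.Normal → L ≤ M' → M' ≤ M → M' = L ∨ M' = M) ∧ ⁅M, M⁆ ≤ L := by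
  classical
  obtain ⟨M, hM⟩ := (Set.toFinite {M : Subgroup G | M.Normal ∧ L < M ∧ M ≤ K}).exists_minimal
    ⟨K, hK, hLK, le_rfl⟩
  obtain ⟨⟨hMn, hLM, hMK⟩, hmin⟩ := hM
  have hchief : ∀ M' : Subgroup G, M'.Normal → L ≤ M' → M' ≤ M → M' = L ∨ M' = M := by
    intro M' hM' hLM' hM'M
    rcases hLM'.eq_or_lt with h | h
    · exact Or.inl h.symm
    · right
      exact le_antisymm hM'M (hmin ⟨hM', h, hM'M.trans hMK⟩ hM'M)
  refine ⟨M, hMn, hLM, hMK, hchief, ?_⟩
  obtain ⟨L', hL'n, hLL', hL'M, -, hcomm⟩ := exists_chief_below L M hLM hsolv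
  rcases hchief L' hL'n hLL' hL'M.le with h | h
  · rw [← h]; exact hcomm
  · exact absurd h hL'M.ne

end Chief

section Tools

variable {G : Type u} [Group G]

/-- A character with an irreducible pull-back is irreducible. -/
theorem isIrr_of_comp {A : Type v} [Group A] [Finite A] [Finite G] (f : A →* G) {χ : G → ℂ}
    (hχ : IsCharacter G χ) (h : IsIrrCharacter A (fun a => χ (f a))) : IsIrrCharacter G χ := by
  obtain ⟨n, ρ, hρ⟩ := hχ
  have h1 : Representation.character (MonoidHom.comp ρ f : Representation ℂ A (Fin n → ℂ))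
      = fun a => χ (f a) := by
    rw [← hρ]; rfl
  have h2 := isIrreducible_of_character (MonoidHom.comp ρ f : Representation ℂ A (Fin n → ℂ))
    (by rw [h1]; exact h)
  have h3 := isIrreducible_of_comp ρ f h2
  rw [← hρ]
  exact isIrrCharacter_of_rep ρ h3

theorem smul_irr_inj [Fintype G] {φ ψ : G → ℂ} (hφ : IsIrrCharacter G φ) (hψ : IsIrrCharacter G ψ)
    {a b : ℕ} (ha : a ≠ 0) (h : (a : ℂ) • φ = (b : ℂ) • ψ) : φ = ψ ∧ a = b := by
  have h1 : classInner ((a : ℂ) • φ) φ = a := by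
    rw [classInner_smul_left, classInner_self_of_irr hφ, mul_one]
  have h2 : φ = ψ := by
    by_contra hne
    rw [h, classInner_smul_left, classInner_eq_zero_of_irr_ne hψ hφ (Ne.symm hne), mul_zero] at h1
    exact ha (by exact_mod_cast h1.symm)
  refine ⟨h2, ?_⟩
  rw [h, ← h2, classInner_smul_left, classInner_self_of_irr hφ, mul_one] at h1
  exact_mod_cast h1.symm

theorem eq_smul_of_degree [Fintype G] {φ χ : G → ℂ} (hφ : IsCharacter G φ) (hχ : IsIrrCharacter G χ)
    {m : ℕ} (hm : classInner φ χ = m) (hd : φ 1 = m * χ 1) : φ = (m : ℂ) • χ := by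
  classical
  have : Fintype (IrrCharacter G) := Fintype.ofFinite _
  obtain ⟨k, hk, hsum⟩ := exists_mult_of_isCharacter hφ
  choose deg hdeg using fun ξ : IrrCharacter G => exists_nat_degree (irr_isCharacter ξ)
  have hdegpos : ∀ ξ, 0 < deg ξ := by
    intro ξ
    apply Nat.pos_of_ne_zero
    intro h
    have := hdeg ξ
    rw [h] at this
    exact irr_one_ne_zero ξ.2 (by simpa using this)
  have h3 : k ⟨χ, hχ⟩ = m := by
    have := hk ⟨χ, hχ⟩
    simp only at this
    rw [hm] at this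
    exact_mod_cast this.symm
  have h1 := congrFun hsum 1
  rw [Finset.sum_apply] at h1
  have h2 : m * deg ⟨χ, hχ⟩ = ∑ ξ, k ξ * deg ξ := by
    have : ((m * deg ⟨χ, hχ⟩ : ℕ) : ℂ) = ((∑ ξ, k ξ * deg ξ : ℕ) : ℂ) := by
      push_cast
      rw [← hdeg ⟨χ, hχ⟩]
      simp only
      rw [← hd, h1]
      refine Finset.sum_congr rfl fun ξ _ => ?_
      simp [hdeg]
    exact_mod_cast this
  rw [← Finset.add_sum_erase _ _ (Finset.mem_univ (⟨χ, hχ⟩ : IrrCharacter G)), h3] at h2
  have h4 : ∑ ξ ∈ Finset.univ.erase (⟨χ, hχ⟩ : IrrCharacter G), k ξ * deg ξ = 0 := by omega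
  have h5 : ∀ ξ : IrrCharacter G, ξ ≠ ⟨χ, hχ⟩ → k ξ = 0 := by
    intro ξ hξ
    have h6 := (Finset.sum_eq_zero_iff.mp h4) ξ (Finset.mem_erase.mpr ⟨hξ, Finset.mem_univ _⟩)
    rcases Nat.mul_eq_zero.mp h6 with h | h
    · exact h
    · exact absurd h (hdegpos ξ).ne'
  rw [hsum, Finset.sum_eq_single (⟨χ, hχ⟩ : IrrCharacter G)]
  · rw [h3]
    first
      | rfl
      | (ext x; simp)
  · intro ξ _ hξ
    rw [h5 ξ hξ]
    simp
  · intro h; exact absurd (Finset.mem_univ _) h

variable [Fintype G]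

/-- The sum of `|ν|²` over a coset of a normal subgroup to which `ν` restricts irreducibly. -/
theorem coset_sq {A B : Subgroup G} (hBA : B ≤ A) [hB : B.Normal] [Fintype B] {ν : A → ℂ}
    (hν : IsIrrCharacter A ν) (hνB : IsIrrCharacter B (fun b => ν ⟨(b : G), hBA b.2⟩)) (a : A) :
    ∑ b : B, Complex.normSq (ν (⟨(b : G), hBA b.2⟩ * a)) = Nat.card B := by
  classical
  have := Fintype.ofFinite A
  have := Fintype.ofFinite (B.subgroupOf A)
  have h0 : IsIrrCharacter (B.subgroupOf A) (fun n : B.subgroupOf A => ν n) :=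
    isIrr_comp_equiv (Subgroup.subgroupOfEquivOfLe hBA) hνB
  have h1 := congrFun (avgN_mul_conj_of_restrict_irr (B.subgroupOf A) hν h0) a
  rw [avgN_apply] at h1
  have hc := card_ne_zero_complex (B.subgroupOf A)
  have h2 : ∑ n : B.subgroupOf A, (ν * fun g => conj (ν g)) ((n : A) * a) = Nat.card B := by
    have h3 : (Nat.card (B.subgroupOf A) : ℂ) = Nat.card B := by
      rw [Nat.card_congr (Subgroup.subgroupOfEquivOfLe hBA).toEquiv]
    rw [← h3]
    field_simp at h1
    exact h1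
  have h4 : ∑ n : B.subgroupOf A, (ν * fun g => conj (ν g)) ((n : A) * a)
      = ∑ b : B, ((Complex.normSq (ν (⟨(b : G), hBA b.2⟩ * a)) : ℝ) : ℂ) := by
    rw [← Equiv.sum_comp (Subgroup.subgroupOfEquivOfLe hBA).toEquiv]
    refine Finset.sum_congr rfl fun n _ => ?_
    rw [Pi.mul_apply, Complex.mul_conj]
    rfl
  rw [h4] at h2
  exact_mod_cast h2

/-- A vanishing criterion. -/
theorem vanish_of_sum_eq {L M : Subgroup G} (hLM : L ≤ M) [Fintype L] [Fintype M] (f : G → ℝ)
    (hf : ∀ g, 0 ≤ f g) (h : ∑ m : M, f m = ∑ l : L, f l) {m : G} (hm : m ∈ M) (hmL : m ∉ L) :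
    f m = 0 := by
  classical
  have h1 : ∑ m : M, f m = ∑ g ∈ Finset.univ.filter (fun g : G => g ∈ M), f g := by
    rw [← Finset.sum_subtype_of_mem f (p := fun g => g ∈ M) (fun x hx => (Finset.mem_filter.mp hx).2)]
    refine Finset.sum_congr ?_ fun _ _ => rfl
    ext x
    simp [Finset.mem_subtype, x.2]
  have h2 : ∑ m : L, f m = ∑ g ∈ Finset.univ.filter (fun g : G => g ∈ L), f g := by
    rw [← Finset.sum_subtype_of_mem f (p := fun g => g ∈ L) (fun x hx => (Finset.mem_filter.mp hx).2)]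
    refine Finset.sum_congr ?_ fun _ _ => rfl
    ext x
    simp [Finset.mem_subtype, x.2]
  rw [h1, h2] at h
  have hsub : Finset.univ.filter (fun g : G => g ∈ L) ⊆ Finset.univ.filter (fun g : G => g ∈ M) := by
    intro x hx
    rw [Finset.mem_filter] at hx ⊢
    exact ⟨hx.1, hLM hx.2⟩
  rw [← Finset.sum_sdiff hsub] at h
  have h3 : ∑ g ∈ Finset.univ.filter (fun g : G => g ∈ M) \ Finset.univ.filter (fun g : G => g ∈ L),
      f g = 0 := by linarith
  exact (Finset.sum_eq_zero_iff_of_nonneg (fun g _ => hf g)).mp h3 m (by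
    rw [Finset.mem_sdiff, Finset.mem_filter, Finset.mem_filter]
    exact ⟨⟨Finset.mem_univ _, hm⟩, fun h => hmL h.2⟩)

end Tools

section Core

variable {G : Type u} [Group G] [Fintype G]

omit [Fintype G] in
/-- If `H M = G` and `[M, H ∩ C] ≤ L ≤ C` with `C` normal then `H ∩ C` is normal. -/
theorem inf_normal_of {H M C L : Subgroup G} [hM : M.Normal] [hC : C.Normal] (hsup : H ⊔ M = ⊤)
    (hLH : L ≤ H) (hLC : L ≤ C) (h : ∀ m ∈ M, ∀ x ∈ H ⊓ C, m * x * m⁻¹ * x⁻¹ ∈ L) :
    (H ⊓ C).Normal := by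
  constructor
  intro x hx g
  obtain ⟨m, hm, h0, hh0, rfl⟩ : ∃ m ∈ M, ∃ h ∈ H, g = h * m := by
    have hg : g ∈ (H ⊔ M : Subgroup G) := by rw [hsup]; exact Subgroup.mem_top g
    rw [← SetLike.mem_coe, Subgroup.mul_normal] at hg
    obtain ⟨y, hy, z, hz, rfl⟩ := hg
    exact ⟨z, hz, y, hy, rfl⟩
  have h1 : m * x * m⁻¹ ∈ H ⊓ C := by
    have h2 : m * x * m⁻¹ = (m * x * m⁻¹ * x⁻¹) * x := by group
    rw [h2]
    exact (H ⊓ C).mul_mem ⟨hLH (h m hm x hx), hLC (h m hm x hx)⟩ hx
  have h3 : h0 * m * x * (h0 * m)⁻¹ = h0 * (m * x * m⁻¹) * h0⁻¹ := by group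
  rw [h3]
  exact ⟨H.mul_mem (H.mul_mem hh0 h1.1) (H.inv_mem hh0), hC.conj_mem _ h1.2 _⟩

/-- The centralizer of `M` modulo `L`. -/
def centMod (L M : Subgroup G) [L.Normal] : Subgroup G :=
  (Subgroup.centralizer ((M.map (QuotientGroup.mk' L) : Subgroup (G ⧸ L)) : Set (G ⧸ L))).comap
    (QuotientGroup.mk' L)

omit [Fintype G] in
theorem mem_centMod {L M : Subgroup G} [L.Normal] {x : G} :
    x ∈ centMod L M ↔ ∀ m ∈ M, m * x * m⁻¹ * x⁻¹ ∈ L := by
  rw [centMod, Subgroup.mem_comap, Subgroup.mem_centralizer_iff]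
  constructor
  · intro h m hm
    have h1 := h _ ⟨m, hm, rfl⟩
    rw [← QuotientGroup.eq_one_iff]
    have h2 : ((m * x * m⁻¹ * x⁻¹ : G) : G ⧸ L) = (m : G ⧸ L) * (x : G ⧸ L) * (m : G ⧸ L)⁻¹ * (x : G ⧸ L)⁻¹ := rfl
    rw [h2]
    have h3 : (m : G ⧸ L) * (x : G ⧸ L) = (x : G ⧸ L) * (m : G ⧸ L) := h1
    rw [h3]
    group
  · rintro h _ ⟨m, hm, rfl⟩
    have h1 := h m hm
    rw [← QuotientGroup.eq_one_iff] at h1
    have h2 : (m : G ⧸ L) * (x : G ⧸ L) * (m : G ⧸ L)⁻¹ * (x : G ⧸ L)⁻¹ = 1 := h1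
    have h3 : (m : G ⧸ L) * (x : G ⧸ L) = (x : G ⧸ L) * (m : G ⧸ L) := by
      have h4 := mul_inv_eq_one.mp h2
      rw [mul_inv_eq_iff_eq_mul] at h4
      exact h4
    exact h3

omit [Fintype G] in
theorem centMod_normal (L M : Subgroup G) [hL : L.Normal] [hM : M.Normal] : (centMod L M).Normal := by
  have h1 : (M.map (QuotientGroup.mk' L)).Normal := hM.map _ (QuotientGroup.mk'_surjective L)
  unfold centMod
  infer_instance

omit [Fintype G] in
theorem le_centMod (L M : Subgroup G) [hL : L.Normal] : L ≤ centMod L M := by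
  intro x hx
  rw [mem_centMod]
  intro m _
  exact L.mul_mem (hL.conj_mem _ hx _) (L.inv_mem hx)

theorem berger_core (L H : Subgroup G) [hL : L.Normal] (hLH : L ≤ H) (hmax : IsCoatom H)
    (hsolv : Group.IsSolvable (G ⧸ L)) (hcore : ∀ K : Subgroup G, K.Normal → K ≤ H → K ≤ L)
    {θ : H → ℂ} (hθ : IsIrrCharacter H θ)
    (hθL : IsIrrCharacter L (fun x : L => θ ⟨(x : G), hLH x.2⟩))
    (hind : IsIrrCharacter G (indFun H θ))
    (hhom : ∀ M : Subgroup G, M.Normal → L ≤ M → Homog (indFun H θ) M) : False := by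
  classical
  have := Fintype.ofFinite H
  have := Fintype.ofFinite L
  obtain ⟨χ, hχdef⟩ : ∃ χ, χ = indFun H θ := ⟨_, rfl⟩
  rw [← hχdef] at hind hhom
  have hχc := isCharacter_of_isIrr hind
  have hχcf := isClassFunction_of_isCharacter hχc
  have hθc := isCharacter_of_isIrr hθ
  have hθcf := isClassFunction_of_isCharacter hθc
  have hLlt : L < ⊤ := lt_top_iff_ne_top.mpr (fun h => hmax.1 (top_le_iff.mp (h ▸ hLH)))
  obtain ⟨M, hMn, hLM, -, hMchief, hMab⟩ := exists_chief_above L ⊤ hLlt hsolv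
  have := Fintype.ofFinite M
  obtain ⟨q, k, hq, hk, hqk, hMq⟩ := chief_primepow L M hLM hMchief hsolv
  have hsup : H ⊔ M = ⊤ := by
    apply hmax.2
    refine lt_of_le_of_ne le_sup_left fun h => ?_
    have h1 : M ≤ H := by rw [h]; exact le_sup_right
    exact hLM.not_ge (hcore M hMn h1)
  -- claim A
  have claimA : ∀ C : Subgroup G, C.Normal → L ≤ C → (∀ m ∈ M, ∀ x ∈ H ⊓ C, m * x * m⁻¹ * x⁻¹ ∈ L) →
      H ⊓ C ≤ L := by
    intro C hC hLC h
    exact hcore _ (inf_normal_of hsup hLH hLC h) inf_le_left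
  have hHM : H ⊓ M = L := by
    apply le_antisymm
    · apply claimA M hMn hLM.le
      intro m hm x hx
      apply hMab
      exact Subgroup.commutator_mem_commutator hm hx.2
    · exact le_inf hLH hLM.le
  have hHC : H ⊓ centMod L M ≤ L := by
    apply claimA _ (centMod_normal L M) (le_centMod L M)
    intro m hm x hx
    exact mem_centMod.mp hx.2 m hm
  -- index
  have hidx : H.index * Nat.card L = Nat.card M := by
    have h1 := Cfsg.Agent.Solv.index_mul_card_inf_eq_card_of_sup_eq_top M H (by rw [sup_comm]; exact hsup)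
    rwa [hHM] at h1
  have hidx' : H.index = L.relIndex M := by
    have h1 := Subgroup.card_mul_index (L.subgroupOf M)
    have h2 : Nat.card (L.subgroupOf M) = Nat.card L :=
      Nat.card_congr (Subgroup.subgroupOfEquivOfLe hLM.le).toEquiv
    rw [h2, ← hidx, mul_comm] at h1
    exact (Nat.eq_of_mul_eq_mul_right Nat.card_pos h1).symm
  obtain ⟨t, ht⟩ : ∃ t, t = H.index := ⟨_, rfl⟩
  have ht1 : t ≠ 1 := by
    rw [ht]; intro h; exact hmax.1 (Subgroup.index_eq_one.mp h)
  have ht0 : t ≠ 0 := by rw [ht]; exact Subgroup.index_ne_zero_of_finite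
  have hχ1 : χ 1 = t * θ 1 := by rw [hχdef, indFun_one_apply, ht]
  -- restriction to L
  set φ : L → ℂ := fun x : L => θ ⟨(x : G), hLH x.2⟩ with hφdef
  have hφ1 : φ 1 = θ 1 := rfl
  have hχL : (fun x : L => χ x) = (t : ℂ) • φ := by
    obtain ⟨φ', e0, hφ', he0⟩ := hhom L hL le_rfl
    have h1 : classInner (fun x : L.subgroupOf H => χ ((x : H) : G)) (fun x => θ x) ≠ 0 := by
      have := Fintype.ofFinite (L.subgroupOf H)
      have hθL' : IsIrrCharacter (L.subgroupOf H) (fun x : L.subgroupOf H => θ x) :=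
        isIrr_comp_equiv (Subgroup.subgroupOfEquivOfLe hLH) hθL
      have h2 := classInner_ne_zero_of_common (φ := fun t : H => χ t)
        (ψ := indFun (L.subgroupOf H) (fun x : L.subgroupOf H => θ x)) (χ := θ)
        (isCharacter_restrict hχc H) (indFun_isCharacter _ _ (isCharacter_of_isIrr hθL')) hθ (by
          rw [← frobenius_reciprocity' H θ χ hχcf, ← hχdef, classInner_self_of_irr hind]
          exact one_ne_zero) (by
          rw [frobenius_reciprocity _ _ θ hθcf, classInner_self_of_irr hθL']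
          exact one_ne_zero)
      rw [frobenius_reciprocity' (L.subgroupOf H) _ _
        (isClassFunction_of_isCharacter (isCharacter_restrict hχc H))] at h2
      convert h2
    have h2 : classInner (fun x : L => χ x) φ ≠ 0 := by
      have h3 : classInner (fun x : L => χ x) φ
          = classInner (fun x : L.subgroupOf H => χ ((x : H) : G)) (fun x => θ x) := by
        unfold classInner
        rw [Nat.card_congr (Subgroup.subgroupOfEquivOfLe hLH).symm.toEquiv]
        congr 1
        exact (Equiv.sum_comp (Subgroup.subgroupOfEquivOfLe hLH).toEquiv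
          (fun x : L => χ x * conj (φ x))).symm
      rw [h3]; exact h1
    rw [he0, classInner_smul_left] at h2
    have h3 := eq_of_classInner_ne_zero hφ' hθL (right_ne_zero_of_mul h2)
    rw [he0, h3]
    have h4 := congrFun he0 1
    simp only [Pi.smul_apply, smul_eq_mul] at h4
    rw [h3] at h4
    have h5 : χ 1 = (e0 : ℂ) * θ 1 := h4
    rw [hχ1] at h5
    rw [mul_right_cancel₀ (irr_one_ne_zero hθ) h5]
  have hφinv : ∀ g : G, cj L g φ = φ := by
    intro g
    have h1 := cj_restrict L g hχcf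
    rw [hχL, cj_smul] at h1
    exact smul_right_injective _ (by exact_mod_cast ht0 : (t : ℂ) ≠ 0) h1
  -- χ vanishes on M \ L
  have hvan : ∀ m ∈ M, m ∉ L → χ m = 0 := by
    intro m hm hmL
    rw [hχdef, indFun]
    apply mul_eq_zero_of_right
    refine Finset.sum_eq_zero fun x _ => ?_
    apply extendByZero_of_notMem
    intro hc
    have h1 : x⁻¹ * m * x ∈ M := by
      have := hMn.conj_mem m hm x⁻¹
      simpa using this
    have h2 : x⁻¹ * m * x ∈ L := by rw [← hHM]; exact ⟨hc, h1⟩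
    have h3 := hL.conj_mem _ h2 x
    have h4 : x * (x⁻¹ * m * x) * x⁻¹ = m := by group
    rw [h4] at h3
    exact hmL h3
  -- restriction to M
  obtain ⟨μ, e, hμ, heμ⟩ := hhom M hMn hLM.le
  have hcardM : (Nat.card M : ℂ) = t * Nat.card L := by rw [← hidx, ht]; push_cast; ring
  have hLc := card_ne_zero_complex L
  have hMc := card_ne_zero_complex M
  have htc : (t : ℂ) ≠ 0 := by exact_mod_cast ht0
  have het : e ^ 2 = t := by
    have h1 : classInner (fun m : M => χ m) (fun m : M => χ m) = (e : ℂ) ^ 2 := by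
      rw [heμ, classInner_smul_left, classInner_smul_right, classInner_self_of_irr hμ]
      simp [sq]
    have h2 : classInner (fun m : L => χ m) (fun m : L => χ m) = (t : ℂ) ^ 2 := by
      rw [hχL, classInner_smul_left, classInner_smul_right, classInner_self_of_irr hθL]
      simp [sq]
    have h3 : ∑ m : M, χ m * conj (χ m) = ∑ l : L, χ l * conj (χ l) := by
      have h4 : ∀ (K : Subgroup G) [Fintype K], ∑ m : K, χ m * conj (χ m)
          = ∑ g : G, if g ∈ K then χ g * conj (χ g) else 0 := by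
        intro K _
        rw [← Finset.sum_filter, ← Finset.sum_subtype_of_mem (fun g => χ g * conj (χ g)) (p := fun g => g ∈ K)
          (fun x hx => (Finset.mem_filter.mp hx).2)]
        refine Finset.sum_congr ?_ fun _ _ => rfl
        ext x
        simp [Finset.mem_subtype, x.2]
      rw [h4 M, h4 L]
      refine Finset.sum_congr rfl fun g _ => ?_
      by_cases h5 : g ∈ L
      · rw [if_pos h5, if_pos (hLM.le h5)]
      · rw [if_neg h5]
        by_cases h6 : g ∈ M
        · rw [if_pos h6, hvan g h6 h5, zero_mul]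
        · rw [if_neg h6]
    unfold classInner at h1 h2
    rw [h3] at h1
    have h4 : ∑ l : L, χ l * conj (χ l) = Nat.card L * (t : ℂ) ^ 2 := by
      rw [← h2, ← mul_assoc, mul_inv_cancel₀ hLc, one_mul]
    rw [h4, hcardM] at h1
    have h5 : (e : ℂ) ^ 2 = t := by
      rw [← h1]; field_simp
    exact_mod_cast h5
  have he0 : e ≠ 0 := by
    rintro rfl
    exact ht0 (by rw [← het]; rfl)
  have hMtop : M ≠ ⊤ := by
    intro h
    subst h
    have h1 : classInner (fun m : (⊤ : Subgroup G) => χ m) (fun m : (⊤ : Subgroup G) => χ m) = 1 :=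
      classInner_self_of_irr (isIrr_comp_equiv Subgroup.topEquiv hind)
    rw [heμ, classInner_smul_left, classInner_smul_right, classInner_self_of_irr hμ] at h1
    have h2 : (e : ℂ) ^ 2 = 1 := by simpa [sq] using h1
    have h3 : e ^ 2 = 1 := by exact_mod_cast h2
    exact ht1 (by rw [← het, h3])
  have hsolvM : Group.IsSolvable (G ⧸ M) := by
    have hf : Function.Surjective (QuotientGroup.map L M (MonoidHom.id G) (by simpa using hLM.le)) := by
      intro x
      obtain ⟨y, rfl⟩ := QuotientGroup.mk_surjective x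
      exact ⟨(y : G ⧸ L), rfl⟩
    exact Group.isSolvable_of_surjective hf
  obtain ⟨N, hNn, hMN, -, hNchief, hNab⟩ := exists_chief_above M ⊤ (lt_top_iff_ne_top.mpr hMtop) hsolvM
  have := Fintype.ofFinite N
  obtain ⟨r, j, hr, hj, hrj, hNr⟩ := chief_primepow M N hMN hNchief hsolvM
  have hSL : ¬ (H ⊓ N ≤ L) := by
    intro h
    apply hMN.not_ge
    intro n hn
    obtain ⟨m, hm, h0, hh0, hx⟩ := exists_mul_of_sup_eq_top (H := H) (N := M) hsup n
    have h1 : h0 ∈ N := by
      have h2 : h0 = m⁻¹ * n := by rw [hx]; group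
      rw [h2]
      exact N.mul_mem (N.inv_mem (hMN.le hm)) hn
    rw [hx]
    exact M.mul_mem hm (hLM.le (h ⟨hh0, h1⟩))
  have hrq : r ≠ q := by
    rintro rfl
    have := Fact.mk hr
    apply hSL
    refine le_trans (inf_le_inf_left H ?_) hHC
    set π := QuotientGroup.mk' L with hπ
    have hker : π.ker = L := QuotientGroup.ker_mk' L
    have hsurj : Function.Surjective π := QuotientGroup.mk'_surjective L
    have hP : IsPGroup r (N.map π) := by
      apply IsPGroup.of_card (n := k + j)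
      rw [← Subgroup.relIndex_ker, hker, ← Subgroup.relIndex_mul_relIndex L M N hLM.le hMN.le, hqk, hrj,
        pow_add]
    have hnil : Group.IsNilpotent (N.map π) := hP.isNilpotent
    have hMn' : (M.map π).Normal := hMn.map π hsurj
    have hNn' : (N.map π).Normal := hNn.map π hsurj
    have h1 : (M.map π).subgroupOf (N.map π) ≠ ⊥ := by
      intro h
      rw [Subgroup.subgroupOf_eq_bot, disjoint_iff, inf_eq_left.mpr (Subgroup.map_mono hMN.le),
        Subgroup.map_eq_bot_iff, hker] at h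
      exact hLM.not_ge h
    have h2 := Cfsg.Agent.Solv.inf_center_ne_bot_of_nilpotent ((M.map π).subgroupOf (N.map π)) h1
    set Z := M.map π ⊓ Subgroup.centralizer ((N.map π : Subgroup (G ⧸ L)) : Set (G ⧸ L)) with hZ
    have hZne : Z ≠ ⊥ := by
      obtain ⟨⟨x, hx1, hx2⟩, hxne⟩ := Subgroup.ne_bot_iff_exists_ne_one.mp h2
      intro hb
      apply hxne
      have h3 : ((x : N.map π) : G ⧸ L) ∈ Z := by
        refine ⟨hx1, Subgroup.mem_centralizer_iff.mpr ?_⟩
        intro y hy
        exact congrArg Subtype.val (Subgroup.mem_center_iff.mp hx2 ⟨y, hy⟩)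
      rw [hb, Subgroup.mem_bot] at h3
      ext
      exact h3
    have hZn : Z.Normal := by
      rw [hZ]; infer_instance
    have hZM : Z.comap π ≤ M := by
      have h4 := Subgroup.comap_mono (f := π) (inf_le_left : Z ≤ M.map π)
      rw [Subgroup.comap_map_eq, hker, sup_eq_left.mpr hLM.le] at h4
      exact h4
    have hLZ : L ≤ Z.comap π := by
      have h := Subgroup.comap_mono (f := π) (bot_le : ⊥ ≤ Z)
      rw [MonoidHom.comap_bot, hker] at h
      exact h
    have h3 : (Z.comap π).map π = Z := Subgroup.map_comap_eq_self_of_surjective hsurj Z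
    rcases hMchief (Z.comap π) (hZn.comap π) hLZ hZM with h | h
    · exfalso
      apply hZne
      rw [← h3, h, Subgroup.map_eq_bot_iff, hker]
    · intro x hx
      rw [centMod, Subgroup.mem_comap, Subgroup.mem_centralizer_iff]
      intro y hy
      have h5 : y ∈ Z := by
        rw [← h3, h]; exact hy
      exact (Subgroup.mem_centralizer_iff.mp h5.2 (π x) ⟨x, hx, rfl⟩).symm
  -- restriction to N
  obtain ⟨ν, e', hν, heν⟩ := hhom N hNn (hLM.le.trans hMN.le)
  have hχne : χ 1 ≠ 0 := irr_one_ne_zero hind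
  have he'0 : e' ≠ 0 := by
    rintro rfl
    have h1 := congrFun heν 1
    simp only [Nat.cast_zero, zero_smul, Pi.zero_apply] at h1
    exact hχne h1
  have he'c : (e' : ℂ) ≠ 0 := by exact_mod_cast he'0
  have hec : (e : ℂ) ≠ 0 := by exact_mod_cast he0
  have hνinv : ∀ g : G, cj N g ν = ν := by
    intro g
    have h1 := cj_restrict N g hχcf
    rw [heν, cj_smul] at h1
    exact smul_right_injective _ he'c h1
  have hχM : (fun m : M => χ m) = (e' : ℂ) • (fun x : M => ν ⟨(x : G), hMN.le x.2⟩) := by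
    funext m
    exact congrFun heν ⟨(m : G), hMN.le m.2⟩
  have hνM : IsIrrCharacter M (fun x : M => ν ⟨(x : G), hMN.le x.2⟩) ∧ e' = e := by
    rcases going_down_chief N M hMN.le hNchief hNab hν hνinv with
      h1 | ⟨φ'', e'', hφ'', hφe, hee⟩ | ⟨F, hF, hFc, hFs⟩
    · refine ⟨h1, ?_⟩
      rw [heμ] at hχM
      exact (smul_irr_inj hμ h1 he0 hχM).2.symm
    · exfalso
      rw [hφe, smul_smul, heμ] at hχM
      have h1 : e = e' * e'' := (smul_irr_inj (b := e' * e'') hμ hφ'' he0 (by
        rw [hχM]; push_cast; rfl)).2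
      have h2 : r ∣ q ^ k := by
        rw [← hqk, ← hidx', ← ht, ← het, h1, mul_pow, hee, hrj]
        exact dvd_mul_of_dvd_right (dvd_pow_self r hj) _
      exact hrq ((Nat.prime_dvd_prime_iff_eq hr hq).mp (hr.dvd_of_dvd_pow h2))
    · exfalso
      rw [hFs, heμ] at hχM
      have key : ∀ ψ ∈ F, μ = ψ := by
        intro ψ hψ
        by_contra hne
        have h1 : classInner ((e' : ℂ) • ∑ φ ∈ F, φ) ψ = e' := by
          rw [classInner_smul_left, classInner_sum_left, Finset.sum_eq_single ψ,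
            classInner_self_of_irr (hF ψ hψ), mul_one]
          · intro ξ hξ hne'
            exact classInner_eq_zero_of_irr_ne (hF ξ hξ) (hF ψ hψ) hne'
          · intro h; exact absurd hψ h
        rw [← hχM, classInner_smul_left, classInner_eq_zero_of_irr_ne hμ (hF ψ hψ) hne, mul_zero] at h1
        exact he'c h1.symm
      have h2 : F.card ≤ 1 := by
        rw [Finset.card_le_one]
        intro a ha b hb
        rw [← key a ha, ← key b hb]
      rw [hFc] at h2
      have h3 : M.relIndex N ≠ 1 := by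
        intro h4
        exact hMN.not_ge (Subgroup.relIndex_eq_one.mp h4)
      have h4 : M.relIndex N ≠ 0 := (Subgroup.index_ne_zero_of_finite (H := M.subgroupOf N))
      omega
  obtain ⟨hνM, hee'⟩ := hνM
  rw [hee'] at heν
  -- Mackey
  have hsupN : H ⊔ N = ⊤ := by
    rw [eq_top_iff, ← hsup]
    exact sup_le_sup_left hMN.le H
  have := Fintype.ofFinite (H.subgroupOf N)
  set θS : H.subgroupOf N → ℂ := fun s => θ ⟨((s : N) : G), s.2⟩ with hθS
  have hmack : (fun n : N => χ n) = indFun (H.subgroupOf N) θS := by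
    rw [hχdef]
    exact indFun_restrict_of_sup hsupN hθcf
  let ιS : H.subgroupOf N →* H :=
    { toFun := fun s => ⟨((s : N) : G), s.2⟩
      map_one' := rfl
      map_mul' := fun _ _ => rfl }
  have hθSc : IsCharacter (H.subgroupOf N) θS := isCharacter_comp hθc ιS
  let ιL : L →* H.subgroupOf N :=
    { toFun := fun x => ⟨⟨(x : G), (hLM.le.trans hMN.le) x.2⟩, hLH x.2⟩
      map_one' := rfl
      map_mul' := fun _ _ => rfl }
  have hθSirr : IsIrrCharacter (H.subgroupOf N) θS := isIrr_of_comp ιL hθSc hθL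
  have hνcf := isClassFunction_of_isCharacter (isCharacter_of_isIrr hν)
  have hmult : classInner (fun s : H.subgroupOf N => ν s) θS = (e : ℕ) := by
    rw [← frobenius_reciprocity' (H.subgroupOf N) θS ν hνcf, ← hmack, heν, classInner_smul_right,
      classInner_self_of_irr hν]
    simp
  have hχ1' : χ 1 = e * ν 1 := congrFun heν 1
  have hdeg : ν 1 = e * θ 1 := by
    rw [hχ1] at hχ1'
    have h1 : (t : ℂ) = (e : ℂ) * e := by rw [← het]; push_cast; ring
    rw [h1, mul_assoc] at hχ1'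
    exact (mul_left_cancel₀ hec hχ1').symm
  have hνS : (fun s : H.subgroupOf N => ν s) = (e : ℂ) • θS :=
    eq_smul_of_degree (isCharacter_restrict (isCharacter_of_isIrr hν) _) hθSirr hmult hdeg
  -- the final argument
  apply hSL
  intro s hs
  have hsN : s ∈ N := hs.2
  have hsH : s ∈ H := hs.1
  have A1 := coset_sq hMN.le hν hνM ⟨s, hsN⟩
  have A2 := coset_sq hLH hθ hθL ⟨s, hsH⟩
  have B1 : ∀ m : M, Complex.normSq (χ ((m : G) * s))
      = (e : ℝ) ^ 2 * Complex.normSq (ν (⟨(m : G), hMN.le m.2⟩ * ⟨s, hsN⟩)) := by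
    intro m
    have h1 : χ ((m : G) * s) = (e : ℂ) * ν (⟨(m : G), hMN.le m.2⟩ * ⟨s, hsN⟩) :=
      congrFun heν (⟨(m : G), hMN.le m.2⟩ * ⟨s, hsN⟩)
    rw [h1, Complex.normSq_mul, Complex.normSq_natCast]
    ring
  have B2 : ∀ l : L, Complex.normSq (χ ((l : G) * s))
      = (e : ℝ) ^ 4 * Complex.normSq (θ (⟨(l : G), hLH l.2⟩ * ⟨s, hsH⟩)) := by
    intro l
    have h1 : χ ((l : G) * s) = (e : ℂ) * ν (⟨(l : G), (hLM.le.trans hMN.le) l.2⟩ * ⟨s, hsN⟩) :=
      congrFun heν (⟨(l : G), (hLM.le.trans hMN.le) l.2⟩ * ⟨s, hsN⟩)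
    have h2 : ν (⟨(l : G), (hLM.le.trans hMN.le) l.2⟩ * ⟨s, hsN⟩)
        = (e : ℂ) * θ (⟨(l : G), hLH l.2⟩ * ⟨s, hsH⟩) :=
      congrFun hνS (⟨⟨(l : G), (hLM.le.trans hMN.le) l.2⟩ * ⟨s, hsN⟩, H.mul_mem (hLH l.2) hsH⟩ :
        H.subgroupOf N)
    rw [h1, h2, Complex.normSq_mul, Complex.normSq_mul, Complex.normSq_natCast]
    ring
  have C1 : ∑ m : M, Complex.normSq (χ ((m : G) * s)) = (e : ℝ) ^ 2 * Nat.card M := by
    rw [Finset.sum_congr rfl fun m _ => B1 m, ← Finset.mul_sum, A1]
  have C2 : ∑ l : L, Complex.normSq (χ ((l : G) * s)) = (e : ℝ) ^ 4 * Nat.card L := by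
    rw [Finset.sum_congr rfl fun m _ => B2 m, ← Finset.mul_sum, A2]
  have hMr : (Nat.card M : ℝ) = (e : ℝ) ^ 2 * Nat.card L := by
    rw [← hidx, ← ht, ← het]; push_cast; ring
  have C3 : ∑ m : M, Complex.normSq (χ ((m : G) * s)) = ∑ l : L, Complex.normSq (χ ((l : G) * s)) := by
    rw [C1, C2, hMr]; ring
  have D : ∀ m ∈ M, m ∉ L → χ (m * s) = 0 := by
    intro m hm hmL
    exact Complex.normSq_eq_zero.mp (vanish_of_sum_eq hLM.le (fun g => Complex.normSq (χ (g * s)))
      (fun g => Complex.normSq_nonneg _) C3 hm hmL)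
  have hLr : (Nat.card L : ℝ) ≠ 0 := by
    have : Nat.card L ≠ 0 := Nat.card_pos.ne'
    exact_mod_cast this
  have her : (e : ℝ) ≠ 0 := by exact_mod_cast he0
  obtain ⟨l, hl⟩ : ∃ l : L, χ ((l : G) * s) ≠ 0 := by
    by_contra hcon
    push Not at hcon
    have h1 : ∑ l : L, Complex.normSq (χ ((l : G) * s)) = 0 :=
      Finset.sum_eq_zero fun l _ => by rw [hcon l, map_zero]
    rw [C2] at h1
    exact (mul_ne_zero (pow_ne_zero 4 her) hLr) h1
  have hs' : (l : G) * s ∈ H ⊓ centMod L M := by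
    refine ⟨H.mul_mem (hLH l.2) hsH, mem_centMod.mpr ?_⟩
    intro m hm
    by_contra hc
    apply hl
    have h1 : χ (m * ((l : G) * s) * m⁻¹) = χ ((l : G) * s) := hχcf _ _
    rw [← h1]
    have h2 : m * ((l : G) * s) * m⁻¹ = (m * ((l : G) * s) * m⁻¹ * ((l : G) * s)⁻¹ * l) * s := by group
    rw [h2]
    apply D
    · apply M.mul_mem _ (hLM.le l.2)
      have h3 : m * ((l : G) * s) * m⁻¹ * ((l : G) * s)⁻¹
          = m * (((l : G) * s) * m⁻¹ * ((l : G) * s)⁻¹) := by group
      rw [h3]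
      exact M.mul_mem hm (hMn.conj_mem _ (M.inv_mem hm) _)
    · intro h4
      exact hc ((Subgroup.mul_mem_cancel_right L l.2).mp h4)
  have h1 := hHC hs'
  exact (Subgroup.mul_mem_cancel_left L l.2).mp h1

end Core

end Cfsg.Agent.Char.BG
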