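import Cfsg.Agent.Char.AvgN
import Cfsg.Agent.Char.Gallagher
import Cfsg.Agent.Char.CentralChar
import Cfsg.Agent.S0187
import Cfsg.Agent.Char.BurnsideClass

/-!
# An inequality of Feit and Thompson (owner: helper15)
-/

set_option autoImplicit false

namespace Cfsg.Agent.Char.FTI

open Cfsg Cfsg.Agent.Char Cfsg.Agent.CharBase
open scoped ComplexConjugate

universe u

section

variable {G : Type u} [Group G] [Fintype G]

theorem sum_mem_eq (K : Subgroup G) [Fintype K] (f : G → ℝ) [DecidablePred (· ∈ K)] :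
    ∑ x : K, f x = ∑ g : G, if g ∈ K then f g else 0 := by
  classical
  rw [← Finset.sum_filter, ← Finset.sum_subtype_of_mem f (p := fun g => g ∈ K)
    (fun x hx => (Finset.mem_filter.mp hx).2)]
  refine Finset.sum_congr ?_ fun _ _ => rfl
  ext x
  simp [Finset.mem_subtype, x.2]

/-- The averaging operator is self-adjoint. -/
theorem classInner_avgN (N : Subgroup G) [Fintype N] (f g : G → ℂ) :
    classInner (avgN N f) g = classInner f (avgN N g) := by
  simp only [classInner, avgN_apply, map_mul, map_inv₀, map_sum, Complex.conj_natCast]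
  congr 1
  have h1 : ∀ x : G, ((Nat.card N : ℂ)⁻¹ * ∑ n : N, f ((n : G) * x)) * conj (g x)
      = (Nat.card N : ℂ)⁻¹ * ∑ n : N, f ((n : G) * x) * conj (g x) := by
    intro x; rw [mul_assoc, Finset.sum_mul]
  have h2 : ∀ x : G, f x * ((Nat.card N : ℂ)⁻¹ * ∑ n : N, conj (g ((n : G) * x)))
      = (Nat.card N : ℂ)⁻¹ * ∑ n : N, f x * conj (g ((n : G) * x)) := by
    intro x; rw [Finset.mul_sum, Finset.mul_sum, Finset.mul_sum]
    refine Finset.sum_congr rfl fun n _ => by ring
  rw [Finset.sum_congr rfl fun x _ => h1 x, Finset.sum_congr rfl fun x _ => h2 x, ← Finset.mul_sum,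
    ← Finset.mul_sum, Finset.sum_comm]
  congr 1
  conv_rhs => rw [Finset.sum_comm]
  rw [← Equiv.sum_comp (Equiv.inv N)]
  refine Finset.sum_congr rfl fun n _ => ?_
  rw [← Equiv.sum_comp (Equiv.mulLeft (n : G))]
  refine Finset.sum_congr rfl fun x _ => ?_
  simp

/-- Parseval for the averaging operator. -/
theorem classInner_sub_avgN (N : Subgroup G) [Fintype N] (f : G → ℂ) :
    classInner (f - avgN N f) (f - avgN N f) = classInner f f - classInner (avgN N f) (avgN N f) := by
  have h1 : classInner (avgN N f) f = classInner (avgN N f) (avgN N f) := by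
    rw [classInner_avgN N (avgN N f) f |>.symm.trans (by rw [avgN_avgN])]
  have h2 : classInner f (avgN N f) = classInner (avgN N f) (avgN N f) := by
    rw [← classInner_avgN, h1]
  rw [classInner_sub_left, classInner_sub_right, classInner_sub_right, h1, h2]
  ring

/-- The setting of the inequality. -/
theorem part1 (H : Subgroup G) [Fintype H] (hab : ∀ a ∈ H, ∀ b ∈ H, a * b = b * a)
    (hZ : H ⊓ Subgroup.center G = ⊥)
    (hone : ∀ g : G, g ∉ Subgroup.center G → ∀ a b : G,
      Subgroup.centralizer ({g} : Set G) ⊓ H.map (MulAut.conj a).toMonoidHom ≠ ⊥ →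
      Subgroup.centralizer ({g} : Set G) ⊓ H.map (MulAut.conj b).toMonoidHom ≠ ⊥ →
      H.map (MulAut.conj a).toMonoidHom = H.map (MulAut.conj b).toMonoidHom)
    {χ : G → ℂ} (hχ : IsIrrCharacter G χ) (hker : ∃ h ∈ H, χ h ≠ χ 1) :
    (χ 1).re ^ 2 > (Nat.card H : ℝ) * (classInner (fun h : H => χ h) (fun _ => 1)).re ^ 2 := by
  classical
  have hχc := isCharacter_of_isIrr hχ
  have hχcf := isClassFunction_of_isCharacter hχc
  obtain ⟨d, hd⟩ := exists_nat_degree hχc
  obtain ⟨c, hc⟩ := classInner_natCast (isCharacter_restrict hχc H) (isCharacter_one (G := H))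
  obtain ⟨h0, hh0, hh0χ⟩ := hker
  have hh01 : h0 ≠ 1 := by rintro rfl; exact hh0χ rfl
  rw [hc, hd, Complex.natCast_re, Complex.natCast_re]
  have hd0 : d ≠ 0 := by
    rintro rfl
    exact irr_one_ne_zero hχ (by rw [hd, Nat.cast_zero])
  -- `mem` facts for conjugates
  have hmemconj : ∀ a x : G, x ∈ H.map (MulAut.conj a).toMonoidHom ↔ a⁻¹ * x * a ∈ H := by
    intro a x
    constructor
    · rintro ⟨y, hy, rfl⟩
      have : a⁻¹ * ((MulAut.conj a).toMonoidHom y) * a = y := by
        simp only [MulEquiv.coe_toMonoidHom, MulAut.conj_apply]; group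
      rw [this]; exact hy
    · intro h
      refine ⟨_, h, ?_⟩
      simp only [MulEquiv.coe_toMonoidHom, MulAut.conj_apply]; group
  have hmap1 : H.map (MulAut.conj (1 : G)).toMonoidHom = H := by
    ext x
    rw [hmemconj]; simp
  obtain ⟨N, hN⟩ : ∃ N : Subgroup G, N = Subgroup.normalizer (H : Set G) := ⟨_, rfl⟩
  have hHN : H ≤ N := by rw [hN]; exact Subgroup.le_normalizer
  have hmemN : ∀ a : G, H.map (MulAut.conj a).toMonoidHom = H → a ∈ N := by
    intro a ha
    rw [hN, Subgroup.mem_normalizer_iff]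
    intro x
    constructor
    · intro hx
      have h1 : a * x * a⁻¹ ∈ H.map (MulAut.conj a).toMonoidHom := by
        rw [hmemconj]
        have : a⁻¹ * (a * x * a⁻¹) * a = x := by group
        rw [this]; exact hx
      rw [ha] at h1; exact h1
    · intro hx
      have h1 : a * x * a⁻¹ ∈ H.map (MulAut.conj a).toMonoidHom := by rw [ha]; exact hx
      rw [hmemconj] at h1
      have h2 : a⁻¹ * (a * x * a⁻¹) * a = x := by group
      rwa [h2] at h1
  have := Fintype.ofFinite N
  have hHn : (H.subgroupOf N).Normal := by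
    constructor
    intro x hx g
    have h0 : ∀ a : G, a ∈ N → a ∈ Subgroup.normalizer (H : Set G) := fun a ha => by rw [← hN]; exact ha
    exact (Subgroup.mem_normalizer_iff.mp (h0 g g.2) x).mp hx
  have := Fintype.ofFinite (H.subgroupOf N)
  -- centralizers of nontrivial elements of `H`
  have hcent : ∀ h ∈ H, h ≠ 1 → ∀ g : G, g * h = h * g → g ∈ N := by
    intro h hh h1 g hgh
    have hhZ : h ∉ Subgroup.center G := by
      intro hc
      have : h ∈ H ⊓ Subgroup.center G := ⟨hh, hc⟩
      rw [hZ, Subgroup.mem_bot] at this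
      exact h1 this
    have e1 : h ∈ Subgroup.centralizer ({h} : Set G) := Subgroup.mem_centralizer_singleton_iff.mpr rfl
    apply hmemN
    rw [← hmap1]
    conv_lhs => rw [hmap1]
    apply hone h hhZ
    · intro hb
      have h2 : h ∈ Subgroup.centralizer ({h} : Set G) ⊓ H.map (MulAut.conj g).toMonoidHom := by
        refine ⟨e1, (hmemconj g h).mpr ?_⟩
        have : g⁻¹ * h * g = h := by rw [mul_assoc, ← hgh, inv_mul_cancel_left]
        rw [this]; exact hh
      rw [hb, Subgroup.mem_bot] at h2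
      exact h1 h2
    · intro hb
      have h2 : h ∈ Subgroup.centralizer ({h} : Set G) ⊓ H.map (MulAut.conj (1 : G)).toMonoidHom := by
        refine ⟨e1, (hmemconj 1 h).mpr (by simpa using hh)⟩
      rw [hb, Subgroup.mem_bot] at h2
      exact h1 h2
  -- the set of elements commuting with something in `H`
  obtain ⟨C, hC⟩ : ∃ C : G → Prop, ∀ g, C g ↔ ∃ h ∈ H, h ≠ 1 ∧ g * h = h * g := ⟨_, fun _ => Iff.rfl⟩
  have hCN : ∀ g, C g → g ∈ N := by
    intro g hg
    obtain ⟨h, hh, h1, h2⟩ := (hC g).mp hg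
    exact hcent h hh h1 g h2
  have hZC : ∀ z ∈ Subgroup.center G, C z := fun z hz =>
    (hC z).mpr ⟨h0, hh0, hh01, (Subgroup.mem_center_iff.mp hz h0).symm⟩
  -- the average
  obtain ⟨A, hA⟩ : ∃ A : G → ℂ, A = avgN H χ := ⟨_, rfl⟩
  have hAapp : ∀ g, A g = (Nat.card H : ℂ)⁻¹ * ∑ k : H, χ ((k : G) * g) := fun g => by rw [hA, avgN_apply]
  have hA1 : A 1 = c := by rw [hA, avgN_one_apply, hc]
  have hAN : ∀ n : N, avgN (H.subgroupOf N) (fun n : N => χ n) n = A n := by
    intro n
    rw [hAapp, avgN_apply, Nat.card_congr (Subgroup.subgroupOfEquivOfLe hHN).toEquiv]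
    congr 1
    exact Equiv.sum_comp (Subgroup.subgroupOfEquivOfLe hHN).toEquiv (fun k : H => χ ((k : G) * n))
  have hHc := card_ne_zero_complex H
  have hAoff : ∀ g ∈ N, ¬ C g → A g = χ g := by
    intro g hg hCg
    have hmem : ∀ k : H, (k : G) * (g * (k : G)⁻¹ * g⁻¹) ∈ H := by
      intro k
      have h1 : g ∈ Subgroup.normalizer (H : Set G) := by rw [← hN]; exact hg
      exact H.mul_mem k.2 ((Subgroup.mem_normalizer_iff.mp h1 _).mp (H.inv_mem k.2))
    let ψ : H → H := fun k => ⟨(k : G) * (g * (k : G)⁻¹ * g⁻¹), hmem k⟩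
    have hψ : Function.Surjective ψ := by
      rw [← Finite.injective_iff_surjective]
      intro k l hkl
      have h1 : (k : G) * (g * (k : G)⁻¹ * g⁻¹) = (l : G) * (g * (l : G)⁻¹ * g⁻¹) := congrArg Subtype.val hkl
      by_contra hne
      apply hCg
      rw [hC]
      refine ⟨(l : G)⁻¹ * k, H.mul_mem (H.inv_mem l.2) k.2, ?_, ?_⟩
      · intro h2
        apply hne
        apply Subtype.ext
        exact (inv_mul_eq_one.mp h2).symm
      · have h2 : (l : G)⁻¹ * ((k : G) * (g * (k : G)⁻¹ * g⁻¹)) * (g * k)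
            = (l : G)⁻¹ * ((l : G) * (g * (l : G)⁻¹ * g⁻¹)) * (g * k) := by rw [h1]
        have h3 : (l : G)⁻¹ * ((k : G) * (g * (k : G)⁻¹ * g⁻¹)) * (g * k) = (l : G)⁻¹ * k * g := by group
        have h4 : (l : G)⁻¹ * ((l : G) * (g * (l : G)⁻¹ * g⁻¹)) * (g * k) = g * ((l : G)⁻¹ * k) := by group
        rw [h3, h4] at h2
        exact h2.symm
    have h1 : ∀ k : H, χ ((k : G) * g) = χ g := by
      intro k
      obtain ⟨l, rfl⟩ := hψ k
      change χ ((l : G) * (g * (l : G)⁻¹ * g⁻¹) * g) = χ g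
      have h2 : (l : G) * (g * (l : G)⁻¹ * g⁻¹) * g = (l : G) * g * (l : G)⁻¹ := by group
      rw [h2]
      exact hχcf g l
    rw [hAapp, Finset.sum_congr rfl fun k _ => h1 k, Finset.sum_const, Finset.card_univ, nsmul_eq_mul,
      ← Nat.card_eq_fintype_card, ← mul_assoc, inv_mul_cancel₀ hHc, one_mul]
  -- norms of characters
  have hnormle : ∀ g, ‖χ g‖ ≤ d := by
    intro g
    obtain ⟨n, hn, hle⟩ := norm_le_of_isCharacter hχc g
    rw [hd] at hn
    have : d = n := by exact_mod_cast hn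
    rw [this]; exact hle
  have hcd : (c : ℝ) ≠ d := by
    intro hcd
    have h1 : ∑ k : H, ((d : ℝ) - (χ k).re) = 0 := by
      have h2 := hc
      simp only [classInner, map_one, mul_one] at h2
      have h3 : ∑ k : H, χ k = (Nat.card H : ℂ) * c := by
        rw [← h2, ← mul_assoc, mul_inv_cancel₀ hHc, one_mul]
      have h4 : ∑ k : H, (χ k).re = (Nat.card H : ℝ) * c := by
        rw [← Complex.re_sum, h3]
        simp
      rw [Finset.sum_sub_distrib, h4, Finset.sum_const, Finset.card_univ, nsmul_eq_mul,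
        ← Nat.card_eq_fintype_card, hcd]
      ring
    have h2 : ∀ k : H, 0 ≤ (d : ℝ) - (χ k).re := fun k => by
      have := (Complex.re_le_norm (χ k)).trans (hnormle k)
      linarith
    have h3 := (Finset.sum_eq_zero_iff_of_nonneg (fun k _ => h2 k)).mp h1 ⟨h0, hh0⟩ (Finset.mem_univ _)
    simp only at h3
    have h4 : (χ h0).re = d := by linarith
    have h5 := hnormle h0
    have h6 : Complex.normSq (χ h0) ≤ (d : ℝ) ^ 2 := by
      rw [Complex.normSq_eq_norm_sq]
      exact pow_le_pow_left₀ (norm_nonneg _) h5 2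
    rw [Complex.normSq_apply, h4] at h6
    have h7 : (χ h0).im = 0 := by nlinarith [mul_self_nonneg (χ h0).im]
    apply hh0χ
    rw [hd]
    apply Complex.ext
    · rw [h4, Complex.natCast_re]
    · rw [h7, Complex.natCast_im]
  -- sums over `N`
  have hself : ∀ f : N → ℂ, classInner f f = (Nat.card N : ℂ)⁻¹ * ((∑ n : N, Complex.normSq (f n) : ℝ) : ℂ) := by
    intro f
    unfold classInner
    congr 1
    push_cast
    exact Finset.sum_congr rfl fun n _ => Complex.mul_conj _
  have hNc := card_ne_zero_complex N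
  have hNr : (0 : ℝ) < Nat.card N := by exact_mod_cast Nat.card_pos
  have hSB : (Nat.card N : ℝ) ≤ ∑ n : N, Complex.normSq (χ n) - ∑ n : N, Complex.normSq (A n) := by
    have h1 := classInner_sub_avgN (H.subgroupOf N) (fun n : N => χ n)
    have h2 : avgN (H.subgroupOf N) (fun n : N => χ n) = fun n : N => A n := funext hAN
    obtain ⟨a, ha⟩ := classInner_natCast (isCharacter_restrict hχc N) (isCharacter_restrict hχc N)
    obtain ⟨b, hb⟩ := classInner_natCast (avgN_isCharacter (H.subgroupOf N) (isCharacter_restrict hχc N))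
      (avgN_isCharacter (H.subgroupOf N) (isCharacter_restrict hχc N))
    rw [h2] at h1 hb
    rw [ha, hb, hself] at h1
    rw [hself] at ha hb
    have ha' : ∑ n : N, Complex.normSq (χ n) = Nat.card N * a := by
      have h3 : ((∑ n : N, Complex.normSq (χ n) : ℝ) : ℂ) = Nat.card N * a := by
        rw [← ha, ← mul_assoc, mul_inv_cancel₀ hNc, one_mul]
      exact_mod_cast h3
    have hb' : ∑ n : N, Complex.normSq (A n) = Nat.card N * b := by
      have h3 : ((∑ n : N, Complex.normSq (A n) : ℝ) : ℂ) = Nat.card N * b := by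
        rw [← hb, ← mul_assoc, mul_inv_cancel₀ hNc, one_mul]
      exact_mod_cast h3
    have hpos : 0 < ∑ n : N, Complex.normSq (((fun n : N => χ n) - fun n : N => A n) n) := by
      apply Finset.sum_pos' (fun n _ => Complex.normSq_nonneg _)
      refine ⟨1, Finset.mem_univ _, Complex.normSq_pos.mpr ?_⟩
      simp only [Pi.sub_apply, OneMemClass.coe_one, hA1, hd]
      intro h3
      apply hcd
      have h4 := sub_eq_zero.mp h3
      exact_mod_cast h4.symm
    have h3 : (∑ n : N, Complex.normSq (((fun n : N => χ n) - fun n : N => A n) n)) = Nat.card N * ((a : ℝ) - b) := by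
      have h4 : ((∑ n : N, Complex.normSq (((fun n : N => χ n) - fun n : N => A n) n) : ℝ) : ℂ)
          = Nat.card N * ((a : ℂ) - b) := by
        rw [← h1, ← mul_assoc, mul_inv_cancel₀ hNc, one_mul]
      exact_mod_cast h4
    rw [h3] at hpos
    have h5 : (0 : ℝ) < (a : ℝ) - b := (mul_pos_iff_of_pos_left hNr).mp hpos
    have h6 : b < a := by
      have : (b : ℝ) < a := by linarith
      exact_mod_cast this
    have h7 : (b : ℝ) + 1 ≤ a := by exact_mod_cast h6
    rw [ha', hb', ← mul_sub]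
    nlinarith
  -- everything as sums over `G`
  let sq : G → ℝ := fun g => Complex.normSq (χ g)
  let sqA : G → ℝ := fun g => Complex.normSq (A g)
  have hsq0 : ∀ g, 0 ≤ sq g := fun g => Complex.normSq_nonneg _
  have hsqA0 : ∀ g, 0 ≤ sqA g := fun g => Complex.normSq_nonneg _
  have hSN : ∑ n : N, Complex.normSq (χ n) = ∑ g : G, if g ∈ N then sq g else 0 := sum_mem_eq N sq
  have hSNA : ∑ n : N, Complex.normSq (A n) = ∑ g : G, if g ∈ N then sqA g else 0 := sum_mem_eq N sqA
  have hSC : ∑ g : G, (if C g then sq g else 0) - ∑ g : G, (if C g then sqA g else 0)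
      = ∑ n : N, Complex.normSq (χ n) - ∑ n : N, Complex.normSq (A n) := by
    rw [hSN, hSNA, ← Finset.sum_sub_distrib, ← Finset.sum_sub_distrib]
    refine Finset.sum_congr rfl fun g _ => ?_
    by_cases hg : g ∈ N
    · by_cases hCg : C g
      · rw [if_pos hCg, if_pos hCg, if_pos hg, if_pos hg]
      · rw [if_neg hCg, if_neg hCg, if_pos hg, if_pos hg]
        simp only [sq, sqA]
        rw [hAoff g hg hCg, sub_self, sub_self]
    · have hCg : ¬ C g := fun h => hg (hCN g h)
      rw [if_neg hCg, if_neg hCg, if_neg hg, if_neg hg]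
  have hsqZ : ∀ z ∈ Subgroup.center G, sq z = (d : ℝ) ^ 2 := by
    intro z hz
    obtain ⟨l, hl, -, hlx⟩ := Cfsg.Agent.Char.CC.exists_scalar hχ z hz
    have h1 := hlx 1
    rw [mul_one] at h1
    simp only [sq]
    rw [h1, Complex.normSq_mul, Complex.normSq_eq_norm_sq, hl, hd, Complex.normSq_natCast]
    ring
  have hsqAZ : ∀ h ∈ H, ∀ z ∈ Subgroup.center G, sqA (h * z) = (c : ℝ) ^ 2 := by
    intro h hh z hz
    obtain ⟨l, hl, -, hlx⟩ := Cfsg.Agent.Char.CC.exists_scalar hχ z hz
    have h1 : A (h * z) = l * c := by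
      have e1 : A (h * z) = A z := by rw [hA]; exact avgN_mul H χ ⟨h, hh⟩ z
      have e2 : ∑ k : H, χ ((k : G) * z) = l * ∑ k : H, χ ((k : G) * 1) := by
        rw [Finset.mul_sum]
        refine Finset.sum_congr rfl fun k _ => ?_
        rw [mul_one, ← hlx, Subgroup.mem_center_iff.mp hz]
      rw [e1, ← hA1, hAapp, hAapp, e2]
      ring
    simp only [sqA]
    rw [h1, Complex.normSq_mul, Complex.normSq_eq_norm_sq, hl, Complex.normSq_natCast]
    ring
  have hSCA : (Nat.card H : ℝ) * Nat.card (Subgroup.center G) * (c : ℝ) ^ 2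
      ≤ ∑ g : G, (if C g then sqA g else 0) := by
    have := Fintype.ofFinite (Subgroup.center G)
    let F : H × Subgroup.center G → G := fun q => (q.1 : G) * q.2
    have hF : Function.Injective F := by
      rintro ⟨a, z⟩ ⟨b, w⟩ h
      simp only [F] at h
      have h1 : (b : G)⁻¹ * a = w * (z : G)⁻¹ := by
        rw [inv_mul_eq_iff_eq_mul, ← mul_assoc, ← h, mul_assoc, mul_inv_cancel, mul_one]
      have h2 : (b : G)⁻¹ * a ∈ H ⊓ Subgroup.center G :=
        ⟨H.mul_mem (H.inv_mem b.2) a.2, by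
          rw [h1]; exact (Subgroup.center G).mul_mem w.2 ((Subgroup.center G).inv_mem z.2)⟩
      rw [hZ, Subgroup.mem_bot] at h2
      have h3 : (a : G) = b := (inv_mul_eq_one.mp h2).symm
      rw [h2] at h1
      have h4 : (w : G) = z := by
        rw [← mul_inv_eq_one]; exact h1.symm
      exact Prod.ext (Subtype.ext h3) (Subtype.ext h4.symm)
    have h1 : ∑ g ∈ Finset.univ.image F, (if C g then sqA g else 0)
        = (Nat.card H : ℝ) * Nat.card (Subgroup.center G) * (c : ℝ) ^ 2 := by
      rw [Finset.sum_image (fun _ _ _ _ h => hF h)]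
      have h2 : ∀ q : H × Subgroup.center G, (if C (F q) then sqA (F q) else 0) = (c : ℝ) ^ 2 := by
        intro q
        have h3 : C (F q) := by
          rw [hC]
          refine ⟨h0, hh0, hh01, ?_⟩
          simp only [F]
          rw [mul_assoc, ← Subgroup.mem_center_iff.mp q.2.2 h0, ← mul_assoc, hab _ q.1.2 _ hh0, mul_assoc]
        rw [if_pos h3]
        exact hsqAZ _ q.1.2 _ q.2.2
      rw [Finset.sum_congr rfl fun q _ => h2 q, Finset.sum_const, Finset.card_univ, nsmul_eq_mul,
        Fintype.card_prod, ← Nat.card_eq_fintype_card, ← Nat.card_eq_fintype_card]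
      push_cast
      ring
    rw [← h1]
    apply Finset.sum_le_sum_of_subset_of_nonneg (Finset.subset_univ _)
    intro g _ _
    split_ifs
    · exact hsqA0 g
    · exact le_rfl
  obtain ⟨D, hD⟩ : ∃ D : G → Prop, ∀ g, D g ↔ C g ∧ g ∉ Subgroup.center G := ⟨_, fun _ => Iff.rfl⟩
  have hZs : (Nat.card (Subgroup.center G) : ℝ) * (d : ℝ) ^ 2
      = ∑ g : G, if g ∈ Subgroup.center G then sq g else 0 := by
    have := Fintype.ofFinite (Subgroup.center G)
    rw [← sum_mem_eq (Subgroup.center G) sq]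
    have e1 : ∀ z : Subgroup.center G, sq (z : G) = (d : ℝ) ^ 2 := fun z => hsqZ z z.2
    rw [Finset.sum_congr rfl fun z _ => e1 z, Finset.sum_const, Finset.card_univ,
        nsmul_eq_mul, Nat.card_eq_fintype_card]
  have hSCD : ∑ g : G, (if C g then sq g else 0)
      = Nat.card (Subgroup.center G) * (d : ℝ) ^ 2 + ∑ g : G, (if D g then sq g else 0) := by
    have h1 := hZs
    rw [h1, ← Finset.sum_add_distrib]
    refine Finset.sum_congr rfl fun g _ => ?_
    by_cases hg : g ∈ Subgroup.center G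
    · rw [if_pos (hZC g hg), if_pos hg, if_neg (fun h => ((hD g).mp h).2 hg), add_zero]
    · by_cases hCg : C g
      · rw [if_pos hCg, if_neg hg, if_pos ((hD g).mpr ⟨hCg, hg⟩), zero_add]
      · rw [if_neg hCg, if_neg hg, if_neg (fun h => hCg ((hD g).mp h).1), add_zero]
  have hSnZ : ∑ g : G, (if g ∉ Subgroup.center G then sq g else 0)
      = Nat.card G - Nat.card (Subgroup.center G) * (d : ℝ) ^ 2 := by
    have h1 := hZs
    have h2 : (Nat.card G : ℝ) = ∑ g : G, sq g := by
      have h3 := classInner_self_of_irr hχ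
      have h4 : (Nat.card G : ℂ)⁻¹ * ((∑ g : G, sq g : ℝ) : ℂ) = 1 := by
        rw [← h3]
        unfold classInner
        congr 1
        push_cast
        exact Finset.sum_congr rfl fun n _ => (Complex.mul_conj _).symm
      have h5 := cardG_ne_zero_complex G
      have h6 : ((∑ g : G, sq g : ℝ) : ℂ) = Nat.card G := by
        field_simp at h4
        exact h4
      exact_mod_cast h6.symm
    rw [h1, h2, ← Finset.sum_sub_distrib]
    refine Finset.sum_congr rfl fun g _ => ?_
    by_cases hg : g ∈ Subgroup.center G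
    · rw [if_neg (not_not.mpr hg), if_pos hg, sub_self]
    · rw [if_pos hg, if_neg hg, sub_zero]
  have hDD : ∀ g x y : G, D (x⁻¹ * g * x) → D (y⁻¹ * g * y) → x⁻¹ * y ∈ N ∧ g ∉ Subgroup.center G := by
    intro g x y hx hy
    obtain ⟨hx1, hx2⟩ := (hD _).mp hx
    obtain ⟨hy1, -⟩ := (hD _).mp hy
    have hg : g ∉ Subgroup.center G := by
      intro h
      apply hx2
      have := (inferInstance : (Subgroup.center G).Normal).conj_mem g h x⁻¹
      simpa using this
    refine ⟨?_, hg⟩
    have key : ∀ z : G, C (z⁻¹ * g * z) →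
        Subgroup.centralizer ({g} : Set G) ⊓ H.map (MulAut.conj z).toMonoidHom ≠ ⊥ := by
      intro z hz hb
      obtain ⟨h, hh, h1, h2⟩ := (hC _).mp hz
      have h3 : z * h * z⁻¹ ∈ Subgroup.centralizer ({g} : Set G) ⊓ H.map (MulAut.conj z).toMonoidHom := by
        refine ⟨Subgroup.mem_centralizer_singleton_iff.mpr ?_, (hmemconj z _).mpr ?_⟩
        · have h4 : z * h * z⁻¹ * g = z * (h * (z⁻¹ * g * z)) * z⁻¹ := by group
          rw [h4, ← h2]; group
        · have h4 : z⁻¹ * (z * h * z⁻¹) * z = h := by group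
          rw [h4]; exact hh
      rw [hb, Subgroup.mem_bot] at h3
      apply h1
      have h4 : h = z⁻¹ * (z * h * z⁻¹) * z := by group
      rw [h4, h3]; group
    have heq := hone g hg x y (key x hx1) (key y hy1)
    apply hmemN
    ext a
    rw [hmemconj]
    have h1 : (x⁻¹ * y)⁻¹ * a * (x⁻¹ * y) = y⁻¹ * (x * a * x⁻¹) * y := by group
    rw [h1, ← hmemconj, ← heq, hmemconj]
    have h2 : x⁻¹ * (x * a * x⁻¹) * x = a := by group
    rw [h2]
  have hSD : (Nat.card G : ℝ) * ∑ g : G, (if D g then sq g else 0)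
      ≤ Nat.card N * (Nat.card G - Nat.card (Subgroup.center G) * (d : ℝ) ^ 2) := by
    rw [← hSnZ]
    have h1 : (Nat.card G : ℝ) * ∑ g : G, (if D g then sq g else 0)
        = ∑ g : G, ∑ x : G, (if D (x⁻¹ * g * x) then sq (x⁻¹ * g * x) else 0) := by
      rw [Finset.sum_comm]
      have h2 : ∀ x : G, ∑ g : G, (if D (x⁻¹ * g * x) then sq (x⁻¹ * g * x) else 0)
          = ∑ g : G, (if D g then sq g else 0) := by
        intro x
        refine Fintype.sum_equiv (MulAut.conj x⁻¹).toEquiv _ _ fun g => ?_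
        have h3 : (MulAut.conj x⁻¹).toEquiv g = x⁻¹ * g * x := by simp
        rw [h3]
      rw [Finset.sum_congr rfl fun x _ => h2 x, Finset.sum_const, Finset.card_univ, nsmul_eq_mul,
        Nat.card_eq_fintype_card]
    rw [h1, Finset.mul_sum]
    apply Finset.sum_le_sum
    intro g _
    have hsqc : ∀ x, sq (x⁻¹ * g * x) = sq g := by
      intro x
      simp only [sq]
      have := hχcf g x⁻¹
      rw [inv_inv] at this
      rw [this]
    by_cases hex : ∃ x, D (x⁻¹ * g * x)
    · obtain ⟨x, hx⟩ := hex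
      have hgZ := (hDD g x x hx hx).2
      rw [if_pos hgZ]
      have h2 : ∀ y : G, (if D (y⁻¹ * g * y) then sq (y⁻¹ * g * y) else 0) ≤ if x⁻¹ * y ∈ N then sq g else 0 := by
        intro y
        by_cases hy : D (y⁻¹ * g * y)
        · rw [if_pos hy, if_pos (hDD g x y hx hy).1, hsqc]
        · rw [if_neg hy]
          split_ifs
          · exact hsq0 g
          · exact le_rfl
      refine (Finset.sum_le_sum fun y _ => h2 y).trans (le_of_eq ?_)
      have h3 : ∑ y : G, (if x⁻¹ * y ∈ N then sq g else 0) = ∑ y : G, (if y ∈ N then sq g else 0) :=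
        Fintype.sum_equiv (Equiv.mulLeft x⁻¹) _ _ fun y => rfl
      rw [h3, ← sum_mem_eq N (fun _ => sq g), Finset.sum_const, Finset.card_univ, nsmul_eq_mul,
        Nat.card_eq_fintype_card]
    · push Not at hex
      rw [Finset.sum_eq_zero (fun y _ => if_neg (hex y))]
      apply mul_nonneg hNr.le
      split_ifs
      · exact le_rfl
      · exact hsq0 g
  have hGr : (0 : ℝ) < Nat.card G := by exact_mod_cast Nat.card_pos
  have hZr : (0 : ℝ) < Nat.card (Subgroup.center G) := by exact_mod_cast Nat.card_pos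
  have hdr : (0 : ℝ) < (d : ℝ) ^ 2 := by
    have : (0 : ℝ) < d := by exact_mod_cast Nat.pos_of_ne_zero hd0
    positivity
  -- final computation
  generalize (∑ g : G, (if D g then sq g else 0)) = SD at *
  generalize (∑ g : G, (if C g then sq g else 0)) = SC at *
  generalize (∑ g : G, (if C g then sqA g else 0)) = SCA at *
  generalize (∑ n : N, Complex.normSq (χ n)) = S1 at *
  generalize (∑ n : N, Complex.normSq (A n)) = S2 at *
  generalize (Nat.card G : ℝ) = g at *
  generalize (Nat.card N : ℝ) = n at *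
  generalize (Nat.card H : ℝ) = h at *
  generalize (Nat.card (Subgroup.center G) : ℝ) = z at *
  have e1 : n + h * z * (c : ℝ) ^ 2 - z * (d : ℝ) ^ 2 ≤ SD := by linarith
  have e2 : g * (n + h * z * (c : ℝ) ^ 2 - z * (d : ℝ) ^ 2) ≤ n * (g - z * (d : ℝ) ^ 2) :=
    (mul_le_mul_of_nonneg_left e1 hGr.le).trans hSD
  have e3 : (g * z) * (h * (c : ℝ) ^ 2 - (d : ℝ) ^ 2) ≤ - (n * z * (d : ℝ) ^ 2) := by nlinarith
  have e4 : 0 < n * z * (d : ℝ) ^ 2 := by positivity
  have e5 : h * (c : ℝ) ^ 2 - (d : ℝ) ^ 2 < 0 := by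
    by_contra hcon
    push Not at hcon
    have : 0 ≤ (g * z) * (h * (c : ℝ) ^ 2 - (d : ℝ) ^ 2) := mul_nonneg (mul_pos hGr hZr).le hcon
    linarith
  linarith

/-- For an abelian subgroup, `⟨χ_H, χ_H⟩ ≥ χ(1)`. -/
theorem degree_le_norm (H : Subgroup G) [Fintype H] (hab : ∀ a ∈ H, ∀ b ∈ H, a * b = b * a)
    {χ : G → ℂ} (hχ : IsCharacter G χ) {d : ℕ} (hd : χ 1 = d) :
    ∃ a : ℕ, classInner (fun h : H => χ h) (fun h : H => χ h) = a ∧ d ≤ a := by
  classical
  have : Fintype (IrrCharacter H) := Fintype.ofFinite _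
  have hlin : ∀ lam : IrrCharacter H, (lam : H → ℂ) 1 = 1 := (Cfsg.Agent.S0187.result (G := H)).mp
    (fun a b => Subtype.ext (hab a a.2 b b.2))
  have hc := isCharacter_restrict hχ H
  obtain ⟨a, ha, hsum⟩ := exists_mult_of_isCharacter hc
  refine ⟨∑ lam, a lam * a lam, ?_, ?_⟩
  · have h1 : ∀ lam : IrrCharacter H, classInner (lam : H → ℂ) (fun h : H => χ h) = a lam := fun lam => by
      rw [classInner_comm_of_isCharacter (irr_isCharacter lam) hc, ha]
    conv_lhs => rw [hsum]
    rw [classInner_sum_left]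
    push_cast
    refine Finset.sum_congr rfl fun lam _ => ?_
    rw [← hsum, ← Nat.cast_smul_eq_nsmul ℂ, classInner_smul_left, h1]
  · have h1 := congrFun hsum 1
    rw [Finset.sum_apply] at h1
    have h2 : (d : ℂ) = ((∑ lam, a lam : ℕ) : ℂ) := by
      rw [← hd]
      push_cast
      refine h1.trans (Finset.sum_congr rfl fun lam _ => ?_)
      rw [Pi.smul_apply, hlin, nsmul_eq_mul, mul_one]
    have h3 : d = ∑ lam, a lam := by exact_mod_cast h2
    rw [h3]
    apply Finset.sum_le_sum
    intro lam _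
    rcases Nat.eq_zero_or_pos (a lam) with h | h
    · rw [h]
    · exact Nat.le_mul_of_pos_left _ h

/-- A nontrivial irreducible character is nontrivial on subgroups with full normal closure. -/
theorem exists_ne_of_normal (H : Subgroup G) (hnorm : ∀ M : Subgroup G, M.Normal → H ≤ M → M = ⊤)
    {ψ : G → ℂ} (hψ : IsIrrCharacter G ψ) (hne : ψ ≠ fun _ => 1) : ∃ h ∈ H, ψ h ≠ ψ 1 := by
  by_contra hcon
  push Not at hcon
  obtain ⟨n, ρ, hρ, hρψ⟩ := hψ
  have h1 : ρ.character 1 = (n : ℂ) := by rw [Representation.char_one, Module.finrank_fin_fun]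
  have hle : H ≤ MonoidHom.ker ρ := by
    intro h hh
    rw [MonoidHom.mem_ker]
    apply (Cfsg.Agent.Char.rep_character_eq_finrank_iff ρ h).mp
    rw [hρψ, hcon h hh, ← hρψ, h1, Module.finrank_fin_fun]
  have htop := hnorm _ inferInstance hle
  have hone : ∀ g : G, ρ g = 1 := fun g => by
    have : g ∈ MonoidHom.ker ρ := by rw [htop]; exact Subgroup.mem_top g
    exact MonoidHom.mem_ker.mp this
  have hn := Cfsg.Agent.Char.finrank_eq_one_of_scalar ρ (fun g => by
    rw [Cfsg.Agent.Char.mem_scalarSubgroup]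
    exact ⟨1, by rw [hone, one_smul]; rfl⟩)
  rw [Module.finrank_fin_fun] at hn
  apply hne
  rw [← hρψ]
  funext g
  have h2 : ρ.character g = ρ.character 1 := by
    simp only [Representation.character, hone]
  rw [h2, h1, hn, Nat.cast_one]

theorem part2 (H : Subgroup G) [Fintype H] (hab : ∀ a ∈ H, ∀ b ∈ H, a * b = b * a)
    (hZ : H ⊓ Subgroup.center G = ⊥)
    (hone : ∀ g : G, g ∉ Subgroup.center G → ∀ a b : G,
      Subgroup.centralizer ({g} : Set G) ⊓ H.map (MulAut.conj a).toMonoidHom ≠ ⊥ →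
      Subgroup.centralizer ({g} : Set G) ⊓ H.map (MulAut.conj b).toMonoidHom ≠ ⊥ →
      H.map (MulAut.conj a).toMonoidHom = H.map (MulAut.conj b).toMonoidHom)
    {χ : G → ℂ} (hχ : IsIrrCharacter G χ) (hχ1 : χ 1 ≠ 1)
    (hnorm : ∀ M : Subgroup G, M.Normal → H ≤ M → M = ⊤) :
    (1 + (χ 1).re) ^ 2 > (Nat.card H : ℝ) := by
  classical
  have hχc := isCharacter_of_isIrr hχ
  obtain ⟨d, hd⟩ := exists_nat_degree hχc
  rw [hd, Complex.natCast_re]
  have hd2 : 2 ≤ d := by
    have h1 : d ≠ 0 := by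
      rintro rfl
      exact irr_one_ne_zero hχ (by rw [hd, Nat.cast_zero])
    have h2 : d ≠ 1 := by
      rintro rfl
      exact hχ1 (by rw [hd, Nat.cast_one])
    omega
  have : Fintype (IrrCharacter G) := Fintype.ofFinite _
  have hconj : IsCharacter G (fun g => conj (χ g)) := isCharacter_of_isIrr (isIrrCharacter_conj hχ)
  have hΨ : IsCharacter G (χ * fun g => conj (χ g)) := isCharacter_mul hχc hconj
  obtain ⟨m, hm, hsum⟩ := exists_mult_of_isCharacter hΨ
  choose deg hdeg using fun ψ : IrrCharacter G => exists_nat_degree (irr_isCharacter ψ)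
  choose c hc using fun ψ : IrrCharacter G =>
    classInner_natCast (isCharacter_restrict (irr_isCharacter ψ) H) (isCharacter_one (G := H))
  obtain ⟨a, ha, hda⟩ := degree_le_norm H hab hχc hd
  let one : IrrCharacter G := ⟨fun _ => 1, isIrrCharacter_one⟩
  have hm1 : m one = 1 := by
    have h1 := hm one
    have h2 : classInner (χ * fun g => conj (χ g)) (one : G → ℂ) = classInner χ χ := by
      unfold classInner
      congr 1
      refine Finset.sum_congr rfl fun g _ => ?_
      change χ g * conj (χ g) * conj (1 : ℂ) = _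
      rw [map_one, mul_one]
    rw [h2, classInner_self_of_irr hχ] at h1
    exact_mod_cast h1.symm
  have hdeg1 : deg one = 1 := by
    have h1 := hdeg one
    change (1 : ℂ) = _ at h1
    exact_mod_cast h1.symm
  have hc1 : c one = 1 := by
    have h1 := hc one
    have h2 : classInner (fun h : H => (one : G → ℂ) h) (fun _ => 1) = 1 :=
      classInner_self_of_irr (isIrrCharacter_one (G := H))
    rw [h2] at h1
    exact_mod_cast h1.symm
  have hE1 : d * d = ∑ ψ, m ψ * deg ψ := by
    have h1 := congrFun hsum 1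
    rw [Finset.sum_apply, Pi.mul_apply, hd] at h1
    have h2 : ((d * d : ℕ) : ℂ) = ((∑ ψ, m ψ * deg ψ : ℕ) : ℂ) := by
      push_cast
      rw [show (d : ℂ) * d = d * conj (d : ℂ) by rw [Complex.conj_natCast], h1]
      refine Finset.sum_congr rfl fun ψ _ => ?_
      rw [Pi.smul_apply, nsmul_eq_mul, hdeg]
    exact_mod_cast h2
  have hE2 : a = ∑ ψ, m ψ * c ψ := by
    have h1 : (a : ℂ) = classInner (fun h : H => (χ * fun g => conj (χ g)) h) (fun _ => 1) := by
      rw [← ha]
      unfold classInner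
      congr 1
      refine Finset.sum_congr rfl fun g _ => ?_
      rw [map_one, mul_one]
      rfl
    have h2 : (fun h : H => (χ * fun g => conj (χ g)) h)
        = ∑ ψ : IrrCharacter G, (m ψ : ℂ) • (fun h : H => (ψ : G → ℂ) h) := by
      funext h
      have h3 := congrFun hsum h
      rw [Finset.sum_apply] at h3 ⊢
      rw [h3]
      refine Finset.sum_congr rfl fun ψ _ => ?_
      rw [Pi.smul_apply, nsmul_eq_mul, Pi.smul_apply, smul_eq_mul]
    rw [h2, classInner_sum_left] at h1
    have h3 : (a : ℂ) = ((∑ ψ, m ψ * c ψ : ℕ) : ℂ) := by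
      rw [h1]
      push_cast
      refine Finset.sum_congr rfl fun ψ _ => ?_
      rw [classInner_smul_left, hc]
    exact_mod_cast h3
  -- the inequality for each nontrivial constituent
  obtain ⟨s, hs⟩ : ∃ s, s = Real.sqrt (Nat.card H) := ⟨_, rfl⟩
  have hs0 : 0 ≤ s := by rw [hs]; exact Real.sqrt_nonneg _
  have hss : s ^ 2 = Nat.card H := by rw [hs]; exact Real.sq_sqrt (Nat.cast_nonneg _)
  have hineq : ∀ ψ : IrrCharacter G, ψ ≠ one → s * c ψ < deg ψ := by
    intro ψ hψ
    have h1 : (ψ : G → ℂ) ≠ fun _ => 1 := fun h => hψ (Subtype.ext h)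
    have h2 := part1 H hab hZ hone ψ.2 (exists_ne_of_normal H hnorm ψ.2 h1)
    rw [hdeg, hc, Complex.natCast_re, Complex.natCast_re, ← hss] at h2
    have h3 : (s * c ψ) ^ 2 < (deg ψ : ℝ) ^ 2 := by rw [mul_pow]; exact h2
    exact lt_of_pow_lt_pow_left₀ 2 (Nat.cast_nonneg _) h3
  rw [← Finset.add_sum_erase _ _ (Finset.mem_univ one), hm1, hdeg1] at hE1
  rw [← Finset.add_sum_erase _ _ (Finset.mem_univ one), hm1, hc1] at hE2
  have hex : ∃ ψ ∈ Finset.univ.erase one, m ψ ≠ 0 := by
    by_contra hcon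
    push Not at hcon
    rw [Finset.sum_eq_zero (fun ψ hψ => by rw [hcon ψ hψ, zero_mul])] at hE1
    nlinarith
  obtain ⟨ψ0, hψ0, hmψ0⟩ := hex
  have hlt : ∑ ψ ∈ Finset.univ.erase one, (m ψ : ℝ) * (s * c ψ)
      < ∑ ψ ∈ Finset.univ.erase one, (m ψ : ℝ) * deg ψ := by
    apply Finset.sum_lt_sum
    · intro ψ hψ
      exact mul_le_mul_of_nonneg_left (hineq ψ (Finset.ne_of_mem_erase hψ)).le (Nat.cast_nonneg _)
    · refine ⟨ψ0, hψ0, ?_⟩
      apply mul_lt_mul_of_pos_left (hineq ψ0 (Finset.ne_of_mem_erase hψ0))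
      exact_mod_cast Nat.pos_of_ne_zero hmψ0
  have hE1r : (d : ℝ) * d = 1 + ∑ ψ ∈ Finset.univ.erase one, (m ψ : ℝ) * deg ψ := by
    have : ((d * d : ℕ) : ℝ) = ((1 * 1 + ∑ ψ ∈ Finset.univ.erase one, m ψ * deg ψ : ℕ) : ℝ) := by
      exact_mod_cast congrArg (Nat.cast (R := ℝ)) hE1
    push_cast at this
    linarith
  have hE2r : (a : ℝ) = 1 + ∑ ψ ∈ Finset.univ.erase one, (m ψ : ℝ) * c ψ := by
    have : ((a : ℕ) : ℝ) = ((1 * 1 + ∑ ψ ∈ Finset.univ.erase one, m ψ * c ψ : ℕ) : ℝ) := by
      exact_mod_cast congrArg (Nat.cast (R := ℝ)) hE2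
    push_cast at this
    linarith
  have hS : ∑ ψ ∈ Finset.univ.erase one, (m ψ : ℝ) * (s * c ψ) = s * (a - 1) := by
    rw [hE2r, add_sub_cancel_left, Finset.mul_sum]
    refine Finset.sum_congr rfl fun ψ _ => by ring
  rw [hS] at hlt
  have hd1 : (0 : ℝ) < (d : ℝ) - 1 := by
    have : (2 : ℝ) ≤ d := by exact_mod_cast hd2
    linarith
  have hda' : (d : ℝ) ≤ a := by exact_mod_cast hda
  have h1 : s * ((d : ℝ) - 1) < ((d : ℝ) + 1) * ((d : ℝ) - 1) := by
    have h2 : s * ((d : ℝ) - 1) ≤ s * (a - 1) := mul_le_mul_of_nonneg_left (by linarith) hs0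
    nlinarith
  have h2 : s < (d : ℝ) + 1 := lt_of_mul_lt_mul_right h1 hd1.le
  rw [← hss, gt_iff_lt, add_comm]
  exact pow_lt_pow_left₀ h2 hs0 two_ne_zero

end

end Cfsg.Agent.Char.FTI
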