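import Cfsg.Agent.Char.Berger2
import Cfsg.Agent.Char.FTIneq
import Cfsg.Agent.Char.ExtUnique
import Cfsg.Agent.Glaub.Over
import Cfsg.Agent.H75.Perm
import Cfsg.Agent.Glaub.Inside
import Cfsg.Agent.Glaub.PGroup
import Cfsg.Agent.Glaub.Count

/-!
# The relative Glauberman correspondence for a `p`-group acting on a group with a normal Sylow
`p`-subgroup (owner: helper15)
-/

set_option autoImplicit false

namespace Cfsg.Agent.Char.RG

open Cfsg Cfsg.Agent.Char Cfsg.Agent.CharBase Cfsg.Agent.Char.BG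
open Cfsg.Agent.Glaub (Inv IsFix res)
open scoped ComplexConjugate

universe u v w

section Canon

/-- The determinantal character of a twist by an isomorphism. -/
theorem detChar_comp {G : Type u} {H : Type v} [Group G] [Group H] [Finite G] [Finite H] (e : H ≃* G)
    {χ : G → ℂ} (hχ : IsIrrCharacter G χ) :
    detChar (fun h => χ (e h)) = fun h => detChar χ (e h) := by
  obtain ⟨n, ρ, hρ, rfl⟩ := hχ
  let σ : Representation ℂ H (Fin n → ℂ) := MonoidHom.comp ρ e.toMonoidHom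
  have h1 : σ.character = fun h => ρ.character (e h) := rfl
  have h2 : IsIrrCharacter H (fun h => ρ.character (e h)) :=
    Cfsg.Agent.H75.isIrrCharacter_comp_equiv (χ := ρ.character) ⟨n, ρ, hρ, rfl⟩ e
  rw [← h1, detChar_eq σ (by rw [h1]; exact h2), detChar_eq ρ ⟨n, ρ, hρ, rfl⟩]
  rfl

/-- The canonical extension of an invariant character of a normal Hall subgroup. -/
theorem exists_canonical_extension {G : Type u} [Group G] [Finite G] (Q : Subgroup G) [hQ : Q.Normal]
    (hcop : (Nat.card Q).Coprime Q.index) {θ : Q → ℂ} (hθ : IsIrrCharacter Q θ)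
    (hinv : ∀ g : G, cj Q g θ = θ) :
    ∃ E : G → ℂ, IsIrrCharacter G E ∧ (∀ q : Q, E q = θ q) ∧
      ∀ α : G ≃* G, (∀ q ∈ Q, α q ∈ Q) → (∀ (q : Q) (q' : Q), (q' : G) = α q → θ q' = θ q) →
        ∀ g, E (α g) = E g := by
  classical
  have := Fintype.ofFinite G
  have := Fintype.ofFinite Q
  obtain ⟨n, hn⟩ := exists_nat_degree (isCharacter_of_isIrr hθ)
  have hnQ : n ∣ Nat.card Q := degree_dvd_card hθ hn
  have hcopn : Nat.Coprime Q.index n := (hcop.coprime_dvd_left hnQ).symm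
  obtain ⟨lam, hlam⟩ : ∃ lam : Q →* ℂ, detChar θ = lam := by
    obtain ⟨k, ρ, hρ, rfl⟩ := hθ
    exact ⟨detHom ρ, detChar_eq ρ ⟨k, ρ, hρ, rfl⟩⟩
  have hlinv : ∀ g : G, cj Q g lam = lam := by
    intro g
    rw [← hlam, ← detChar_cj hθ, hinv]
  have hord : orderOf (lam : Q → ℂ) ∣ Nat.card Q := by
    apply orderOf_dvd_of_pow_eq_one
    rw [pow_fun_eq_one_iff]
    intro q
    rw [← map_pow, pow_card_eq_one', _root_.map_one]
  have hcopl : Nat.Coprime Q.index (orderOf (lam : Q → ℂ)) := (hcop.coprime_dvd_left hord).symm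
  obtain ⟨μ, hμ, hμo, hμu⟩ := exists_linear_extension lam hlinv hcopl
  have hext : ∃ η : G → ℂ, IsIrrCharacter G η ∧ (∀ n : Q, η n = θ n) :=
    Cfsg.Agent.Glaub.exists_extension_of_hall Q hcop hθ hinv
  obtain ⟨E, ⟨hE, hEQ, hEd⟩, hEu⟩ := exists_unique_extension_det hθ hn hcopn hext μ
    (fun q => by rw [hμ, hlam])
  refine ⟨E, hE, hEQ, fun α hα hαθ => ?_⟩
  have h1 : IsIrrCharacter G (fun g => E (α g)) := Cfsg.Agent.H75.isIrrCharacter_comp_equiv hE α
  have h2 : ∀ q : Q, E (α q) = θ q := by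
    intro q
    rw [hEQ ⟨α q, hα q q.2⟩]
    exact hαθ q _ rfl
  -- `α` restricted to `Q`
  let αQ0 : Q →* Q :=
    { toFun := fun q : Q => (⟨α q, hα q q.2⟩ : Q)
      map_one' := Subtype.ext (by simp)
      map_mul' := fun a b => Subtype.ext (by simp) }
  have hαQ : Function.Bijective αQ0 := by
    apply Finite.injective_iff_bijective.mp
    intro a b hab
    exact Subtype.ext (α.injective (congrArg Subtype.val hab))
  let αQ : Q ≃* Q := MulEquiv.ofBijective αQ0 hαQ
  have hθα : (fun q => θ (αQ q)) = θ := by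
    funext q
    exact hαθ q (αQ q) rfl
  have hμα : μ.comp α.toMonoidHom = μ := by
    apply hμu
    · intro q
      change μ (α q) = lam q
      have h3 : μ ((αQ q : Q) : G) = lam (αQ q) := hμ (αQ q)
      have h4 : ((αQ q : Q) : G) = α q := rfl
      rw [← h4, h3, ← hlam]
      have h5 := congrFun (detChar_comp αQ hθ) q
      rw [← h5, hθα]
    · have h6 : orderOf ((μ.comp α.toMonoidHom : G →* ℂ) : G → ℂ) = orderOf (μ : G → ℂ) := by
        rw [orderOf_eq_orderOf_iff]
        intro k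
        rw [pow_fun_eq_one_iff, pow_fun_eq_one_iff]
        constructor
        · intro h g
          have := h (α.symm g)
          simpa using this
        · intro h g
          exact h (α g)
      rw [h6, hμo]
      exact hcopl
  have h3 : detChar (fun g => E (α g)) = μ := by
    rw [detChar_comp α hE, hEd]
    funext g
    exact congrArg (fun f : G →* ℂ => f g) hμα
  exact congrFun (hEu (fun g => E (α g)) ⟨h1, h2, h3⟩)

end Canon

section Quot

variable {H : Type u} [Group H] {A : Type v} [Group A]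

/-- The action induced on a quotient by an invariant normal subgroup. -/
def quotAct (φ : A →* MulAut H) (Q : Subgroup H) [Q.Normal] (hQ : ∀ a, ∀ q ∈ Q, φ a q ∈ Q) :
    A →* MulAut (H ⧸ Q) where
  toFun a :=
    { toFun := QuotientGroup.map Q Q (φ a).toMonoidHom (fun q hq => hQ a q hq)
      invFun := QuotientGroup.map Q Q (φ a⁻¹).toMonoidHom (fun q hq => hQ a⁻¹ q hq)
      left_inv := fun x => by
        obtain ⟨h, rfl⟩ := QuotientGroup.mk_surjective x
        change (QuotientGroup.mk (φ a⁻¹ (φ a h)) : H ⧸ Q) = _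
        rw [← MulAut.mul_apply, ← map_mul, inv_mul_cancel, map_one, MulAut.one_apply]
      right_inv := fun x => by
        obtain ⟨h, rfl⟩ := QuotientGroup.mk_surjective x
        change (QuotientGroup.mk (φ a (φ a⁻¹ h)) : H ⧸ Q) = _
        rw [← MulAut.mul_apply, ← map_mul, mul_inv_cancel, map_one, MulAut.one_apply]
      map_mul' := map_mul _ }
  map_one' := by
    apply MulEquiv.ext
    intro x
    obtain ⟨h, rfl⟩ := QuotientGroup.mk_surjective x
    change (QuotientGroup.mk (φ 1 h) : H ⧸ Q) = _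
    rw [map_one, MulAut.one_apply]
    rfl
  map_mul' a b := by
    apply MulEquiv.ext
    intro x
    obtain ⟨h, rfl⟩ := QuotientGroup.mk_surjective x
    change (QuotientGroup.mk (φ (a * b) h) : H ⧸ Q) = QuotientGroup.mk (φ a (φ b h))
    rw [map_mul, MulAut.mul_apply]

theorem quotAct_mk (φ : A →* MulAut H) (Q : Subgroup H) [Q.Normal] (hQ : ∀ a, ∀ q ∈ Q, φ a q ∈ Q)
    (a : A) (h : H) : quotAct φ Q hQ a (QuotientGroup.mk h) = QuotientGroup.mk (φ a h) := rfl

variable {D : Type w} [Group D]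

/-- Fixed points in the quotient. -/
theorem isFix_quot (φ : A →* MulAut H) (Q : Subgroup H) [Q.Normal] (hQ : ∀ a, ∀ q ∈ Q, φ a q ∈ Q)
    (ι : D →* H) (hQι : Q ≤ ι.range) [(Q.comap ι).Normal]
    (hfix : ∀ h, (∀ a, φ a h * h⁻¹ ∈ Q) ↔ h ∈ ι.range) :
    IsFix (quotAct φ Q hQ) (QuotientGroup.map (Q.comap ι) Q ι le_rfl) := by
  constructor
  · intro x y hxy
    obtain ⟨d, rfl⟩ := QuotientGroup.mk_surjective x
    obtain ⟨e, rfl⟩ := QuotientGroup.mk_surjective y
    change (QuotientGroup.mk (ι d) : H ⧸ Q) = QuotientGroup.mk (ι e) at hxy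
    rw [QuotientGroup.eq] at hxy ⊢
    rw [Subgroup.mem_comap, map_mul, map_inv]
    exact hxy
  · intro x
    obtain ⟨h, rfl⟩ := QuotientGroup.mk_surjective x
    have h1 : (∀ a, quotAct φ Q hQ a (QuotientGroup.mk h) = QuotientGroup.mk h) ↔ h ∈ ι.range := by
      rw [← hfix]
      refine forall_congr' fun a => ?_
      rw [quotAct_mk, eq_comm, QuotientGroup.eq]
      exact (Subgroup.Normal.mem_comm_iff inferInstance)
    rw [h1]
    constructor
    · rintro ⟨d, rfl⟩
      exact ⟨QuotientGroup.mk d, rfl⟩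
    · rintro ⟨y, hy⟩
      obtain ⟨d, rfl⟩ := QuotientGroup.mk_surjective y
      change (QuotientGroup.mk (ι d) : H ⧸ Q) = QuotientGroup.mk h at hy
      rw [QuotientGroup.eq] at hy
      obtain ⟨e, he⟩ := hQι hy
      refine ⟨d * e, ?_⟩
      rw [map_mul, he]
      group

end Quot

section Inner

variable {H : Type u} [Group H] [Fintype H] (Q : Subgroup H) [Q.Normal] [Fintype Q]

/-- Gallagher's inner products. -/
theorem classInner_mul_ext {E : H → ℂ} (hE : IsIrrCharacter H E)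
    (hEQ : IsIrrCharacter Q (fun q : Q => E q)) [Fintype (H ⧸ Q)] (α β : H ⧸ Q → ℂ) :
    classInner (fun h => α (QuotientGroup.mk h) * E h) (fun h => β (QuotientGroup.mk h) * E h)
      = classInner α β := by
  have hav := avgN_mul_conj_of_restrict_irr Q hE hEQ
  have hconst : ∀ (n : Q) (g : H), (fun h : H => α (QuotientGroup.mk h) * conj (β (QuotientGroup.mk h)))
      ((n : H) * g) = (fun h : H => α (QuotientGroup.mk h) * conj (β (QuotientGroup.mk h))) g := by
    intro n g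
    have : (QuotientGroup.mk ((n : H) * g) : H ⧸ Q) = QuotientGroup.mk g := by
      rw [QuotientGroup.mk_mul, (QuotientGroup.eq_one_iff (n : H)).mpr n.2, one_mul]
    simp only [this]
  have h1 : classInner (fun h => α (QuotientGroup.mk h) * E h) (fun h => β (QuotientGroup.mk h) * E h)
      = classInner ((fun h : H => α (QuotientGroup.mk h) * conj (β (QuotientGroup.mk h)))
        * (E * fun g => conj (E g))) (avgN Q (fun _ => 1)) := by
    rw [avgN_of_const Q (fun _ _ => rfl)]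
    simp only [classInner, Pi.mul_apply, map_mul, map_one, mul_one]
    congr 1
    refine Finset.sum_congr rfl fun h _ => by ring
  rw [h1, ← Cfsg.Agent.Char.FTI.classInner_avgN, avgN_mul_const Q hconst, hav]
  simp only [classInner, Pi.mul_apply, map_one, mul_one]
  have h2 := sum_comp_surjective (QuotientGroup.mk' Q) (QuotientGroup.mk'_surjective Q)
    (fun x => α x * conj (β x))
  have h3 : ∑ x : H, α (QuotientGroup.mk x) * conj (β (QuotientGroup.mk x))
      = (Nat.card Q : ℂ) * ∑ y : H ⧸ Q, α y * conj (β y) := by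
    rw [QuotientGroup.ker_mk'] at h2
    exact h2
  rw [h3]
  have h4 : (Nat.card H : ℂ) = (Nat.card Q : ℂ) * (Nat.card (H ⧸ Q) : ℂ) := by
    rw [← Nat.cast_mul, ← Subgroup.index_eq_card, Subgroup.card_mul_index]
  have h5 := card_ne_zero_complex Q
  rw [h4, mul_inv]
  field_simp

theorem isIrr_mul_ext {E : H → ℂ} (hE : IsIrrCharacter H E)
    (hEQ : IsIrrCharacter Q (fun q : Q => E q)) {α : H ⧸ Q → ℂ} (hα : IsIrrCharacter (H ⧸ Q) α) :
    IsIrrCharacter H (fun h => α (QuotientGroup.mk h) * E h) := by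
  have := Fintype.ofFinite (H ⧸ Q)
  have h1 : IsCharacter H ((α ∘ (QuotientGroup.mk' Q)) * E) :=
    isCharacter_mul (isCharacter_comp (isCharacter_of_isIrr hα) _) (isCharacter_of_isIrr hE)
  have h2 : ((α ∘ (QuotientGroup.mk' Q)) * E) = fun h => α (QuotientGroup.mk h) * E h := rfl
  rw [h2] at h1
  rw [isIrrCharacter_iff h1, classInner_mul_ext Q hE hEQ, classInner_self_of_irr hα]

omit [Fintype H] in
/-- The products lie over the restriction of `E`. -/
theorem mul_ext_over {E : H → ℂ}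
    (hEQ : IsIrrCharacter Q (fun q : Q => E q)) {α : H ⧸ Q → ℂ} (hα : IsIrrCharacter (H ⧸ Q) α) :
    classInner (fun q : Q => α (QuotientGroup.mk (q : H)) * E q) (fun q : Q => E q) ≠ 0 := by
  have h1 : (fun q : Q => α (QuotientGroup.mk (q : H)) * E q) = α 1 • (fun q : Q => E q) := by
    funext q
    rw [Pi.smul_apply, smul_eq_mul, (QuotientGroup.eq_one_iff (q : H)).mpr q.2]
  rw [h1, classInner_smul_left, classInner_self_of_irr hEQ, mul_one]
  exact irr_one_ne_zero hα

end Inner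

section Level

variable {H : Type u} [Group H] [Fintype H] {D : Type w} [Group D] [Fintype D] {A : Type v} [Group A]
  [Finite A] (φ : A →* MulAut H) (Q : Subgroup H) [Q.Normal] [Fintype Q]
  (hQ : ∀ a, ∀ q ∈ Q, φ a q ∈ Q) (ι : D →* H) (hι : Function.Injective ι) (hQι : Q ≤ ι.range)
  [(Q.comap ι).Normal] [Fintype (Q.comap ι)]
  (hfix : ∀ h, (∀ a, φ a h * h⁻¹ ∈ Q) ↔ h ∈ ι.range)

/-- The subgroup `Q` seen in `D`. -/
def qHom : Q.comap ι →* Q where
  toFun := fun x : Q.comap ι => (⟨ι x, x.2⟩ : Q)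
  map_one' := Subtype.ext (by simp)
  map_mul' := fun a b => Subtype.ext (by simp)

/-- The subgroup `Q` seen in `D`. -/
noncomputable def qEquiv (hι : Function.Injective ι) (hQι : Q ≤ ι.range) : Q.comap ι ≃* Q :=
  MulEquiv.ofBijective (qHom Q ι)
    ⟨fun a b hab => Subtype.ext (hι (congrArg Subtype.val hab)), fun q => by
      obtain ⟨d, hd⟩ := hQι q.2
      exact ⟨⟨d, by rw [Subgroup.mem_comap, hd]; exact q.2⟩, Subtype.ext hd⟩⟩

include hι hQι in
omit [Fintype H] [Fintype D] [Q.Normal] [Fintype Q] [(Q.comap ι).Normal] [Fintype (Q.comap ι)] in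
theorem irr_comap [Finite H] [Finite D] {E : H → ℂ} (hEQ : IsIrrCharacter Q (fun q : Q => E q)) :
    IsIrrCharacter (Q.comap ι) (fun q : Q.comap ι => E (ι q)) :=
  Cfsg.Agent.H75.isIrrCharacter_comp_equiv hEQ (qEquiv Q ι hι hQι)

include hι hQι in
omit [Fintype H] [Fintype D] [Q.Normal] [Fintype Q] [(Q.comap ι).Normal] [Fintype (Q.comap ι)] in
theorem irr_res [Finite H] [Finite D] {E : H → ℂ} (hE : IsIrrCharacter H E)
    (hEQ : IsIrrCharacter Q (fun q : Q => E q)) : IsIrrCharacter D (fun d => E (ι d)) := by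
  have h1 : IsCharacter D (E ∘ ι) := isCharacter_comp (isCharacter_of_isIrr hE) ι
  exact isIrr_of_comp (Q.comap ι).subtype h1 (irr_comap Q ι hι hQι hEQ)

include hι hQι in
omit [Fintype Q] in
/-- Multiplicities in terms of the quotient. -/
theorem level_inner [Fintype (H ⧸ Q)] [Fintype (D ⧸ Q.comap ι)] {E : H → ℂ} (hE : IsIrrCharacter H E)
    (hEQ : IsIrrCharacter Q (fun q : Q => E q)) (β : H ⧸ Q → ℂ) (γ : D ⧸ Q.comap ι → ℂ) :
    classInner (fun d => β (QuotientGroup.mk (ι d)) * E (ι d))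
      (fun d => γ (QuotientGroup.mk d) * E (ι d))
      = classInner (res (QuotientGroup.map (Q.comap ι) Q ι le_rfl) β) γ :=
  classInner_mul_ext (Q.comap ι) (irr_res Q ι hι hQι hE hEQ) (irr_comap Q ι hι hQι hEQ)
    (res (QuotientGroup.map (Q.comap ι) Q ι le_rfl) β) γ


omit [Finite A] in
/-- Invariance descends to the quotient factor. -/
theorem inv_factor {E : H → ℂ} (hE : IsIrrCharacter H E) (hEinv : Inv φ E)
    (hEQ : IsIrrCharacter Q (fun q : Q => E q)) {β : H ⧸ Q → ℂ} (hβ : IsIrrCharacter (H ⧸ Q) β)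
    (hinv : Inv φ (fun h => β (QuotientGroup.mk h) * E h)) : Inv (quotAct φ Q hQ) β := by
  classical
  have := Fintype.ofFinite (H ⧸ Q)
  intro a
  -- `β` and its conjugate give the same product
  have h1 : IsIrrCharacter (H ⧸ Q) (fun x => β (quotAct φ Q hQ a x)) :=
    Cfsg.Agent.H75.isIrrCharacter_comp_equiv hβ (quotAct φ Q hQ a)
  have h2 := classInner_mul_ext Q hE hEQ (fun x => β (quotAct φ Q hQ a x)) β
  have h3 : (fun h : H => (fun x => β (quotAct φ Q hQ a x)) (QuotientGroup.mk h) * E h)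
      = fun h => β (QuotientGroup.mk h) * E h := by
    funext h
    have h4 := hinv a h
    simp only at h4
    rw [hEinv a h] at h4
    simp only [quotAct_mk]
    exact h4
  rw [h3, classInner_mul_ext Q hE hEQ, classInner_self_of_irr hβ] at h2
  have h5 := eq_of_classInner_ne_zero h1 hβ (by rw [← h2]; exact one_ne_zero)
  exact congrFun h5


include hQ hι hQι hfix in
/-- The relative correspondence, downwards. -/
theorem level_below {p : ℕ} (hp : p.Prime) (hA : IsPGroup p A) (hpQ : ¬ p ∣ Q.index)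
    {E : H → ℂ} (hE : IsIrrCharacter H E) (hEinv : Inv φ E)
    (hEQ : IsIrrCharacter Q (fun q : Q => E q)) {ψ : H → ℂ} (hψ : IsIrrCharacter H ψ)
    (hψinv : Inv φ ψ) (hover : classInner (fun q : Q => ψ q) (fun q : Q => E q) ≠ 0) :
    ∃ η : D → ℂ, IsIrrCharacter D η ∧
      classInner (fun q : Q.comap ι => η q) (fun q : Q.comap ι => E (ι q)) ≠ 0 ∧
      ∃ m : ℕ, classInner (fun d => ψ (ι d)) η = m ∧ ¬ p ∣ m ∧ (p : ℤ) ∣ (m : ℤ) ^ 2 - 1 ∧
      ∀ η' : D → ℂ, IsIrrCharacter D η' → η' ≠ η →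
        classInner (fun q : Q.comap ι => η' q) (fun q : Q.comap ι => E (ι q)) ≠ 0 →
        ∀ n : ℕ, classInner (fun d => ψ (ι d)) η' = n → p ∣ n := by
  classical
  have := Fintype.ofFinite (H ⧸ Q)
  have := Fintype.ofFinite (D ⧸ Q.comap ι)
  obtain ⟨β, hβ, hβE⟩ := Cfsg.Agent.Glaub.exists_irr_factor Q hE hEQ hψ hover
  have hψβ : ψ = fun h => β (QuotientGroup.mk h) * E h := funext hβE
  have hβinv : Inv (quotAct φ Q hQ) β := inv_factor φ Q hQ hE hEinv hEQ hβ (hψβ ▸ hψinv)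
  have hF := isFix_quot φ Q hQ ι hQι hfix
  have hpq : ¬ p ∣ Nat.card (H ⧸ Q) := by rwa [← Subgroup.index_eq_card]
  obtain ⟨γ, m, hm, hpm, hsq, huniq⟩ :=
    Cfsg.Agent.Glaub.existsUnique_below hF hp hA hpq ⟨β, hβ⟩ hβinv
  have hED := irr_res Q ι hι hQι hE hEQ
  have hEQD := irr_comap Q ι hι hQι hEQ
  obtain ⟨g, hg⟩ := γ
  have h1 : IsIrrCharacter D (fun d => g (QuotientGroup.mk d) * E (ι d)) :=
    isIrr_mul_ext (Q.comap ι) hED hEQD hg
  have h2 := mul_ext_over (E := fun d => E (ι d)) (Q.comap ι) hEQD hg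
  have h3 : classInner (fun d => ψ (ι d)) (fun d => g (QuotientGroup.mk d) * E (ι d)) = m := by
    rw [hψβ]
    exact (level_inner Q ι hι hQι hE hEQ β g).trans hm
  refine ⟨_, h1, h2, m, h3, hpm, hsq, ?_⟩
  intro η' hη' hne hover' n hn
  obtain ⟨γ', hγ', hγE⟩ := Cfsg.Agent.Glaub.exists_irr_factor (Q.comap ι) hED hEQD hη' hover'
  have hηγ : η' = fun d => γ' (QuotientGroup.mk d) * E (ι d) := funext hγE
  rw [hψβ, hηγ] at hn
  refine huniq ⟨γ', hγ'⟩ n ((level_inner Q ι hι hQι hE hEQ β γ').symm.trans hn) ?_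
  intro h
  have h4 : γ' = g := congrArg Subtype.val h
  apply hne
  rw [hηγ, h4]

include hQ hι hQι hfix in
/-- The relative correspondence, upwards. -/
theorem level_above {p : ℕ} (hp : p.Prime) (hA : IsPGroup p A) (hpQ : ¬ p ∣ Q.index)
    {E : H → ℂ} (hE : IsIrrCharacter H E) (hEinv : Inv φ E)
    (hEQ : IsIrrCharacter Q (fun q : Q => E q)) {η : D → ℂ} (hη : IsIrrCharacter D η)
    (hover : classInner (fun q : Q.comap ι => η q) (fun q : Q.comap ι => E (ι q)) ≠ 0) :
    ∃ ψ : H → ℂ, IsIrrCharacter H ψ ∧ Inv φ ψ ∧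
      classInner (fun q : Q => ψ q) (fun q : Q => E q) ≠ 0 ∧
      ∃ m : ℕ, classInner (fun d => ψ (ι d)) η = m ∧ ¬ p ∣ m := by
  classical
  have := Fintype.ofFinite (H ⧸ Q)
  have := Fintype.ofFinite (D ⧸ Q.comap ι)
  have hED := irr_res Q ι hι hQι hE hEQ
  have hEQD := irr_comap Q ι hι hQι hEQ
  obtain ⟨γ, hγ, hγE⟩ := Cfsg.Agent.Glaub.exists_irr_factor (Q.comap ι) hED hEQD hη hover
  have hηγ : η = fun d => γ (QuotientGroup.mk d) * E (ι d) := funext hγE
  have hF := isFix_quot φ Q hQ ι hQι hfix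
  have hpq : ¬ p ∣ Nat.card (H ⧸ Q) := by rwa [← Subgroup.index_eq_card]
  obtain ⟨β, hβinv, m, hm, hpm⟩ := Cfsg.Agent.Glaub.exists_over_fixed hF hp hA hpq ⟨γ, hγ⟩
  refine ⟨fun h => (β : H ⧸ Q → ℂ) (QuotientGroup.mk h) * E h, isIrr_mul_ext Q hE hEQ β.2, ?_,
    mul_ext_over Q hEQ β.2, m, ?_, hpm⟩
  · intro a h
    change (β : H ⧸ Q → ℂ) (QuotientGroup.mk (φ a h)) * E (φ a h) = _
    rw [hEinv a h]
    exact congrArg (· * E h) (hβinv a (QuotientGroup.mk h))
  · rw [hηγ, level_inner Q ι hι hQι hE hEQ β γ]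
    exact hm

include hQ hι hQι hfix in
/-- Uniqueness above. -/
theorem level_unique {p : ℕ} (hp : p.Prime) (hA : IsPGroup p A) (hpQ : ¬ p ∣ Q.index)
    {E : H → ℂ} (hE : IsIrrCharacter H E) (hEinv : Inv φ E)
    (hEQ : IsIrrCharacter Q (fun q : Q => E q)) {ψ ψ' : H → ℂ} (hψ : IsIrrCharacter H ψ)
    (hψinv : Inv φ ψ) (hover : classInner (fun q : Q => ψ q) (fun q : Q => E q) ≠ 0)
    (hψ' : IsIrrCharacter H ψ') (hψinv' : Inv φ ψ')
    (hover' : classInner (fun q : Q => ψ' q) (fun q : Q => E q) ≠ 0)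
    {η : D → ℂ} (hη : IsIrrCharacter D η)
    (hηo : classInner (fun q : Q.comap ι => η q) (fun q : Q.comap ι => E (ι q)) ≠ 0)
    {m n : ℕ} (hm : classInner (fun d => ψ (ι d)) η = m) (hpm : ¬ p ∣ m)
    (hn : classInner (fun d => ψ' (ι d)) η = n) (hpn : ¬ p ∣ n) : ψ = ψ' := by
  classical
  have := Fintype.ofFinite (H ⧸ Q)
  have := Fintype.ofFinite (D ⧸ Q.comap ι)
  have hED := irr_res Q ι hι hQι hE hEQ
  have hEQD := irr_comap Q ι hι hQι hEQ
  obtain ⟨γ, hγ, hγE⟩ := Cfsg.Agent.Glaub.exists_irr_factor (Q.comap ι) hED hEQD hη hηo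
  have hηγ : η = fun d => γ (QuotientGroup.mk d) * E (ι d) := funext hγE
  obtain ⟨β, hβ, hβE⟩ := Cfsg.Agent.Glaub.exists_irr_factor Q hE hEQ hψ hover
  have hψβ : ψ = fun h => β (QuotientGroup.mk h) * E h := funext hβE
  have hβinv : Inv (quotAct φ Q hQ) β := inv_factor φ Q hQ hE hEinv hEQ hβ (hψβ ▸ hψinv)
  obtain ⟨β', hβ', hβE'⟩ := Cfsg.Agent.Glaub.exists_irr_factor Q hE hEQ hψ' hover'
  have hψβ' : ψ' = fun h => β' (QuotientGroup.mk h) * E h := funext hβE'
  have hβinv' : Inv (quotAct φ Q hQ) β' := inv_factor φ Q hQ hE hEinv hEQ hβ' (hψβ' ▸ hψinv')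
  have hF := isFix_quot φ Q hQ ι hQι hfix
  have hpq : ¬ p ∣ Nat.card (H ⧸ Q) := by rwa [← Subgroup.index_eq_card]
  rw [hψβ, hηγ, level_inner Q ι hι hQι hE hEQ β γ] at hm
  rw [hψβ', hηγ, level_inner Q ι hι hQι hE hEQ β' γ] at hn
  have h1 := Cfsg.Agent.Glaub.eq_of_common hF hp hA hpq ⟨β, hβ⟩ ⟨β', hβ'⟩ hβinv hβinv' ⟨γ, hγ⟩ m n
    hm hpm hn hpn
  have h2 : β = β' := congrArg Subtype.val h1
  rw [hψβ, hψβ', h2]

end Level

end Cfsg.Agent.Char.RG
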