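import Cfsg.Agent.Char.RelGlaub
import Cfsg.Agent.Glaub.Above

/-!
# The relative Glauberman correspondence, second part (owner: helper15)
-/

set_option autoImplicit false
set_option linter.style.haveILetI false

namespace Cfsg.Agent.Char.RG

open Cfsg Cfsg.Agent.Char Cfsg.Agent.CharBase Cfsg.Agent.Char.BG
open Cfsg.Agent.Glaub (Inv IsFix res restrAct restrAct_apply)
open scoped ComplexConjugate

universe u v w

section Generic

/-- A constituent of a constituent is a constituent. -/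
theorem inner_comp_ne_zero {G : Type u} {N : Type v} [Group G] [Fintype G] [Group N] [Fintype N]
    (j : N →* G) {F : G → ℂ} (hF : IsCharacter G F) {η : G → ℂ} (hη : IsIrrCharacter G η)
    {θ : N → ℂ} (hθ : IsIrrCharacter N θ) (h1 : classInner F η ≠ 0)
    (h2 : classInner (fun n => η (j n)) θ ≠ 0) : classInner (fun n => F (j n)) θ ≠ 0 := by
  classical
  have : Fintype (IrrCharacter G) := Fintype.ofFinite _
  obtain ⟨m, hm, hsum⟩ := exists_mult_of_isCharacter hF
  choose k hk using fun ξ : IrrCharacter G => classInner_natCast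
    (isCharacter_comp (irr_isCharacter ξ) j) (isCharacter_of_isIrr hθ)
  have h3 : (fun n => F (j n)) = ∑ ξ : IrrCharacter G, (m ξ : ℂ) • ((ξ : G → ℂ) ∘ j) := by
    funext n
    have := congrFun hsum (j n)
    rw [Finset.sum_apply] at this ⊢
    rw [this]
    refine Finset.sum_congr rfl fun ξ _ => ?_
    simp
  have h4 : classInner (fun n => F (j n)) θ = ((∑ ξ : IrrCharacter G, m ξ * k ξ : ℕ) : ℂ) := by
    rw [h3, classInner_sum_left]
    push_cast
    refine Finset.sum_congr rfl fun ξ _ => ?_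
    rw [classInner_smul_left, hk]
  rw [h4]
  have h5 : m ⟨η, hη⟩ ≠ 0 := by
    intro h
    apply h1
    have := hm ⟨η, hη⟩
    rw [h] at this
    simpa using this
  have h6 : k ⟨η, hη⟩ ≠ 0 := by
    intro h
    apply h2
    have := hk ⟨η, hη⟩
    rw [h, Nat.cast_zero] at this
    exact this
  have h7 : 0 < ∑ ξ : IrrCharacter G, m ξ * k ξ :=
    lt_of_lt_of_le (Nat.mul_pos (Nat.pos_of_ne_zero h5) (Nat.pos_of_ne_zero h6))
      (Finset.single_le_sum (f := fun ξ => m ξ * k ξ) (fun _ _ => Nat.zero_le _)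
        (Finset.mem_univ _))
  exact_mod_cast h7.ne'

/-- Induction commutes with twisting by an automorphism. -/
theorem indFun_twist {K : Type u} [Group K] [Fintype K] (T : Subgroup K) (α : K ≃* K)
    (hT : ∀ k, α k ∈ T ↔ k ∈ T) {ψ ψ' : T → ℂ}
    (h : ∀ t t' : T, (t' : K) = α t → ψ' t = ψ t') (k : K) :
    indFun T ψ' k = indFun T ψ (α k) := by
  have h1 : ∀ x, extendByZero T ψ' x = extendByZero T ψ (α x) := by
    intro x
    by_cases hx : x ∈ T
    · rw [extendByZero_of_mem T ψ' hx, extendByZero_of_mem T ψ ((hT x).mpr hx)]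
      exact h _ _ rfl
    · rw [extendByZero_of_notMem T ψ' hx,
        extendByZero_of_notMem T ψ (fun h' => hx ((hT x).mp h'))]
  rw [indFun_apply', indFun_apply']
  congr 1
  rw [← Equiv.sum_comp α.toEquiv (fun x => extendByZero T ψ (x * α k * x⁻¹))]
  refine Finset.sum_congr rfl fun x _ => ?_
  rw [h1]
  congr 1
  simp

variable {K : Type u} [Group K] [Fintype K] {A : Type v} [Group A] [Finite A]
  (φ : A →* MulAut K) (N : Subgroup K) [N.Normal] [Fintype N]

omit [Finite A] in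
/-- There is an invariant constituent. -/
theorem exists_inv_below {p : ℕ} (hp : p.Prime) (hA : IsPGroup p A) (hpN : ¬ p ∣ N.index)
    (hN : ∀ a, ∀ n ∈ N, φ a n ∈ N) {χ : K → ℂ} (hχ : IsIrrCharacter K χ) (hinv : Inv φ χ) :
    ∃ θ : N → ℂ, IsIrrCharacter N θ ∧ classInner (fun n : N => χ n) θ ≠ 0 ∧
      Inv (restrAct φ N hN) θ := by
  classical
  haveI : Fact p.Prime := ⟨hp⟩
  let X := {ψ : N → ℂ // IsIrrCharacter N ψ ∧ classInner (fun n : N => χ n) ψ ≠ 0}
  have hχc := isCharacter_of_isIrr hχ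
  have hres : IsCharacter N (fun n : N => χ n) := isCharacter_restrict hχc N
  have hstep : ∀ (a : A) (ψ : N → ℂ), IsIrrCharacter N ψ → classInner (fun n : N => χ n) ψ ≠ 0 →
      IsIrrCharacter N (fun n => ψ (restrAct φ N hN a⁻¹ n)) ∧
      classInner (fun n : N => χ n) (fun n => ψ (restrAct φ N hN a⁻¹ n)) ≠ 0 := by
    intro a ψ h1 h2
    refine ⟨Cfsg.Agent.H75.isIrrCharacter_comp_equiv h1 (restrAct φ N hN a⁻¹), ?_⟩
    have h3 : (fun n : N => χ n) = fun n : N => (fun n : N => χ n) (restrAct φ N hN a⁻¹ n) := by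
      funext n
      exact (hinv a⁻¹ n).symm
    rw [h3]
    exact (classInner_comp_equiv (restrAct φ N hN a⁻¹) (fun n : N => χ n) ψ).trans_ne h2
  letI : MulAction A X :=
    { smul := fun a ψ => ⟨fun n => ψ.1 (restrAct φ N hN a⁻¹ n), hstep a ψ.1 ψ.2.1 ψ.2.2⟩
      one_smul := fun ψ => Subtype.ext (by
        funext n
        change ψ.1 (restrAct φ N hN 1⁻¹ n) = ψ.1 n
        rw [inv_one, map_one, MulAut.one_apply])
      mul_smul := fun a b ψ => Subtype.ext (by
        funext n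
        change ψ.1 (restrAct φ N hN (a * b)⁻¹ n) = ψ.1 (restrAct φ N hN b⁻¹ (restrAct φ N hN a⁻¹ n))
        rw [mul_inv_rev, map_mul, MulAut.mul_apply]) }
  obtain ⟨θ0, hθ0, hne0⟩ := exists_constituent hres (by
    intro h
    exact irr_one_ne_zero hχ (congrFun h 1))
  have hX : X ≃ (orb N θ0 : Finset (N → ℂ)) :=
    { toFun := fun ψ => ⟨ψ.1, (mem_orb N).mpr
        (exists_conj_of_constituents N hχ hθ0 ψ.2.1 hne0 ψ.2.2)⟩
      invFun := fun ψ => ⟨ψ.1, by
        obtain ⟨g, hg⟩ := (mem_orb N).mp ψ.2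
        rw [← hg]
        refine ⟨isIrrCharacter_cj N g hθ0, ?_⟩
        rw [classInner_restrict_cj N (isClassFunction_of_isCharacter hχc)]
        exact hne0⟩
      left_inv := fun ψ => rfl
      right_inv := fun ψ => rfl }
  have hcard : Nat.card X = (inertia N θ0).index := by
    rw [Nat.card_congr hX, Nat.card_eq_fintype_card, Fintype.card_coe, card_orb]
  have hnd : ¬ p ∣ Nat.card X := by
    rw [hcard]
    intro h
    apply hpN
    exact h.trans (Subgroup.index_dvd_of_le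
      (le_inertia N (isClassFunction_of_isCharacter (isCharacter_of_isIrr hθ0))))
  haveI : Finite X := Finite.of_equiv _ hX.symm
  obtain ⟨θ, hθ⟩ := hA.nonempty_fixed_point_of_prime_not_dvd_card X hnd
  refine ⟨θ.1, θ.2.1, θ.2.2, ?_⟩
  intro a n
  have h1 := hθ a⁻¹
  have h2 := congrFun (congrArg Subtype.val h1) n
  change θ.1 (restrAct φ N hN a⁻¹⁻¹ n) = θ.1 n at h2
  rwa [inv_inv] at h2

omit [Fintype N] [Fintype K] [Finite A] in
/-- Two invariant constituents are conjugate by an element which is fixed modulo `N`. -/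
theorem exists_fixed_conj [Finite K] {p : ℕ} (hp : p.Prime) (hA : IsPGroup p A) (hpN : ¬ p ∣ N.index)
    (hN : ∀ a, ∀ n ∈ N, φ a n ∈ N) {θ θ' : N → ℂ}
    (hinv : Inv (restrAct φ N hN) θ) (hinv' : Inv (restrAct φ N hN) θ') {g : K}
    (hg : cj N g θ = θ') : ∃ k : K, (∀ a, φ a k * k⁻¹ ∈ N) ∧ cj N k θ = θ' := by
  classical
  haveI : Fact p.Prime := ⟨hp⟩
  let X := {y : K ⧸ N // ∃ x : K, (QuotientGroup.mk x : K ⧸ N) = y ∧ cj N x θ = θ'}
  -- twisting conjugates
  have hcj : ∀ (a : A) (x : K), cj N x θ = θ' → cj N (φ a x) θ = θ' := by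
    intro a x hx
    funext n
    have h1 : (⟨φ a x * n * (φ a x)⁻¹, (inferInstance : N.Normal).conj_mem (n : K) n.2 (φ a x)⟩ : N)
        = restrAct φ N hN a (⟨x * (restrAct φ N hN a⁻¹ n : N) * x⁻¹,
          (inferInstance : N.Normal).conj_mem _ (restrAct φ N hN a⁻¹ n).2 x⟩ : N) := by
      apply Subtype.ext
      rw [restrAct_apply]
      change φ a x * n * (φ a x)⁻¹ = φ a (x * φ a⁻¹ (n : K) * x⁻¹)
      have h0 : φ a (φ a⁻¹ (n : K)) = n := by
        rw [← MulAut.mul_apply, ← map_mul, mul_inv_cancel, map_one, MulAut.one_apply]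
      rw [map_mul (φ a), map_mul (φ a), map_inv (φ a), h0]
    rw [cj_apply, h1, hinv a]
    have h2 := congrFun hx (restrAct φ N hN a⁻¹ n)
    rw [cj_apply] at h2
    rw [h2, hinv' a⁻¹ n]
  letI : MulAction A X :=
    { smul := fun a y => ⟨quotAct φ N hN a y.1, by
        obtain ⟨x, hx, hx'⟩ := y.2
        refine ⟨φ a x, ?_, hcj a x hx'⟩
        rw [← hx, quotAct_mk]⟩
      one_smul := fun y => Subtype.ext (by
        change quotAct φ N hN 1 y.1 = y.1
        rw [map_one, MulAut.one_apply])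
      mul_smul := fun a b y => Subtype.ext (by
        change quotAct φ N hN (a * b) y.1 = quotAct φ N hN a (quotAct φ N hN b y.1)
        rw [map_mul, MulAut.mul_apply]) }
  let T := inertia N θ
  let Tb := T.map (QuotientGroup.mk' N)
  have hX : Tb ≃ X :=
    { toFun := fun t => ⟨t.1 * (QuotientGroup.mk g : K ⧸ N), by
        obtain ⟨t', ht', ht''⟩ := t.2
        refine ⟨t' * g, ?_, ?_⟩
        · rw [QuotientGroup.mk_mul]
          exact congrArg (· * (QuotientGroup.mk g : K ⧸ N)) ht''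
        · rw [cj_mul, show cj N t' θ = θ from ht', hg]⟩
      invFun := fun y => ⟨y.1 * (QuotientGroup.mk g : K ⧸ N)⁻¹, by
        obtain ⟨x, hx, hx'⟩ := y.2
        refine ⟨x * g⁻¹, ?_, ?_⟩
        · change cj N (x * g⁻¹) θ = θ
          rw [cj_mul, hx', ← hg, cj_inv_cj]
        · rw [← hx]
          rfl⟩
      left_inv := fun t => Subtype.ext (by simp)
      right_inv := fun y => Subtype.ext (by simp) }
  have hnd : ¬ p ∣ Nat.card X := by
    rw [← Nat.card_congr hX]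
    intro h
    apply hpN
    rw [Subgroup.index_eq_card]
    exact h.trans (Subgroup.card_subgroup_dvd_card Tb)
  haveI : Finite X := Finite.of_equiv _ hX
  obtain ⟨y, hy⟩ := hA.nonempty_fixed_point_of_prime_not_dvd_card X hnd
  obtain ⟨x, hx, hx'⟩ := y.2
  refine ⟨x, fun a => ?_, hx'⟩
  have h1 := congrArg Subtype.val (hy a)
  change quotAct φ N hN a y.1 = y.1 at h1
  rw [← hx, quotAct_mk, eq_comm, QuotientGroup.eq] at h1
  exact (Subgroup.Normal.mem_comm_iff inferInstance).mp h1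

end Generic

section Fixed

variable {K : Type u} [Group K] {D : Type w} [Group D] {A : Type v} [Group A]
  (φ : A →* MulAut K) (φD : A →* MulAut D) (Q : Subgroup K) [Q.Normal]
  (hQ : ∀ a, ∀ q ∈ Q, φ a q ∈ Q) (ι : D →* K) (hι : Function.Injective ι) (hQι : Q ≤ ι.range)
  (hfix : ∀ k, (∀ a, φ a k * k⁻¹ ∈ Q) ↔ k ∈ ι.range) (hφ : ∀ a d, ι (φD a d) = φ a (ι d))
  {θ : Q → ℂ} (T : Subgroup K) (hT : T = inertia Q θ)

@[simp] theorem qHom_coe (R : Subgroup K) (x : R.comap ι) : ((qHom R ι x : R) : K) = ι x := rfl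

include hQι in
theorem inertia_comap : (inertia Q θ).comap ι = inertia (Q.comap ι) (fun q => θ (qHom Q ι q)) := by
  ext d
  rw [Subgroup.mem_comap, mem_inertia_iff, mem_inertia_iff]
  constructor
  · intro h n
    have h1 := h (qHom Q ι n)
    rw [← h1]
    congr 1
    apply Subtype.ext
    simp
  · intro h n
    obtain ⟨e, he⟩ := hQι n.2
    have h1 := h ⟨e, by rw [Subgroup.mem_comap, he]; exact n.2⟩
    have h2 : qHom Q ι ⟨e, by rw [Subgroup.mem_comap, he]; exact n.2⟩ = n := Subtype.ext he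
    rw [h2] at h1
    rw [← h1]
    congr 1
    apply Subtype.ext
    simp [he]

include hT hQ in
theorem T_stable (hinv : Inv (restrAct φ Q hQ) θ) (a : A) (t : K) (ht : t ∈ T) : φ a t ∈ T := by
  rw [hT, mem_inertia_iff] at ht ⊢
  intro n
  have h0 : φ a (φ a⁻¹ (n : K)) = n := by
    rw [← MulAut.mul_apply, ← map_mul, mul_inv_cancel, map_one, MulAut.one_apply]
  have h1 : (⟨φ a t * n * (φ a t)⁻¹, (inferInstance : Q.Normal).conj_mem (n : K) n.2 (φ a t)⟩ : Q)
      = restrAct φ Q hQ a (⟨t * (restrAct φ Q hQ a⁻¹ n : Q) * t⁻¹,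
        (inferInstance : Q.Normal).conj_mem _ (restrAct φ Q hQ a⁻¹ n).2 t⟩ : Q) := by
    apply Subtype.ext
    rw [restrAct_apply]
    change φ a t * n * (φ a t)⁻¹ = φ a (t * φ a⁻¹ (n : K) * t⁻¹)
    rw [map_mul (φ a), map_mul (φ a), map_inv (φ a), h0]
  rw [h1, hinv a, ht, hinv a⁻¹ n]

include hT in
theorem exists_E [Finite K] {p : ℕ} (hp : p.Prime) (hQp : ∃ a : ℕ, Nat.card Q = p ^ a)
    (hpQ : ¬ p ∣ Q.index) (hθ : IsIrrCharacter Q θ) (hinv : Inv (restrAct φ Q hQ) θ)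
    (hTs : ∀ a, ∀ t ∈ T, φ a t ∈ T) (hQT : Q ≤ T) :
    ∃ E : T → ℂ, IsIrrCharacter T E ∧ (∀ q : Q, E ⟨q, hQT q.2⟩ = θ q) ∧
      Inv (restrAct φ T hTs) E := by
  classical
  let e : Q.subgroupOf T ≃* Q := Subgroup.subgroupOfEquivOfLe hQT
  let θ' : Q.subgroupOf T → ℂ := fun q => θ (e q)
  have hθ' : IsIrrCharacter (Q.subgroupOf T) θ' :=
    Cfsg.Agent.H75.isIrrCharacter_comp_equiv hθ e
  have hcop : (Nat.card (Q.subgroupOf T)).Coprime (Q.subgroupOf T).index := by
    obtain ⟨a, ha⟩ := hQp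
    rw [Nat.card_congr e.toEquiv, ha]
    apply Nat.Coprime.pow_left
    rw [hp.coprime_iff_not_dvd]
    intro h
    apply hpQ
    exact h.trans (Subgroup.relIndex_dvd_index_of_normal Q T)
  obtain ⟨E, hE, hEQ, hEα⟩ := exists_canonical_extension (Q.subgroupOf T) hcop hθ' (by
    intro g
    funext q
    have h1 : (g : K) ∈ inertia Q θ := hT ▸ g.2
    exact congrFun h1 (e q))
  refine ⟨E, hE, fun q => hEQ ⟨⟨q, hQT q.2⟩, q.2⟩, fun a t => ?_⟩
  refine hEα (restrAct φ T hTs a) (fun q hq => hQ a q hq) ?_ t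
  intro q q' hqq'
  have h2 : (e q') = restrAct φ Q hQ a (e q) := by
    apply Subtype.ext
    exact congrArg (Subtype.val : T → K) hqq'
  change θ (e q') = θ (e q)
  rw [h2, hinv a]

omit [Q.Normal] in
theorem over_iff [Fintype Q] [Fintype (Q.subgroupOf T)] (hQT : Q ≤ T) {E ψ : T → ℂ}
    (hE : ∀ q : Q, E ⟨q, hQT q.2⟩ = θ q) :
    classInner (fun q : Q.subgroupOf T => ψ q) (fun q : Q.subgroupOf T => E q)
      = classInner (fun n : Q => ψ ⟨n, hQT n.2⟩) θ := by
  rw [← classInner_comp_equiv (Subgroup.subgroupOfEquivOfLe hQT)]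
  have h1 : (fun q : Q.subgroupOf T => E q)
      = fun q => θ (Subgroup.subgroupOfEquivOfLe hQT q) := by
    funext q
    rw [← hE]
    rfl
  rw [h1]
  rfl

omit [Q.Normal] in
theorem overD_iff [Fintype (Q.comap ι)] [Fintype ((Q.subgroupOf T).comap (qHom T ι))] (hQT : Q ≤ T)
    (hQTD : Q.comap ι ≤ T.comap ι) {E : T → ℂ} {η : T.comap ι → ℂ}
    (hE : ∀ q : Q, E ⟨q, hQT q.2⟩ = θ q) :
    classInner (fun q : (Q.subgroupOf T).comap (qHom T ι) => η q)
      (fun q : (Q.subgroupOf T).comap (qHom T ι) => E (qHom T ι q))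
      = classInner (fun n : Q.comap ι => η ⟨n, hQTD n.2⟩) (fun n => θ (qHom Q ι n)) := by
  have key : ∀ e : (Q.subgroupOf T).comap (qHom T ι) ≃* Q.comap ι,
      (∀ q, ((e q : Q.comap ι) : D) = ((q : T.comap ι) : D)) →
      classInner (fun q : (Q.subgroupOf T).comap (qHom T ι) => η q)
        (fun q : (Q.subgroupOf T).comap (qHom T ι) => E (qHom T ι q))
        = classInner (fun n : Q.comap ι => η ⟨n, hQTD n.2⟩) (fun n => θ (qHom Q ι n)) := by
    intro e he
    rw [← classInner_comp_equiv e]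
    congr 1
    · funext q
      congr 1
      exact Subtype.ext (he q).symm
    · funext q
      rw [← hE]
      congr 1
      apply Subtype.ext
      change ι ((q : T.comap ι) : D) = ι ((e q : Q.comap ι) : D)
      rw [he]
  exact key (Subgroup.subgroupOfEquivOfLe hQTD) (fun _ => rfl)

include hι in
omit [Q.Normal] in
theorem qHom_injective (R : Subgroup K) : Function.Injective (qHom R ι) := fun a b hab =>
  Subtype.ext (hι (congrArg (Subtype.val : R → K) hab))

include hQι in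
omit [Q.Normal] in
theorem le_range_qHom (T : Subgroup K) : Q.subgroupOf T ≤ (qHom T ι).range := by
  intro x hx
  obtain ⟨d, hd⟩ := hQι (Subgroup.mem_subgroupOf.mp hx)
  exact ⟨⟨d, by rw [Subgroup.mem_comap, hd]; exact x.2⟩, Subtype.ext hd⟩

include hfix in
omit [Q.Normal] in
theorem fix_qHom (hTs : ∀ a, ∀ t ∈ T, φ a t ∈ T) (h : T) :
    (∀ a, restrAct φ T hTs a h * h⁻¹ ∈ Q.subgroupOf T) ↔ h ∈ (qHom T ι).range := by
  have h1 : (∀ a, restrAct φ T hTs a h * h⁻¹ ∈ Q.subgroupOf T) ↔ ∀ a, φ a h * (h : K)⁻¹ ∈ Q :=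
    Iff.rfl
  rw [h1, hfix]
  constructor
  · rintro ⟨d, hd⟩
    exact ⟨⟨d, by rw [Subgroup.mem_comap, hd]; exact h.2⟩, Subtype.ext hd⟩
  · rintro ⟨d, rfl⟩
    exact ⟨d, rfl⟩

theorem not_dvd_index_subgroupOf {p : ℕ} (hpQ : ¬ p ∣ Q.index) : ¬ p ∣ (Q.subgroupOf T).index := by
  intro h
  apply hpQ
  exact h.trans (Subgroup.relIndex_dvd_index_of_normal Q T)

section TLevel

variable [Fintype K] [Fintype D] [Finite A] [Fintype Q] [Fintype T] [Fintype (Q.comap ι)]
  [Fintype (T.comap ι)] {p : ℕ} (hp : p.Prime) (hA : IsPGroup p A)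
  (hQp : ∃ a : ℕ, Nat.card Q = p ^ a) (hpQ : ¬ p ∣ Q.index) (hθ : IsIrrCharacter Q θ)
  (hinv : Inv (restrAct φ Q hQ) θ) (hTs : ∀ a, ∀ t ∈ T, φ a t ∈ T) (hQT : Q ≤ T)
  (hQTD : Q.comap ι ≤ T.comap ι)

include hQ hι hQι hfix hT hp hA hQp hpQ hθ hinv


theorem T_below {ψ : T → ℂ} (hψ : IsIrrCharacter T ψ) (hψinv : Inv (restrAct φ T hTs) ψ)
    (hover : classInner (fun n : Q => ψ ⟨n, hQT n.2⟩) θ ≠ 0) :
    ∃ η : T.comap ι → ℂ, IsIrrCharacter (T.comap ι) η ∧
      classInner (fun n : Q.comap ι => η ⟨n, hQTD n.2⟩) (fun n => θ (qHom Q ι n)) ≠ 0 ∧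
      ∃ m : ℕ, classInner (fun d => ψ (qHom T ι d)) η = m ∧ ¬ p ∣ m ∧ (p : ℤ) ∣ (m : ℤ) ^ 2 - 1 ∧
      ∀ η' : T.comap ι → ℂ, IsIrrCharacter (T.comap ι) η' → η' ≠ η →
        classInner (fun n : Q.comap ι => η' ⟨n, hQTD n.2⟩) (fun n => θ (qHom Q ι n)) ≠ 0 →
        ∀ n : ℕ, classInner (fun d => ψ (qHom T ι d)) η' = n → p ∣ n := by
  classical
  obtain ⟨E, hE, hEQ, hEinv⟩ := exists_E φ Q hQ T hT hp hQp hpQ hθ hinv hTs hQT
  have : Fintype (Q.subgroupOf T) := Fintype.ofFinite _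
  have : Fintype ((Q.subgroupOf T).comap (qHom T ι)) := Fintype.ofFinite _
  have hEQ' : IsIrrCharacter (Q.subgroupOf T) (fun q : Q.subgroupOf T => E q) := by
    have h1 := Cfsg.Agent.H75.isIrrCharacter_comp_equiv hθ (Subgroup.subgroupOfEquivOfLe hQT)
    convert h1 using 1
    funext q
    exact hEQ (Subgroup.subgroupOfEquivOfLe hQT q)
  obtain ⟨η, hη, ho, m, hm, hpm, hsq, huniq⟩ := level_below (restrAct φ T hTs) (Q.subgroupOf T)
    (fun a q hq => hQ a q hq) (qHom T ι) (qHom_injective ι hι T) (le_range_qHom Q ι hQι T)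
    (fix_qHom φ Q ι hfix T hTs) hp hA (not_dvd_index_subgroupOf Q T hpQ) hE hEinv hEQ' hψ hψinv (by rw [over_iff Q T hQT hEQ]; exact hover)
  refine ⟨η, hη, ?_, m, hm, hpm, hsq, fun η' hη' hne hover' n hn => ?_⟩
  · rw [overD_iff Q ι T hQT hQTD hEQ] at ho
    exact ho
  · refine huniq η' hη' hne ?_ n hn
    rw [overD_iff Q ι T hQT hQTD hEQ]
    exact hover'

theorem T_above {η : T.comap ι → ℂ} (hη : IsIrrCharacter (T.comap ι) η)
    (hover : classInner (fun n : Q.comap ι => η ⟨n, hQTD n.2⟩) (fun n => θ (qHom Q ι n)) ≠ 0) :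
    ∃ ψ : T → ℂ, IsIrrCharacter T ψ ∧ Inv (restrAct φ T hTs) ψ ∧
      classInner (fun n : Q => ψ ⟨n, hQT n.2⟩) θ ≠ 0 ∧
      ∃ m : ℕ, classInner (fun d => ψ (qHom T ι d)) η = m ∧ ¬ p ∣ m := by
  classical
  obtain ⟨E, hE, hEQ, hEinv⟩ := exists_E φ Q hQ T hT hp hQp hpQ hθ hinv hTs hQT
  have : Fintype (Q.subgroupOf T) := Fintype.ofFinite _
  have : Fintype ((Q.subgroupOf T).comap (qHom T ι)) := Fintype.ofFinite _
  have hEQ' : IsIrrCharacter (Q.subgroupOf T) (fun q : Q.subgroupOf T => E q) := by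
    have h1 := Cfsg.Agent.H75.isIrrCharacter_comp_equiv hθ (Subgroup.subgroupOfEquivOfLe hQT)
    convert h1 using 1
    funext q
    exact hEQ (Subgroup.subgroupOfEquivOfLe hQT q)
  obtain ⟨ψ, hψ, hψinv, ho, m, hm, hpm⟩ := level_above (restrAct φ T hTs) (Q.subgroupOf T)
    (fun a q hq => hQ a q hq) (qHom T ι) (qHom_injective ι hι T) (le_range_qHom Q ι hQι T)
    (fix_qHom φ Q ι hfix T hTs) hp hA (not_dvd_index_subgroupOf Q T hpQ) hE hEinv hEQ' hη
    (by rw [overD_iff Q ι T hQT hQTD hEQ]; exact hover)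
  refine ⟨ψ, hψ, hψinv, ?_, m, hm, hpm⟩
  rw [over_iff Q T hQT hEQ] at ho
  exact ho

theorem T_unique {ψ ψ' : T → ℂ} (hψ : IsIrrCharacter T ψ) (hψinv : Inv (restrAct φ T hTs) ψ)
    (hover : classInner (fun n : Q => ψ ⟨n, hQT n.2⟩) θ ≠ 0)
    (hψ' : IsIrrCharacter T ψ') (hψinv' : Inv (restrAct φ T hTs) ψ')
    (hover' : classInner (fun n : Q => ψ' ⟨n, hQT n.2⟩) θ ≠ 0)
    {η : T.comap ι → ℂ} (hη : IsIrrCharacter (T.comap ι) η)
    (ho : classInner (fun n : Q.comap ι => η ⟨n, hQTD n.2⟩) (fun n => θ (qHom Q ι n)) ≠ 0)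
    {m n : ℕ} (hm : classInner (fun d => ψ (qHom T ι d)) η = m) (hpm : ¬ p ∣ m)
    (hn : classInner (fun d => ψ' (qHom T ι d)) η = n) (hpn : ¬ p ∣ n) : ψ = ψ' := by
  classical
  obtain ⟨E, hE, hEQ, hEinv⟩ := exists_E φ Q hQ T hT hp hQp hpQ hθ hinv hTs hQT
  have : Fintype (Q.subgroupOf T) := Fintype.ofFinite _
  have : Fintype ((Q.subgroupOf T).comap (qHom T ι)) := Fintype.ofFinite _
  have hEQ' : IsIrrCharacter (Q.subgroupOf T) (fun q : Q.subgroupOf T => E q) := by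
    have h1 := Cfsg.Agent.H75.isIrrCharacter_comp_equiv hθ (Subgroup.subgroupOfEquivOfLe hQT)
    convert h1 using 1
    funext q
    exact hEQ (Subgroup.subgroupOfEquivOfLe hQT q)
  exact level_unique (restrAct φ T hTs) (Q.subgroupOf T)
    (fun a q hq => hQ a q hq) (qHom T ι) (qHom_injective ι hι T) (le_range_qHom Q ι hQι T)
    (fix_qHom φ Q ι hfix T hTs) hp hA (not_dvd_index_subgroupOf Q T hpQ) hE hEinv hEQ' hψ hψinv
    (by rw [over_iff Q T hQT hEQ]; exact hover) hψ' hψinv'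
    (by rw [over_iff Q T hQT hEQ]; exact hover') hη
    (by rw [overD_iff Q ι T hQT hQTD hEQ]; exact ho) hm hpm hn hpn

include hφ in
theorem TD_inv {η : T.comap ι → ℂ} (hη : IsIrrCharacter (T.comap ι) η)
    (hover : classInner (fun n : Q.comap ι => η ⟨n, hQTD n.2⟩) (fun n => θ (qHom Q ι n)) ≠ 0)
    (a : A) (d d' : T.comap ι) (hd : (d' : D) = φD a d) : η d' = η d := by
  classical
  obtain ⟨E, hE, hEQ, hEinv⟩ := exists_E φ Q hQ T hT hp hQp hpQ hθ hinv (fun a t ht =>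
    T_stable φ Q hQ T hT hinv a t ht) (hT ▸ le_inertia Q (isClassFunction_of_isCharacter
      (isCharacter_of_isIrr hθ)))
  have hQT : Q ≤ T := hT ▸ le_inertia Q (isClassFunction_of_isCharacter
      (isCharacter_of_isIrr hθ))
  have : Fintype (Q.subgroupOf T) := Fintype.ofFinite _
  have : Fintype ((Q.subgroupOf T).comap (qHom T ι)) := Fintype.ofFinite _
  have hEQ' : IsIrrCharacter (Q.subgroupOf T) (fun q : Q.subgroupOf T => E q) := by
    have h1 := Cfsg.Agent.H75.isIrrCharacter_comp_equiv hθ (Subgroup.subgroupOfEquivOfLe hQT)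
    convert h1 using 1
    funext q
    exact hEQ (Subgroup.subgroupOfEquivOfLe hQT q)
  have hED := irr_res (Q.subgroupOf T) (qHom T ι) (qHom_injective ι hι T)
    (le_range_qHom Q ι hQι T) hE hEQ'
  have hEQD := irr_comap (Q.subgroupOf T) (qHom T ι) (qHom_injective ι hι T)
    (le_range_qHom Q ι hQι T) hEQ'
  obtain ⟨γ, hγ, hγE⟩ := Cfsg.Agent.Glaub.exists_irr_factor
    ((Q.subgroupOf T).comap (qHom T ι)) hED hEQD hη
    (by rw [overD_iff Q ι T hQT hQTD hEQ]; exact hover)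
  rw [hγE, hγE]
  have h1 : qHom T ι d' = restrAct φ T (fun a t ht => T_stable φ Q hQ T hT hinv a t ht) a
      (qHom T ι d) := by
    apply Subtype.ext
    rw [restrAct_apply, qHom_coe, qHom_coe, hd, hφ]
  have h2 : (QuotientGroup.mk d' : T.comap ι ⧸ (Q.subgroupOf T).comap (qHom T ι))
      = QuotientGroup.mk d := by
    rw [eq_comm, QuotientGroup.eq, Subgroup.mem_comap, Subgroup.mem_subgroupOf, qHom_coe]
    change ι ((d : D)⁻¹ * (d' : D)) ∈ Q
    rw [map_mul, map_inv, hd, hφ]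
    have h3 := (hfix (ι d)).mpr ⟨d, rfl⟩ a
    exact (Subgroup.Normal.mem_comm_iff inferInstance).mp h3
  rw [h1, hEinv a, h2]

end TLevel

end Fixed

end Cfsg.Agent.Char.RG
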