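import Cfsg.Agent.Char.FTIneq
import Cfsg.Agent.S0887

/-!
# Characters of small degree of `p`-nilpotent groups (owner: helper15)
-/

set_option autoImplicit false

namespace Cfsg.Agent.Char.SD

open Cfsg Cfsg.Agent.Char Cfsg.Agent.CharBase Cfsg.Agent.Char.FTI
open scoped ComplexConjugate

universe u

variable {G : Type u} [Group G] [Fintype G]

omit [Fintype G] in
/-- Commuting product of coprime orders: conjugacy of products forces conjugacy of the parts. -/
theorem conj_part {Q : Subgroup G} {y : G} (hy : (Nat.card Q).Coprime (orderOf y)) {c c' w : G}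
    (hc : c ∈ Q) (hc' : c' ∈ Q) (hcy : Commute c y) (hcy' : Commute c' y)
    (h : w * (c * y) * w⁻¹ = c' * y) : w * y * w⁻¹ = y := by
  obtain ⟨N, hN1, hN2⟩ := Nat.chineseRemainder hy 0 1
  have hpow : ∀ a : G, a ∈ Q → a ^ N = 1 := by
    intro a ha
    have h1 : orderOf a ∣ Nat.card Q := by
      have h2 := orderOf_dvd_natCard (⟨a, ha⟩ : Q)
      rwa [Subgroup.orderOf_mk] at h2
    exact orderOf_dvd_iff_pow_eq_one.mp (h1.trans (Nat.modEq_zero_iff_dvd.mp hN1))
  have hy1 : y ^ N = y := by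
    have h1 := pow_eq_pow_iff_modEq.mpr (hN2 : N ≡ 1 [MOD orderOf y])
    rwa [pow_one] at h1
  have h1 : (w * (c * y) * w⁻¹) ^ N = (c' * y) ^ N := by rw [h]
  rw [conj_pow, hcy.mul_pow, hcy'.mul_pow, hpow c hc, hpow c' hc', hy1, one_mul] at h1
  exact h1

omit [Fintype G] in
/-- Sums of class functions over a coset of a coprime normal subgroup. -/
theorem sum_coset (Q : Subgroup G) [hQ : Q.Normal] [Fintype Q] {y : G}
    (hy : (Nat.card Q).Coprime (orderOf y)) (C : Subgroup G) [Fintype C]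
    (hC : ∀ g : G, g ∈ C ↔ g ∈ Q ∧ Commute g y) (F : G → ℝ) (hF : ∀ g x : G, F (x * g * x⁻¹) = F g) :
    (Nat.card C : ℝ) * ∑ u : Q, F ((u : G) * y) = (Nat.card Q : ℝ) * ∑ c : C, F ((c : G) * y) := by
  classical
  have hCQ : ∀ c : C, (c : G) ∈ Q := fun c => ((hC _).mp c.2).1
  have hCy : ∀ c : C, Commute (c : G) y := fun c => ((hC _).mp c.2).2
  have hmem : ∀ q : Q × C, (q.1 : G) * q.2 * (y * (q.1 : G)⁻¹ * y⁻¹) ∈ Q := by
    intro q
    exact Q.mul_mem (Q.mul_mem q.1.2 (hCQ q.2)) (hQ.conj_mem _ (Q.inv_mem q.1.2) y)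
  let Φ : Q × C → Q := fun q => ⟨_, hmem q⟩
  have hΦ : ∀ q : Q × C, ((Φ q : Q) : G) * y = (q.1 : G) * ((q.2 : G) * y) * (q.1 : G)⁻¹ := by
    intro q
    change (q.1 : G) * q.2 * (y * (q.1 : G)⁻¹ * y⁻¹) * y = _
    group
  have hfib : ∀ v : Q, (Finset.univ.filter (fun q : Q × C => Φ q = v)).card ≤ Fintype.card C := by
    intro v
    by_cases hne : (Finset.univ.filter (fun q : Q × C => Φ q = v)).Nonempty
    · obtain ⟨q0, hq0⟩ := hne
      have hq0v := (Finset.mem_filter.mp hq0).2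
      have key : ∀ q : Q × C, Φ q = v → (q0.1 : G)⁻¹ * q.1 ∈ C := by
        intro q hq
        have h1 : (q.1 : G) * ((q.2 : G) * y) * (q.1 : G)⁻¹
            = (q0.1 : G) * ((q0.2 : G) * y) * (q0.1 : G)⁻¹ := by
          rw [← hΦ, ← hΦ, hq, hq0v]
        have h2 : ((q0.1 : G)⁻¹ * q.1) * ((q.2 : G) * y) * ((q0.1 : G)⁻¹ * q.1)⁻¹ = (q0.2 : G) * y := by
          have h3 : ((q0.1 : G)⁻¹ * q.1) * ((q.2 : G) * y) * ((q0.1 : G)⁻¹ * q.1)⁻¹
              = (q0.1 : G)⁻¹ * ((q.1 : G) * ((q.2 : G) * y) * (q.1 : G)⁻¹) * q0.1 := by group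
          rw [h3, h1]; group
        have h4 := conj_part hy (hCQ q.2) (hCQ q0.2) (hCy q.2) (hCy q0.2) h2
        rw [hC]
        refine ⟨Q.mul_mem (Q.inv_mem q0.1.2) q.1.2, ?_⟩
        rw [mul_inv_eq_iff_eq_mul] at h4
        exact h4
      rw [← Finset.card_univ]
      refine Finset.card_le_card_of_injOn (fun q => if h : (q0.1 : G)⁻¹ * q.1 ∈ C then ⟨_, h⟩ else 1)
        (fun q _ => Finset.mem_univ _) ?_
      intro q hq q' hq' hqq'
      have hqv := (Finset.mem_filter.mp hq).2
      have hqv' := (Finset.mem_filter.mp hq').2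
      simp only [key q hqv, key q' hqv', dif_pos] at hqq'
      have h1 : (q0.1 : G)⁻¹ * q.1 = (q0.1 : G)⁻¹ * q'.1 := congrArg Subtype.val hqq'
      have h2 : (q.1 : G) = q'.1 := mul_left_cancel h1
      have h3 : (q.1 : G) * ((q.2 : G) * y) * (q.1 : G)⁻¹ = (q'.1 : G) * ((q'.2 : G) * y) * (q'.1 : G)⁻¹ := by
        rw [← hΦ, ← hΦ, hqv, hqv']
      rw [h2] at h3
      have h4 : (q.2 : G) = q'.2 := mul_right_cancel (mul_left_cancel (mul_right_cancel h3))
      exact Prod.ext (Subtype.ext h2) (Subtype.ext h4)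
    · rw [Finset.not_nonempty_iff_eq_empty.mp hne, Finset.card_empty]
      exact Nat.zero_le _
  have hfibeq : ∀ v : Q, (Finset.univ.filter (fun q : Q × C => Φ q = v)).card = Fintype.card C := by
    have h1 : ∑ v : Q, (Finset.univ.filter (fun q : Q × C => Φ q = v)).card = ∑ _v : Q, Fintype.card C := by
      rw [← Finset.card_eq_sum_card_fiberwise (fun _ _ => Finset.mem_univ _), Finset.card_univ,
        Fintype.card_prod, Finset.sum_const, Finset.card_univ, smul_eq_mul]
    have h2 := (Finset.sum_eq_sum_iff_of_le (fun v (_ : v ∈ (Finset.univ : Finset Q)) => hfib v)).mp h1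
    exact fun v => h2 v (Finset.mem_univ _)
  have hA : ∑ q : Q × C, F (((Φ q : Q) : G) * y) = (Nat.card Q : ℝ) * ∑ c : C, F ((c : G) * y) := by
    rw [Fintype.sum_prod_type]
    have h1 : ∀ u : Q, ∑ c : C, F (((Φ (u, c) : Q) : G) * y) = ∑ c : C, F ((c : G) * y) := by
      intro u
      refine Finset.sum_congr rfl fun c _ => ?_
      rw [hΦ, hF]
    rw [Finset.sum_congr rfl fun u _ => h1 u, Finset.sum_const, Finset.card_univ, nsmul_eq_mul,
      Nat.card_eq_fintype_card]
  rw [← hA, ← Finset.sum_fiberwise_of_maps_to (s := Finset.univ) (t := Finset.univ) (g := Φ)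
    (fun _ _ => Finset.mem_univ _), Finset.mul_sum]
  refine Finset.sum_congr rfl fun v _ => ?_
  have h1 : ∑ q ∈ Finset.univ.filter (fun q => Φ q = v), F (((Φ q : Q) : G) * y)
      = ∑ q ∈ Finset.univ.filter (fun q => Φ q = v), F ((v : G) * y) :=
    Finset.sum_congr rfl fun q hq => by rw [(Finset.mem_filter.mp hq).2]
  rw [h1, Finset.sum_const, hfibeq, nsmul_eq_mul, Nat.card_eq_fintype_card]

omit [Fintype G] in
theorem self_inner (C : Subgroup G) [Fintype C] (f : C → ℂ) :
    classInner f f = (((Nat.card C : ℝ)⁻¹ * ∑ c : C, Complex.normSq (f c) : ℝ) : ℂ) := by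
  unfold classInner
  push_cast
  congr 1
  exact Finset.sum_congr rfl fun n _ => Complex.mul_conj _

/-- The components of a character on `C × X` with respect to the characters of `X`. -/
theorem component_isCharacter {C X : Subgroup G} [Fintype C] [Fintype X]
    (hcomm : ∀ c ∈ C, ∀ y ∈ X, Commute c y) {χ : G → ℂ} (hχ : IsCharacter G χ) {μ : X → ℂ}
    (hμ : IsIrrCharacter X μ) :
    IsCharacter C (fun c : C => classInner (fun y : X => χ ((c : G) * y)) μ) := by
  classical
  let κ : C × X →* G :=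
    { toFun := fun q => (q.1 : G) * q.2
      map_one' := by simp
      map_mul' := fun a b => by
        have := (hcomm _ b.1.2 _ a.2.2).eq
        simp only [Prod.fst_mul, Prod.snd_mul, Subgroup.coe_mul]
        rw [mul_assoc, ← mul_assoc (b.1 : G), this]
        group }
  have : Fintype (C × X) := Fintype.ofFinite _
  have h1 : IsCharacter (C × X) (χ ∘ κ) := isCharacter_comp hχ κ
  have h2 : IsCharacter (C × X) ((fun y => conj (μ y)) ∘ (MonoidHom.snd C X)) :=
    isCharacter_comp (isCharacter_of_isIrr (isIrrCharacter_conj hμ)) _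
  have h3 := isCharacter_mul h1 h2
  let N' : Subgroup (C × X) := (⊥ : Subgroup C).prod ⊤
  have hN' : N'.Normal := inferInstance
  have := Fintype.ofFinite N'
  have h4 := avgN_isCharacter N' h3
  have h5 := isCharacter_comp h4 (MonoidHom.inl C X)
  have h6 : (avgN N' ((χ ∘ κ) * ((fun y => conj (μ y)) ∘ (MonoidHom.snd C X)))) ∘ (MonoidHom.inl C X)
      = fun c : C => classInner (fun y : X => χ ((c : G) * y)) μ := by
    funext c
    rw [Function.comp_apply, avgN_apply, classInner]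
    let e : N' ≃ X :=
      { toFun := fun q => (q : C × X).2
        invFun := fun y => ⟨(1, y), by simp [N', Subgroup.mem_prod]⟩
        left_inv := fun q => by
          have hq := q.2
          simp only [N', Subgroup.mem_prod, Subgroup.mem_bot] at hq
          apply Subtype.ext
          exact Prod.ext hq.1.symm rfl
        right_inv := fun y => rfl }
    rw [Nat.card_congr e]
    congr 1
    rw [← Equiv.sum_comp e.symm]
    refine Finset.sum_congr rfl fun y _ => ?_
    simp [e, κ]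
  rw [h6] at h5
  exact h5

/-- **Key lemma**: in `G = Q⟨x⟩` with `Q` a normal `p'`-subgroup, `x` a `p`-element, `x ^ p` central,
an irreducible character of degree less than `p - 1` is scalar at `x`. -/
theorem norm_eq_of_small {p : ℕ} (hp : p.Prime) (Q : Subgroup G) [hQ : Q.Normal]
    (hpQ : ¬ p ∣ Nat.card Q) {x : G} {k : ℕ} (hx : orderOf x = p ^ k) (hQx : Q ⊔ Subgroup.zpowers x = ⊤)
    (hxp : x ^ p ∈ Subgroup.center G) {χ : G → ℂ} (hχ : IsIrrCharacter G χ) {d : ℕ} (hd : χ 1 = d)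
    (hdp : d + 1 < p) : ‖χ x‖ = d := by
  classical
  have := Fintype.ofFinite Q
  have hχc := isCharacter_of_isIrr hχ
  have hχcf := isClassFunction_of_isCharacter hχc
  rcases Nat.eq_zero_or_pos k with hk | hk
  · subst hk
    rw [pow_zero, orderOf_eq_one_iff] at hx
    rw [hx, hd]
    simp
  have hd0 : d ≠ 0 := by
    rintro rfl
    exact irr_one_ne_zero hχ (by rw [hd, Nat.cast_zero])
  -- `χ` restricts irreducibly to `Q`
  have hidx : ∃ j, Q.index = p ^ j := by
    have h1 : Q.index ∣ p ^ k := by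
      have h2 : Q.relIndex (Subgroup.zpowers x ⊔ Q) = Q.relIndex (Subgroup.zpowers x) :=
        Subgroup.relIndex_sup_right _ _
      rw [sup_comm, hQx, Subgroup.relIndex_top_right] at h2
      rw [h2, ← hx, ← Nat.card_zpowers]
      exact Subgroup.relIndex_dvd_card _ _
    obtain ⟨j, -, hj⟩ := (Nat.dvd_prime_pow hp).mp h1
    exact ⟨j, hj⟩
  obtain ⟨θ, hθ, hne⟩ := exists_constituent_restrict Q hχc (irr_one_ne_zero hχ)
  obtain ⟨b, hb⟩ := exists_nat_degree (isCharacter_of_isIrr hθ)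
  obtain ⟨h1, h2⟩ := Cfsg.Agent.S0887.result Q χ hχ θ hθ hne d b hd hb
  have hbd : d = b := by
    obtain ⟨j, hj⟩ := hidx
    rw [hj] at h2
    obtain ⟨i, -, hi⟩ := (Nat.dvd_prime_pow hp).mp h2
    have hb0 : 0 < b := Nat.pos_of_ne_zero (fun h => by
      rw [h, zero_dvd_iff] at h1; exact hd0 h1)
    rcases Nat.eq_zero_or_pos i with h0 | h0
    · rw [h0, pow_zero] at hi
      exact (Nat.eq_of_dvd_of_div_eq_one h1 hi).symm
    · exfalso
      have h3 : p ≤ p ^ i := Nat.le_self_pow h0.ne' p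
      have h4 : d / b ≤ d := Nat.div_le_self d b
      omega
  have hχQ : IsIrrCharacter Q (fun u : Q => χ u) := by
    have h3 : (fun u : Q => χ u) = θ := eq_of_degree_le (isCharacter_restrict hχc Q) hθ hne hb
      (show (fun u : Q => χ u) 1 = (d : ℂ) from hd) hbd.le
    rw [h3]; exact hθ
  let F : G → ℝ := fun g => Complex.normSq (χ g)
  have hF : ∀ g x : G, F (x * g * x⁻¹) = F g := fun g x => by simp only [F]; rw [hχcf]
  have hcoset : ∀ y : G, ∑ u : Q, F ((u : G) * y) = Nat.card Q := by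
    intro y
    have h3 := congrFun (avgN_mul_conj_of_restrict_irr Q hχ hχQ) y
    rw [avgN_apply] at h3
    have h4 := card_ne_zero_complex Q
    have h5 : ∑ n : Q, (χ * fun g => conj (χ g)) ((n : G) * y) = Nat.card Q := by
      field_simp at h3
      exact h3
    have h6 : ∑ n : Q, (χ * fun g => conj (χ g)) ((n : G) * y) = ((∑ u : Q, F ((u : G) * y) : ℝ) : ℂ) := by
      push_cast
      exact Finset.sum_congr rfl fun n _ => Complex.mul_conj _
    rw [h6] at h5
    exact_mod_cast h5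
  -- the centralizer of `x` in `Q`
  obtain ⟨C, hC⟩ : ∃ C : Subgroup G, ∀ g : G, g ∈ C ↔ g ∈ Q ∧ Commute g x :=
    ⟨Q ⊓ Subgroup.centralizer ({x} : Set G), fun g => by
      rw [Subgroup.mem_inf, Subgroup.mem_centralizer_singleton_iff]; rfl⟩
  have := Fintype.ofFinite C
  obtain ⟨X, hX⟩ : ∃ X : Subgroup G, X = Subgroup.zpowers x := ⟨_, rfl⟩
  have := Fintype.ofFinite X
  have hxX : x ∈ X := by rw [hX]; exact Subgroup.mem_zpowers x
  have hcardX : Nat.card X = p ^ k := by rw [hX, Nat.card_zpowers, hx]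
  have hCX : ∀ c ∈ C, ∀ y ∈ X, Commute c y := by
    intro c hc y hy
    rw [hX] at hy
    obtain ⟨i, rfl⟩ := Subgroup.mem_zpowers_iff.mp hy
    exact ((hC c).mp hc).2.zpow_right i
  have hcop : (Nat.card Q).Coprime (p ^ k) := ((Nat.Prime.coprime_iff_not_dvd hp).mpr hpQ).symm.pow_right k
  have hCr : (0 : ℝ) < Nat.card C := by exact_mod_cast Nat.card_pos
  have hQr : (0 : ℝ) < Nat.card Q := by exact_mod_cast Nat.card_pos
  -- generators
  have hgen : ∀ y ∈ X, y ∉ Subgroup.zpowers (x ^ p) → ∑ c : C, F ((c : G) * y) = Nat.card C := by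
    intro y hy hyp
    rw [hX] at hy
    have hy' : y ∈ Submonoid.powers x := mem_powers_iff_mem_zpowers.mpr hy
    obtain ⟨j, rfl⟩ := hy'
    simp only at hyp ⊢
    have hpj : ¬ p ∣ j := by
      rintro ⟨i, rfl⟩
      apply hyp
      rw [pow_mul]
      exact Subgroup.pow_mem _ (Subgroup.mem_zpowers _) i
    have hord : orderOf (x ^ j) = p ^ k := by
      rw [orderOf_pow, hx]
      have : Nat.gcd (p ^ k) j = 1 := ((Nat.Prime.coprime_iff_not_dvd hp).mpr hpj).pow_left k
      rw [this, Nat.div_one]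
    have hcomm : ∀ g : G, Commute g (x ^ j) ↔ Commute g x := by
      intro g
      constructor
      · intro h
        have h3 : Subgroup.zpowers (x ^ j) = Subgroup.zpowers x := by
          apply Subgroup.eq_of_le_of_card_ge
          · rw [Subgroup.zpowers_le]; exact Subgroup.pow_mem _ (Subgroup.mem_zpowers x) j
          · rw [Nat.card_zpowers, Nat.card_zpowers, hord, hx]
        have h4 : x ∈ Subgroup.zpowers (x ^ j) := by rw [h3]; exact Subgroup.mem_zpowers x
        obtain ⟨i, hi⟩ := Subgroup.mem_zpowers_iff.mp h4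
        rw [← hi]
        exact h.zpow_right i
      · intro h; exact h.pow_right j
    have h3 := sum_coset Q (y := x ^ j) (by rw [hord]; exact hcop) C
      (fun g => by rw [hC, hcomm]) F hF
    rw [hcoset] at h3
    have h4 : (Nat.card Q : ℝ) * (∑ c : C, F ((c : G) * x ^ j) - Nat.card C) = 0 := by
      rw [mul_sub, ← h3]; ring
    rcases mul_eq_zero.mp h4 with h5 | h5
    · exact absurd h5 hQr.ne'
    · linarith
  obtain ⟨s, hs⟩ := classInner_natCast (isCharacter_restrict hχc C) (isCharacter_restrict hχc C)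
  have hsum1 : ∑ c : C, F c = Nat.card C * s := by
    rw [self_inner] at hs
    have h3 : (Nat.card C : ℝ)⁻¹ * ∑ c : C, F c = s := by exact_mod_cast hs
    rw [← h3, ← mul_assoc, mul_inv_cancel₀ hCr.ne', one_mul]
  have hcen : ∀ y ∈ Subgroup.zpowers (x ^ p), ∑ c : C, F ((c : G) * y) = Nat.card C * s := by
    intro y hy
    have hyZ : y ∈ Subgroup.center G := by
      have : Subgroup.zpowers (x ^ p) ≤ Subgroup.center G := by rw [Subgroup.zpowers_le]; exact hxp
      exact this hy
    obtain ⟨l, hl, -, hlx⟩ := Cfsg.Agent.Char.CC.exists_scalar hχ y hyZ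
    rw [← hsum1]
    refine Finset.sum_congr rfl fun c _ => ?_
    simp only [F]
    rw [Subgroup.mem_center_iff.mp hyZ, hlx, Complex.normSq_mul, Complex.normSq_eq_norm_sq, hl]
    ring
  -- components
  have : Fintype (IrrCharacter X) := Fintype.ofFinite _
  have hXab : ∀ a ∈ X, ∀ b ∈ X, a * b = b * a := by
    intro a ha b hb
    rw [hX] at ha hb
    obtain ⟨i, rfl⟩ := Subgroup.mem_zpowers_iff.mp ha
    obtain ⟨j, rfl⟩ := Subgroup.mem_zpowers_iff.mp hb
    rw [← zpow_add, ← zpow_add, add_comm]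
  have hXlin : ∀ μ : IrrCharacter X, (μ : X → ℂ) 1 = 1 := (Cfsg.Agent.S0187.result (G := X)).mp
    (fun a b => Subtype.ext (hXab a a.2 b b.2))
  obtain ⟨ψ, hψ⟩ : ∃ ψ : IrrCharacter X → C → ℂ, ∀ μ c, ψ μ c = classInner (fun y : X => χ ((c : G) * y)) (μ : X → ℂ) :=
    ⟨_, fun _ _ => rfl⟩
  have hψc : ∀ μ, IsCharacter C (ψ μ) := by
    intro μ
    have h3 := component_isCharacter hCX hχc μ.2
    have h4 : ψ μ = fun c : C => classInner (fun y : X => χ ((c : G) * y)) μ := funext (hψ μ)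
    rw [h4]; exact h3
  have hclf : ∀ c : C, IsClassFunction X (fun y : X => χ ((c : G) * y)) := by
    intro c a b
    have : b * a * b⁻¹ = a := by
      apply Subtype.ext
      simp only [Subgroup.coe_mul, InvMemClass.coe_inv]
      rw [hXab _ b.2 _ a.2, mul_inv_cancel_right]
    rw [this]
  have hexp : ∀ (c : C) (y : X), χ ((c : G) * y) = ∑ μ, ψ μ c * (μ : X → ℂ) y := by
    intro c y
    have h3 := classFun_apply_eq_sum (hclf c) y
    rw [h3]
    exact Finset.sum_congr rfl fun μ _ => by rw [hψ]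
  choose a ha using fun μ => classInner_natCast (hψc μ) (hψc μ)
  choose e he using fun μ => exists_nat_degree (hψc μ)
  have hA : (p : ℝ) * ((∑ μ, a μ : ℕ) : ℝ) = s + (p - 1) := by
    have h3 : ∀ μ, (a μ : ℝ) = (Nat.card C : ℝ)⁻¹ * ∑ c : C, Complex.normSq (ψ μ c) := by
      intro μ
      have h4 := ha μ
      rw [self_inner] at h4
      exact_mod_cast h4.symm
    have h4 : ∀ c : C, ∑ μ, Complex.normSq (ψ μ c) = (Nat.card X : ℝ)⁻¹ * ∑ y : X, F ((c : G) * y) := by
      intro c
      have h5 := classInner_eq_sum (f' := fun y : X => χ ((c : G) * y)) (hclf c)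
      rw [self_inner] at h5
      have h6 : ∑ μ : IrrCharacter X, classInner (fun y : X => χ ((c : G) * y)) (μ : X → ℂ)
          * classInner (μ : X → ℂ) (fun y : X => χ ((c : G) * y))
          = ((∑ μ, Complex.normSq (ψ μ c) : ℝ) : ℂ) := by
        push_cast
        refine Finset.sum_congr rfl fun μ _ => ?_
        rw [Cfsg.Agent.Char.classInner_conj_symm (fun y : X => χ ((c : G) * y)) (μ : X → ℂ), Complex.mul_conj, hψ]
      rw [h6] at h5
      exact_mod_cast h5.symm
    have h5 : ((∑ μ, a μ : ℕ) : ℝ) = (Nat.card C : ℝ)⁻¹ * ((Nat.card X : ℝ)⁻¹ * ∑ y : X, ∑ c : C, F ((c : G) * y)) := by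
      push_cast
      rw [Finset.sum_congr rfl fun μ _ => h3 μ, ← Finset.mul_sum, Finset.sum_comm,
        Finset.sum_congr rfl fun c _ => h4 c, ← Finset.mul_sum, Finset.sum_comm]
    have h6 : ∀ y : X, ∑ c : C, F ((c : G) * y)
        = Nat.card C + (if (y : G) ∈ Subgroup.zpowers (x ^ p) then (Nat.card C : ℝ) * ((s : ℝ) - 1) else 0) := by
      intro y
      split_ifs with hy
      · rw [hcen y hy]; ring
      · rw [hgen y y.2 hy, add_zero]
    have h7 : (Finset.univ.filter (fun y : X => (y : G) ∈ Subgroup.zpowers (x ^ p))).card = p ^ (k - 1) := by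
      have h8 : Nat.card ((Subgroup.zpowers (x ^ p)).subgroupOf X) = p ^ (k - 1) := by
        rw [Nat.card_congr (Subgroup.subgroupOfEquivOfLe (by
          rw [hX, Subgroup.zpowers_le]; exact Subgroup.pow_mem _ (Subgroup.mem_zpowers x) p)).toEquiv,
          Nat.card_zpowers, orderOf_pow, hx, Nat.gcd_eq_right (dvd_pow_self p hk.ne')]
        rw [Nat.div_eq_of_eq_mul_left hp.pos]
        rw [← pow_succ, Nat.sub_add_cancel hk]
      rw [← h8, Nat.card_eq_fintype_card, ← Fintype.card_subtype]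
      exact Fintype.card_congr (Equiv.refl _)
    rw [h5, Finset.sum_congr rfl fun y _ => h6 y, Finset.sum_add_distrib, ← Finset.sum_filter,
      Finset.sum_const, Finset.sum_const, h7, Finset.card_univ, nsmul_eq_mul, nsmul_eq_mul,
      ← Nat.card_eq_fintype_card, hcardX]
    have hpk : (p : ℝ) ^ k = p ^ (k - 1) * p := by rw [← pow_succ, Nat.sub_add_cancel hk]
    have hpr : (p : ℝ) ≠ 0 := by exact_mod_cast hp.ne_zero
    push_cast
    rw [hpk]
    have hpk' : (p : ℝ) ^ (k - 1) ≠ 0 := pow_ne_zero _ hpr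
    field_simp
    ring
  -- the number of nonzero components
  obtain ⟨M, hM⟩ : ∃ M : Finset (IrrCharacter X), ∀ μ, μ ∈ M ↔ e μ ≠ 0 :=
    ⟨Finset.univ.filter (fun μ => e μ ≠ 0), fun μ => by simp⟩
  have hzero : ∀ μ, μ ∉ M → ∀ c, ψ μ c = 0 := by
    intro μ hμ c
    rw [hM, not_not] at hμ
    obtain ⟨n, hn, hle⟩ := norm_le_of_isCharacter (hψc μ) c
    have h3 : n = 0 := by
      rw [he, hμ] at hn
      exact_mod_cast hn.symm
    rw [h3, Nat.cast_zero] at hle
    exact norm_le_zero_iff.mp hle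
  have hone : ∀ μ ∈ M, 1 ≤ a μ := by
    intro μ hμ
    rw [hM] at hμ
    rcases Nat.eq_zero_or_pos (a μ) with h3 | h3
    · exfalso
      apply hμ
      have h4 := ha μ
      rw [self_inner, h3, Nat.cast_zero, Complex.ofReal_eq_zero] at h4
      rcases mul_eq_zero.mp h4 with h5 | h5
      · exact absurd h5 (inv_ne_zero hCr.ne')
      · rw [Finset.sum_eq_zero_iff_of_nonneg (fun c _ => Complex.normSq_nonneg _)] at h5
        have h6 := h5 1 (Finset.mem_univ _)
        rw [Complex.normSq_eq_zero, he] at h6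
        exact_mod_cast h6
    · exact h3
  have hda : (d : ℕ) = ∑ μ ∈ M, e μ := by
    have h3 := hexp 1 1
    simp only [Subgroup.coe_one, mul_one, hd, hXlin, he] at h3
    have h4 : ∑ μ, e μ = ∑ μ ∈ M, e μ := by
      symm
      apply Finset.sum_subset (Finset.subset_univ M)
      intro μ _ hμ
      rw [hM, not_not] at hμ
      exact hμ
    rw [← h4]
    exact_mod_cast h3
  have hmd : M.card ≤ d := by
    rw [hda, Finset.card_eq_sum_ones]
    exact Finset.sum_le_sum fun μ hμ => Nat.one_le_iff_ne_zero.mpr ((hM μ).mp hμ)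
  have hmA : M.card ≤ ∑ μ, a μ := by
    rw [Finset.card_eq_sum_ones]
    exact (Finset.sum_le_sum fun μ hμ => hone μ hμ).trans
      (Finset.sum_le_sum_of_subset (Finset.subset_univ M))
  have hsA : (s : ℝ) ≤ (M.card : ℝ) * ((∑ μ, a μ : ℕ) : ℝ) := by
    have h3 : ∀ c : C, F c ≤ (M.card : ℝ) * ∑ μ ∈ M, Complex.normSq (ψ μ c) := by
      intro c
      have h4 : χ (c : G) = ∑ μ ∈ M, ψ μ c := by
        have h5 := hexp c 1
        simp only [Subgroup.coe_one, mul_one, hXlin] at h5
        rw [h5]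
        symm
        apply Finset.sum_subset (Finset.subset_univ M)
        intro μ _ hμ
        exact hzero μ hμ c
      have h6 : F c = ‖∑ μ ∈ M, ψ μ c‖ ^ 2 := by
        simp only [F]
        rw [Complex.normSq_eq_norm_sq, h4]
      rw [h6]
      calc ‖∑ μ ∈ M, ψ μ c‖ ^ 2 ≤ (∑ μ ∈ M, ‖ψ μ c‖) ^ 2 :=
            pow_le_pow_left₀ (norm_nonneg _) (norm_sum_le _ _) 2
        _ ≤ (M.card : ℝ) * ∑ μ ∈ M, ‖ψ μ c‖ ^ 2 := sq_sum_le_card_mul_sum_sq
        _ = (M.card : ℝ) * ∑ μ ∈ M, Complex.normSq (ψ μ c) := by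
            congr 1
            exact Finset.sum_congr rfl fun μ _ => (Complex.normSq_eq_norm_sq _).symm
    have h4 : (Nat.card C : ℝ) * s ≤ (M.card : ℝ) * ((Nat.card C : ℝ) * ((∑ μ, a μ : ℕ) : ℝ)) := by
      rw [← hsum1]
      refine (Finset.sum_le_sum fun c _ => h3 c).trans ?_
      rw [← Finset.mul_sum, Finset.sum_comm]
      refine mul_le_mul_of_nonneg_left ?_ (Nat.cast_nonneg _)
      have h5 : ∀ μ, ∑ c : C, Complex.normSq (ψ μ c) = (Nat.card C : ℝ) * a μ := by
        intro μ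
        have h6 := ha μ
        rw [self_inner] at h6
        have h7 : (Nat.card C : ℝ)⁻¹ * ∑ c : C, Complex.normSq (ψ μ c) = a μ := by exact_mod_cast h6
        rw [← h7, ← mul_assoc, mul_inv_cancel₀ hCr.ne', one_mul]
      rw [Finset.sum_congr rfl fun μ _ => h5 μ, ← Finset.mul_sum]
      refine mul_le_mul_of_nonneg_left ?_ hCr.le
      push_cast
      exact Finset.sum_le_sum_of_subset_of_nonneg (Finset.subset_univ M)
        (fun μ _ _ => Nat.cast_nonneg _)
    have h5 : (Nat.card C : ℝ) * s ≤ (Nat.card C : ℝ) * ((M.card : ℝ) * ((∑ μ, a μ : ℕ) : ℝ)) := by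
      rw [← mul_assoc, mul_comm (Nat.card C : ℝ) (M.card : ℝ), mul_assoc]
      exact h4
    exact le_of_mul_le_mul_left h5 hCr
  have hm0 : M.card ≠ 0 := by
    intro h3
    rw [Finset.card_eq_zero.mp h3, Finset.sum_empty] at hda
    exact hd0 hda
  have hm1 : M.card = 1 := by
    by_contra h3
    have h4 : 2 ≤ M.card := by omega
    have h5 : (2 : ℝ) ≤ M.card := by exact_mod_cast h4
    have h6 : (M.card : ℝ) + 1 < p := by
      have : M.card + 1 < p := by omega
      exact_mod_cast this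
    have h6' : (M.card : ℝ) + 2 ≤ p := by
      have : M.card + 2 ≤ p := by omega
      exact_mod_cast this
    have h7 : (M.card : ℝ) ≤ ((∑ μ, a μ : ℕ) : ℝ) := by exact_mod_cast hmA
    nlinarith
  obtain ⟨μ0, hμ0⟩ := Finset.card_eq_one.mp hm1
  have h3 := hexp 1 ⟨x, hxX⟩
  have h4 : ∑ μ, ψ μ 1 * (μ : X → ℂ) ⟨x, hxX⟩ = ψ μ0 1 * (μ0 : X → ℂ) ⟨x, hxX⟩ := by
    rw [← Finset.sum_singleton (fun μ => ψ μ 1 * (μ : X → ℂ) ⟨x, hxX⟩) μ0, ← hμ0]
    symm
    apply Finset.sum_subset (Finset.subset_univ M)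
    intro μ _ hμ
    rw [hzero μ hμ, zero_mul]
  simp only [Subgroup.coe_one, one_mul] at h3
  rw [h3, h4, norm_mul, linChar_norm (isCharacter_of_isIrr μ0.2) (hXlin μ0), mul_one, he, hda, hμ0,
    Finset.sum_singleton, Complex.norm_natCast]

end Cfsg.Agent.Char.SD
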